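import Cfsg.Agent.MTwentyThreeUnique.EndgameRep
import Cfsg.Agent.Mathieu.M24Order

/-!
The two faithful representations of M24 of dimension 11 over the field with two elements: on the Golay code
modulo the all-one word, in the coordinates of the shortened code, and the contragredient one.
-/

set_option autoImplicit false

namespace CfsgLib.MTwentyFourUnique.Gl11

open Cfsg CfsgLib.Mathieu CfsgLib.M23Ext CfsgLib.MTwentyThreeUnique.Gl11 Matrix

/-- The all-one word. -/
def oneW : Word := fun _ => 1

theorem oneW_mem : oneW ∈ golayCode := by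
  have h := wordOf_mem_of_isCode (M := 16777215) (by decide +kernel)
  have e : wordOf 16777215 = oneW := funext fun p => by
    show (if (16777215 : ℕ).testBit (idx p) then 1 else 0) = _
    rw [(by decide +kernel : ∀ i < 24, (16777215 : ℕ).testBit i = true) _ (idx_lt p)]
    rfl
  rwa [e] at h

/-- The word vanishing at the extra point in the class modulo the all-one word. -/
def fixW : Word →ₗ[ZMod 2] Word := LinearMap.id + (LinearMap.proj (none : GolayPt)).smulRight oneW

theorem fixW_apply (w : Word) (p : GolayPt) : fixW w p = w p + w none := by simp [fixW, oneW]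

theorem fixW_oneW : fixW oneW = 0 := funext fun p => by
  rw [fixW_apply]; exact (by decide : (1 : ZMod 2) + 1 = 0)

theorem fixW_eq (w : Word) : fixW w = w + w none • oneW := funext fun p => by
  rw [fixW_apply]; simp [oneW]

theorem moveW_oneW (σ : Equiv.Perm GolayPt) : moveW σ oneW = oneW := rfl

theorem moveW_code {σ : Equiv.Perm GolayPt} (hσ : σ ∈ M24) {w : Word} (hw : w ∈ golayCode) :
    moveW σ w ∈ golayCode := by
  obtain ⟨u, hu, hu'⟩ : (support₂ w).image σ ∈ supports (golayCode : Set Word) :=
    setSystemAut_image_mem hσ ⟨w, hw, rfl⟩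
  rw [← support₂_moveW] at hu'
  rw [← support₂_injective hu']
  exact hu

theorem fixW_short {w : Word} (hw : w ∈ golayCode) : fixW w ∈ short := by
  refine ⟨?_, ?_⟩
  · rw [fixW_eq]
    exact add_mem hw (Submodule.smul_mem _ _ oneW_mem)
  · show fixW w none = 0
    rw [fixW_apply]
    exact CharTwo.add_self_eq_zero _

/-- The linear map of a member of M24. -/
def act24 (σ : M24) : V →ₗ[ZMod 2] V := coords ∘ₗ fixW ∘ₗ moveW (σ : Equiv.Perm GolayPt) ∘ₗ cw

theorem cw_act24 (σ : M24) (v : V) : cw (act24 σ v) = fixW (moveW (σ : Equiv.Perm GolayPt) (cw v)) :=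
  cw_coords (fixW_short (moveW_code σ.2 (cw_mem v).1))

/-- The representation on the code modulo the all-one word. -/
def repM24 : M24 →* M where
  toFun σ := LinearMap.toMatrix' (act24 σ)
  map_one' := by
    have h : act24 1 = LinearMap.id := LinearMap.ext fun v => by
      show coords (fixW (cw v)) = v
      rw [fixW_eq, (show cw v none = 0 from (cw_mem v).2), zero_smul, add_zero, coords_cw]
    rw [h, LinearMap.toMatrix'_id]
  map_mul' σ τ := by
    have h : act24 (σ * τ) = act24 σ ∘ₗ act24 τ := LinearMap.ext fun v => by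
      rw [LinearMap.comp_apply]
      show coords (fixW (moveW ((σ : Equiv.Perm GolayPt) * (τ : Equiv.Perm GolayPt)) (cw v))) =
        coords (fixW (moveW (σ : Equiv.Perm GolayPt) (cw (act24 τ v))))
      rw [cw_act24, fixW_eq (moveW (τ : Equiv.Perm GolayPt) (cw v)), map_add, map_smul, moveW_oneW, map_add,
        map_smul, fixW_oneW, smul_zero, add_zero]
      refine congrArg coords (congrArg fixW (funext fun p => ?_))
      simp [moveW, LinearMap.funLeft_apply]
    rw [h, LinearMap.toMatrix'_comp]

/-- The columns are those of the permutation of the table. -/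
def colsOKTwo (t : ℕ) (c : List ℕ) : Bool :=
  allBelow 11 fun j =>
    (push t 24 (shortRows.getD j 0) ^^^ (if (push t 24 (shortRows.getD j 0)).testBit 23 then 2047 else 0)) % 2048 ==
      c.getD j 0 % 2048

theorem repM24_eq {σ : M24} {t : ℕ} (h : Rep enc (σ : Equiv.Perm GolayPt) t) {c : List ℕ}
    (hc : colsOKTwo t c = true) : repM24 σ = toMat c := by
  refine ext_cols fun j => ?_
  have hj := beq_iff_eq.1 (allBelow_iff.1 hc j.val j.isLt)
  have hmove : moveW (σ : Equiv.Perm GolayPt) (wordOf (shortRows.getD j.val 0)) =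
      wordOf (push t 24 (shortRows.getD j.val 0)) := by
    refine support₂_injective ?_
    rw [support₂_moveW, support₂_wordOf, support₂_wordOf, image_setOf24 h]
  rw [show repM24 σ *ᵥ vecOf (2 ^ j.val) = act24 σ (vecOf (2 ^ j.val)) from LinearMap.toMatrix'_mulVec _ _,
    col_eq]
  funext i
  show coords (fixW (moveW _ (cw _))) i = _
  rw [cw_two_pow, hmove, coords_apply, fixW_apply, toMat_apply, ← bit_mod i.isLt, ← hj, bit_mod i.isLt,
    bit_xor]
  refine congrArg₂ (· + ·) ?_ ?_
  · show (if (push t 24 _).testBit (idx (pt i.val)) then _ else _) = _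
    rw [idx_pt (by omega)]
    rfl
  · show (if (push t 24 _).testBit 23 then 1 else 0) = bit _ _
    split_ifs
    · exact ((by decide +kernel : ∀ k : Fin 11, bit 2047 k.val = 1) i).symm
    · exact (bit_zero _).symm

/-- The value of a row at a position. -/
def rowBit (j i : ℕ) : Bool := (shortRows.getD j 0).testBit i

theorem no_translation : ∀ q < 23, ((List.range 24).any fun p => allBelow 24 fun i =>
    !(allBelow 11 fun j => rowBit j i == (rowBit j p != rowBit j q))) = true := by
  decide +kernel

theorem rowBit_none : ∀ j < 11, rowBit j 23 = false := by decide +kernel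

theorem repM24_injective : Function.Injective repM24 := by
  refine (injective_iff_map_eq_one _).2 fun σ hσ => ?_
  set s : Equiv.Perm GolayPt := (σ : Equiv.Perm GolayPt)
  have hfix : ∀ j < 11, ∀ p, rowBit j (idx (s⁻¹ p)) = (rowBit j (idx p) != rowBit j (idx (s⁻¹ none))) := by
    intro j hj p
    have h1 : fixW (moveW s (wordOf (shortRows.getD j 0))) = wordOf (shortRows.getD j 0) := by
      rw [← show cw (vecOf (2 ^ j)) = wordOf (shortRows.getD j 0) from cw_two_pow ⟨j, hj⟩, ← cw_act24]
      refine congrArg cw ?_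
      show act24 σ _ = _
      rw [← show repM24 σ *ᵥ vecOf (2 ^ j) = act24 σ (vecOf (2 ^ j)) from LinearMap.toMatrix'_mulVec _ _, hσ,
        Matrix.one_mulVec]
    have h2 := congrFun h1 p
    rw [fixW_apply] at h2
    revert h2
    show ((if rowBit j (idx (s⁻¹ p)) then (1 : ZMod 2) else 0) + if rowBit j (idx (s⁻¹ none)) then 1 else 0) =
      (if rowBit j (idx p) then (1 : ZMod 2) else 0) → _
    cases rowBit j (idx (s⁻¹ p)) <;> cases rowBit j (idx (s⁻¹ none)) <;> cases rowBit j (idx p) <;> decide
  have hnone : s⁻¹ none = none := by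
    by_contra hne
    have hq : idx (s⁻¹ none) < 23 := by
      refine lt_of_le_of_ne (Nat.lt_succ_iff.1 (idx_lt _)) fun h => hne (idx_injective ?_)
      rw [h]; rfl
    obtain ⟨p, hp, hp'⟩ := List.any_eq_true.1 (no_translation _ hq)
    have h := allBelow_iff.1 hp' _ (idx_lt (s⁻¹ (pt p)))
    rw [Bool.not_eq_true', ← Bool.not_eq_true] at h
    refine h (allBelow_iff.2 fun j hj => beq_iff_eq.2 ?_)
    rw [hfix j hj, idx_pt (List.mem_range.1 hp)]
  refine Subtype.ext (inv_eq_one.1 (Equiv.ext fun p => ?_))
  refine idx_injective (rows_separate _ (idx_lt _) _ (idx_lt _) (allBelow_iff.2 fun j hj => beq_iff_eq.2 ?_))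
  show rowBit j (idx (s⁻¹ p)) = rowBit j (idx p)
  rw [hfix j hj, hnone, show idx none = 23 from rfl, rowBit_none j hj, Bool.bne_false]

/-- The contragredient representation. -/
def repD24 : M24 →* M where
  toFun σ := (repM24 σ⁻¹)ᵀ
  map_one' := by simp
  map_mul' σ τ := by simp [_root_.mul_inv_rev, Matrix.transpose_mul]

theorem repD24_injective : Function.Injective repD24 := fun _ _ h =>
  inv_injective (repM24_injective (Matrix.transpose_injective h))

theorem repD24_eq {σ : M24} {c d : List ℕ} (h : repM24 σ = toMat c) (hd : dualOK c d = true) :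
    repD24 σ = toMat d := by
  simp only [dualOK, Bool.and_eq_true, beq_iff_eq] at hd
  obtain ⟨⟨⟨htr, hl⟩, hc⟩, hmul⟩ := hd
  have h1 : (toMat d)ᵀ * repM24 σ = 1 := by
    rw [h, ← toMat_isTr htr, ← toMat_mul hl hc, toMat_congr hmul, toMat_idM]
  have h2 : repM24 σ * repM24 σ⁻¹ = 1 := by rw [← map_mul, mul_inv_cancel, map_one]
  show (repM24 σ⁻¹)ᵀ = _
  rw [← left_inv_eq_right_inv h1 h2, Matrix.transpose_transpose]

end CfsgLib.MTwentyFourUnique.Gl11
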