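import Cfsg.Agent.MTwentyFourUnique.EndgameChecks

/-!
The classification of the 2048 candidates: blocks 0 to 3.
-/

set_option autoImplicit false

namespace CfsgLib.MTwentyFourUnique.Gl11

theorem blockTwo_ok0 : checkBlockTwo 0 = true := by decide +kernel

theorem blockTwo_ok1 : checkBlockTwo 1 = true := by decide +kernel

theorem blockTwo_ok2 : checkBlockTwo 2 = true := by decide +kernel

theorem blockTwo_ok3 : checkBlockTwo 3 = true := by decide +kernel

end CfsgLib.MTwentyFourUnique.Gl11
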