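import Cfsg.Agent.MTwentyFourUnique.EndgameChecks

/-!
The classification of the 2048 candidates: blocks 4 to 7.
-/

set_option autoImplicit false

namespace CfsgLib.MTwentyFourUnique.Gl11

theorem blockTwo_ok4 : checkBlockTwo 4 = true := by decide +kernel

theorem blockTwo_ok5 : checkBlockTwo 5 = true := by decide +kernel

theorem blockTwo_ok6 : checkBlockTwo 6 = true := by decide +kernel

theorem blockTwo_ok7 : checkBlockTwo 7 = true := by decide +kernel

end CfsgLib.MTwentyFourUnique.Gl11
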