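import Cfsg.Agent.MTwentyFourUnique.EndgameChecks

/-!
The classification of the 2048 candidates: blocks 8 to 11.
-/

set_option autoImplicit false

namespace CfsgLib.MTwentyFourUnique.Gl11

theorem blockTwo_ok8 : checkBlockTwo 8 = true := by decide +kernel

theorem blockTwo_ok9 : checkBlockTwo 9 = true := by decide +kernel

theorem blockTwo_ok10 : checkBlockTwo 10 = true := by decide +kernel

theorem blockTwo_ok11 : checkBlockTwo 11 = true := by decide +kernel

end CfsgLib.MTwentyFourUnique.Gl11
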