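import Cfsg.Agent.MTwentyFourUnique.EndgameChecks

/-!
The classification of the 2048 candidates: blocks 12 to 15.
-/

set_option autoImplicit false

namespace CfsgLib.MTwentyFourUnique.Gl11

theorem blockTwo_ok12 : checkBlockTwo 12 = true := by decide +kernel

theorem blockTwo_ok13 : checkBlockTwo 13 = true := by decide +kernel

theorem blockTwo_ok14 : checkBlockTwo 14 = true := by decide +kernel

theorem blockTwo_ok15 : checkBlockTwo 15 = true := by decide +kernel

end CfsgLib.MTwentyFourUnique.Gl11
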