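import Cfsg.Agent.MTwentyThreeUnique.EndgameClass
import Cfsg.Agent.MTwentyFourUnique.EndgameBlocksA
import Cfsg.Agent.MTwentyFourUnique.EndgameBlocksB
import Cfsg.Agent.MTwentyFourUnique.EndgameBlocksC
import Cfsg.Agent.MTwentyFourUnique.EndgameBlocksD

/-!
An element normalising the cyclic shift as its square does is a permutation times a circulant; when its tenth
power is trivial and the nine words have order dividing that of M24, it is one of the two survivors up to a
power of the shift.
-/

set_option autoImplicit false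

namespace CfsgLib.MTwentyFourUnique.Gl11

open CfsgLib.Mathieu CfsgLib.M23Ext CfsgLib.MTwentyThreeUnique.Gl11 Matrix

theorem checkTwo_ok {u : ℕ} (hu : u < 2048) : checkTwo u = true := by
  have hblock : ∀ b < 16, checkBlockTwo b = true := fun b hb => by
    interval_cases b
    exacts [blockTwo_ok0, blockTwo_ok1, blockTwo_ok2, blockTwo_ok3, blockTwo_ok4, blockTwo_ok5, blockTwo_ok6,
      blockTwo_ok7, blockTwo_ok8, blockTwo_ok9, blockTwo_ok10, blockTwo_ok11, blockTwo_ok12, blockTwo_ok13,
      blockTwo_ok14, blockTwo_ok15]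
  have h := allBelow_iff.1 (hblock (u / 128) (by omega)) (u % 128) (Nat.mod_lt _ (by norm_num))
  rwa [Nat.div_add_mod] at h

theorem two_checks : sameM (powM 4 mPTwo 10) idM = true ∧
    sameM (mulM (powM 4 mPTwo 9) (powM 2 mB 2)) (mulM mB (powM 4 mPTwo 9)) = true := by
  decide +kernel

theorem exists_candTwo {D : M} (hD : D * toMat mB = toMat mB ^ 2 * D) :
    ∃ u < 2048, D = toMat (candTwo u) := by
  obtain ⟨cP, cPB⟩ := two_checks
  have hP : toMat mPTwo * toMat mPTwo ^ 9 = 1 := by
    rw [← pow_succ', ← toMat_powM 4 mPTwo 10 rfl (by norm_num), toMat_congr cP, toMat_idM]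
  set Q : M := toMat mPTwo ^ 9 * D with hQ
  have hQB : Q * toMat mB = toMat mB * Q := by
    have h := toMat_congr cPB
    rw [toMat_mul (powM_length 4 mPTwo 9 rfl) (powM_length 2 mB 2 rfl),
      toMat_mul rfl (powM_length 4 mPTwo 9 rfl), toMat_powM 4 mPTwo 9 rfl (by norm_num),
      toMat_powM 2 mB 2 rfl (by norm_num)] at h
    rw [hQ, mul_assoc, hD, ← mul_assoc, h, mul_assoc]
  obtain ⟨u, hu, hcol⟩ := exists_vecOf (Q *ᵥ vecOf 1)
  obtain ⟨cR, cR0⟩ := rot_checks
  have hcols : ∀ j < 11, Q *ᵥ vecOf (2 ^ j) = vecOf (rot u j) := by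
    intro j
    induction j with
    | zero => intro _; rw [pow_zero, beq_iff_eq.1 (allBelow_iff.1 cR0 u hu), hcol]
    | succ j ih =>
      intro hj
      rw [← shift_cols j (by omega), ← toMat_mulVec mB rfl, Matrix.mulVec_mulVec, hQB,
        ← Matrix.mulVec_mulVec, ih (by omega), toMat_mulVec mB rfl,
        beq_iff_eq.1 (allBelow_iff.1 (allBelow_iff.1 cR j (by omega)) u hu)]
  have hQc : Q = toMat (circ u) := ext_cols fun j => by
    rw [hcols j.val j.isLt, col_eq]
    funext i
    show bit _ _ = bit ((circ u).getD j.val 0) i.val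
    refine congrArg (fun n => bit n i.val) ?_
    have : j.val < 11 := j.isLt
    simp [circ, List.getD_eq_getElem?_getD, this]
  refine ⟨u, hu, ?_⟩
  rw [candTwo, toMat_mul rfl (by simp [circ]), ← hQc, hQ, ← mul_assoc, hP, one_mul]

theorem candTwo_length (u : ℕ) : (candTwo u).length = 11 := by simp [candTwo, mulM, circ]

/-- The classification. -/
theorem exists_survivorTwo {u : ℕ} (hu : u < 2048) (h10 : toMat (candTwo u) ^ 10 = 1)
    (hw : ∀ k, 1 ≤ k → k ≤ 9 → toMat (wordTwo k (candTwo u)) ^ ordM24 = 1) :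
    ∃ s : ℕ, ∃ u₀ : ℕ, (u₀ = uCode ∨ u₀ = uCocode) ∧
      toMat (candTwo u) * toMat mB ^ s = toMat (candTwo u₀) := by
  have hl := candTwo_length u
  have h := checkTwo_ok hu
  simp only [checkTwo] at h
  split_ifs at h with h0 h9
  · exfalso
    simp only [Bool.not_eq_true', beq_eq_false_iff_ne] at h
    refine h (eq_of_vecOf_eq (Nat.mod_lt _ (by norm_num)) (by norm_num) ?_)
    have e : vecOf (tenth (candTwo u)) = vecOf 1 := by
      have h' : toMat (candTwo u) ^ 10 *ᵥ vecOf 1 = vecOf 1 := by rw [h10, Matrix.one_mulVec]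
      simp only [pow_succ', pow_zero, mul_one, ← Matrix.mulVec_mulVec, toMat_mulVec _ hl] at h'
      exact h'
    rw [← e]
    funext i
    exact bit_mod i.isLt
  · exfalso
    simp only [Bool.not_eq_true'] at h
    set k := getTab kindTab 4 u
    have hlen : (wordTwo k (candTwo u)).length = 11 := by
      unfold wordTwo
      split_ifs <;> simp [mulM, hl]
    have hone : toMat (powM 28 (wordTwo k (candTwo u)) ordM24) = toMat idM := by
      rw [toMat_powM 28 _ ordM24 hlen (by decide), hw k (by omega) h9, toMat_idM]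
    rw [sameM_of_eq hone] at h
    exact Bool.noConfusion h
  · exact ⟨getTab shiftTab 4 u, uCode, Or.inl rfl, by
      rw [← toMat_congr h, toMat_mul hl (powM_length 4 mB _ rfl),
        toMat_powM 4 mB _ rfl (show getTab shiftTab 4 u < 2 ^ 4 from Nat.mod_lt _ (by norm_num))]⟩
  · exact ⟨getTab shiftTab 4 u, uCocode, Or.inr rfl, by
      rw [← toMat_congr h, toMat_mul hl (powM_length 4 mB _ rfl),
        toMat_powM 4 mB _ rfl (show getTab shiftTab 4 u < 2 ^ 4 from Nat.mod_lt _ (by norm_num))]⟩

end CfsgLib.MTwentyFourUnique.Gl11
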