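import Cfsg.Agent.MTwentyThreeUnique.Endgame
import Cfsg.Agent.MTwentyFourUnique.EndgameClass
import Cfsg.Agent.MTwentyFourUnique.EndgameRep

/-!
A group of the order of M24 with a faithful representation of dimension 11 over the field with two elements,
containing a Frobenius group of order 253 and an element of order 10 normalising its subgroup of order 11, is
isomorphic to M24.
-/

set_option autoImplicit false

namespace CfsgLib.MTwentyFourUnique

namespace Gl11

open Cfsg CfsgLib.Mathieu CfsgLib.M23Ext CfsgLib.M24Classes CfsgLib.MTwentyThreeUnique.Gl11 Matrix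

theorem tabs24_ok : isM24Tab tA = true ∧ isM24Tab tAInv = true ∧ isM24Tab tB = true ∧ isM24Tab tD = true := by
  decide +kernel

/-- The checks of one of the two survivors. -/
def survTwo (ta : ℕ) (fa fb fd X Xi ws wp wc : List ℕ) (u : ℕ) : Bool :=
  X.length == 11 && Xi.length == 11 && fa.length == 11 && fb.length == 11 && fd.length == 11 &&
    sameM (mulM X Xi) idM && sameM (mulM Xi X) idM && sameM (mulM X mA) (mulM fa X) &&
      sameM (mulM X mB) (mulM fb X) && sameM (mulM X (candTwo u)) (mulM fd X) &&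
        tableOK shiftOne (M23Gen.evalW [ta, tB, tD] ws) &&
          tableOK projInvFun (M23Gen.evalW [ta, tB, tD] wp) &&
            tableOK cubeTwistFun (M23Gen.evalW [ta, tB, tD] wc)

theorem code24_ok :
    survTwo tA codeA codeB codeD codeX codeXInv codeWS codeWP codeWC uCode = true := by
  decide +kernel

theorem cocode24_ok :
    survTwo tAInv cocodeA cocodeB cocodeD cocodeX cocodeXInv cocodeWS cocodeWP cocodeWC uCocode = true := by
  decide +kernel

theorem code24_mats : colsOKTwo tA codeA = true ∧ colsOKTwo tB codeB = true ∧ colsOKTwo tD codeD = true := by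
  decide +kernel

theorem cocode24_mats :
    colsOKTwo tAInv dualRowA = true ∧ dualOK dualRowA cocodeA = true ∧
    colsOKTwo tB dualRowB = true ∧ dualOK dualRowB cocodeB = true ∧
    colsOKTwo tD dualRowD = true ∧ dualOK dualRowD cocodeD = true := by
  decide +kernel

variable {G : Type*} [Group G] [Finite G]

theorem exists_range_of_surv (hG : Nat.card G = 244823040) (π : G →* GL (Fin 11) (ZMod 2))
    (hπ : Function.Injective π) (F : M24 →* M) (hF : Function.Injective F)
    {ta : ℕ} {fa fb fd X Xi ws wp wc : List ℕ} {u : ℕ} (hok : survTwo ta fa fb fd X Xi ws wp wc u = true)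
    {σa σb σd : M24} (ra : Rep enc (σa : Equiv.Perm GolayPt) ta)
    (rb : Rep enc (σb : Equiv.Perm GolayPt) tB) (rd : Rep enc (σd : Equiv.Perm GolayPt) tD)
    (ea : F σa = toMat fa) (eb : F σb = toMat fb) (ed : F σd = toMat fd)
    {a b d : G} (ha : (π a : M) = toMat mA) (hb : (π b : M) = toMat mB) (hd : (π d : M) = toMat (candTwo u)) :
    ∃ X : GL (Fin 11) (ZMod 2), ((MulAut.conj X).toMonoidHom.comp π).range = F.toHomUnits.range := by
  simp only [survTwo, Bool.and_eq_true, beq_iff_eq] at hok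
  obtain ⟨⟨⟨⟨⟨⟨⟨⟨⟨⟨⟨⟨lX, lXi⟩, la⟩, lb⟩, ld⟩, hXXi⟩, hXiX⟩, hA⟩, hB⟩, hD⟩, hws⟩, hwp⟩, hwc⟩ := hok
  let Xu : GL (Fin 11) (ZMod 2) := ⟨toMat X, toMat Xi,
    by rw [← toMat_mul lX lXi, toMat_congr hXXi, toMat_idM],
    by rw [← toMat_mul lXi lX, toMat_congr hXiX, toMat_idM]⟩
  let π' : G →* GL (Fin 11) (ZMod 2) := (MulAut.conj Xu).toMonoidHom.comp π
  have hπ' : Function.Injective π' := (MulAut.conj Xu).injective.comp hπ
  let Fu : M24 →* GL (Fin 11) (ZMod 2) := F.toHomUnits
  have hFu : Function.Injective Fu := fun s t h => hF (congrArg Units.val h)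
  have key : ∀ (g : G) (σ : M24) (m f : List ℕ), m.length = 11 → f.length = 11 →
      (π g : M) = toMat m → F σ = toMat f → sameM (mulM X m) (mulM f X) = true →
      σ ∈ π'.range.comap Fu := by
    intro g σ m f hm hf e1 e2 hcheck
    refine Subgroup.mem_comap.2 ⟨g, Units.ext ?_⟩
    show toMat X * (π g : M) * toMat Xi = F σ
    rw [e1, e2, ← toMat_mul lX hm, toMat_congr hcheck, toMat_mul hf lX, mul_assoc,
      show toMat X * toMat Xi = 1 from Xu.val_inv, mul_one]
  have hσa := key a σa mA fa rfl la ha ea hA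
  have hσb := key b σb mB fb rfl lb hb eb hB
  have hσd := key d σd (candTwo u) fd (candTwo_length u) ld hd ed hD
  set H : Subgroup M24 := π'.range.comap Fu
  have hgs : ∀ t ∈ [ta, tB, tD], InGroup enc (H.map M24.subtype) t := by
    intro t ht
    simp only [List.mem_cons, List.not_mem_nil, or_false] at ht
    rcases ht with rfl | rfl | rfl
    exacts [⟨_, ⟨σa, hσa, rfl⟩, ra⟩, ⟨_, ⟨σb, hσb, rfl⟩, rb⟩, ⟨_, ⟨σd, hσd, rfl⟩, rd⟩]
  have hin : ∀ {σ : Equiv.Perm GolayPt} {w : List ℕ} (f : GolayPt → GolayPt), (∀ p, σ p = f p) →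
      tableOK f (M23Gen.evalW [ta, tB, tD] w) = true → σ ∈ H.map M24.subtype := by
    intro σ w f hf ht
    obtain ⟨τ, hτ, hr⟩ := M23Gen.evalW_inGroup hgs w
    rwa [rep_unique (rep_of_tableOK f hf ht) hr]
  have hmap : H.map M24.subtype = M24 := by
    refine le_antisymm (Subgroup.map_subtype_le H) ?_
    conv_lhs => rw [← m24Gen_eq]
    rw [m24Gen, Subgroup.closure_le]
    rintro g (rfl | rfl | rfl)
    · exact hin _ (fun _ => rfl) hws
    · exact hin projInvFun (fun _ => rfl) hwp
    · exact hin cubeTwistFun (fun p => Equiv.ofBijective_apply (f := cubeTwistFun) _ p) hwc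
  have htop : H = ⊤ := Subgroup.map_injective M24.subtype_injective
    (by rw [hmap, ← MonoidHom.range_eq_map, Subgroup.range_subtype])
  have hle : Fu.range ≤ π'.range := by
    rintro x ⟨σ, rfl⟩
    exact Subgroup.mem_comap.1 (show σ ∈ H from htop ▸ Subgroup.mem_top σ)
  have heq : Fu.range = π'.range := by
    refine Subgroup.eq_of_le_of_card_ge hle ?_
    rw [← Nat.card_congr (MonoidHom.ofInjective hπ').toEquiv,
      ← Nat.card_congr (MonoidHom.ofInjective hFu).toEquiv, hG, card_M24]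
  exact ⟨Xu, heq.symm⟩

end Gl11

open Cfsg CfsgLib.Mathieu CfsgLib.M24Classes CfsgLib.MTwentyThreeUnique.Gl11 Gl11 Matrix

/-- The endgame of the uniqueness of M24: the image of the representation is conjugate to the image of one of
the two representations on the code modulo the all-one word and its dual. -/
theorem exists_range_of_rep {G : Type*} [Group G] [Finite G] (hG : Nat.card G = 244823040)
    (rho : G →* GL (Fin 11) (ZMod 2)) (hrho : Function.Injective rho) (a b d : G) (ha : orderOf a = 23)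
    (hb : orderOf b = 11) (hd : d ^ 10 = 1) (hab : b * a * b⁻¹ = a ^ 2) (hdb : d * b * d⁻¹ = b ^ 2) :
    ∃ X : GL (Fin 11) (ZMod 2),
      ((MulAut.conj X).toMonoidHom.comp rho).range = repM24.toHomUnits.range ∨
        ((MulAut.conj X).toMonoidHom.comp rho).range = repD24.toHomUnits.range := by
  have ha23 : a ^ 23 = 1 := orderOf_dvd_iff_pow_eq_one.1 (dvd_of_eq ha)
  have hX23 : (rho a : M) ^ 23 = 1 := by
    rw [← Units.val_pow_eq_pow_val, ← map_pow, ha23, map_one, Units.val_one]
  have hX1 : (rho a : M) ≠ 1 := by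
    intro h
    have : a = 1 := hrho (by rw [map_one]; exact Units.ext h)
    simp [this] at ha
  obtain ⟨a', hab', hf⟩ : ∃ a' : G, b * a' * b⁻¹ = a' ^ 2 ∧ fX (rho a' : M) = 0 := by
    rcases exists_root hX23 hX1 with h | h
    · exact ⟨a, hab, h⟩
    · refine ⟨a ^ 22, ?_, ?_⟩
      · rw [← conj_pow, hab, ← pow_mul, ← pow_mul, mul_comm]
      · rw [map_pow, Units.val_pow_eq_pow_val]; exact h
  have hY11 : (rho b : M) ^ 11 = 1 := by
    rw [← Units.val_pow_eq_pow_val, ← map_pow, orderOf_dvd_iff_pow_eq_one.1 (dvd_of_eq hb), map_one,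
      Units.val_one]
  have hYX : (rho b : M) * (rho a' : M) = (rho a' : M) ^ 2 * (rho b : M) := by
    rw [← Units.val_pow_eq_pow_val, ← Units.val_mul, ← Units.val_mul, ← map_pow, ← map_mul, ← map_mul,
      ← hab', inv_mul_cancel_right]
  obtain ⟨Φ, hΦ, hA, hB⟩ := exists_basis hf hY11 hYX
  obtain ⟨φ, rfl⟩ := hΦ
  let π : G →* GL (Fin 11) (ZMod 2) := (MulAut.conj φ⁻¹).toMonoidHom.comp rho
  have hπ : Function.Injective π := (MulAut.conj φ⁻¹).injective.comp hrho
  have val : ∀ g, (π g : M) = (↑φ⁻¹ : M) * (rho g : M) * (↑φ : M) := fun g => by simp [π]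
  have hπa : (π a' : M) = toMat mA := by
    rw [val, mul_assoc, hA, ← mul_assoc, Units.inv_mul, one_mul]
  have hπb : (π b : M) = toMat mB := by
    rw [val, mul_assoc, hB, ← mul_assoc, Units.inv_mul, one_mul]
  have hD : (π d : M) * toMat mB = toMat mB ^ 2 * (π d : M) := by
    rw [← hπb, ← Units.val_pow_eq_pow_val, ← Units.val_mul, ← Units.val_mul, ← map_pow, ← map_mul, ← map_mul,
      ← hdb, inv_mul_cancel_right]
  obtain ⟨u, hu, hπd⟩ := exists_candTwo hD
  have hdu := candTwo_length u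
  have hpow : ∀ g : G, (π g : M) ^ ordM24 = 1 := fun g => by
    rw [← Units.val_pow_eq_pow_val, ← map_pow, ordM24, ← hG, pow_card_eq_one', map_one, Units.val_one]
  have h10 : toMat (candTwo u) ^ 10 = 1 := by
    rw [← hπd, ← Units.val_pow_eq_pow_val, ← map_pow, hd, map_one, Units.val_one]
  have img_mul : ∀ {x y : List ℕ} {g h : G}, x.length = 11 → y.length = 11 → toMat x = (π g : M) →
      toMat y = (π h : M) → toMat (mulM x y) = (π (g * h) : M) := fun lx ly ex ey => by
    rw [toMat_mul lx ly, ex, ey, map_mul, Units.val_mul]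
  have img_pow : ∀ f n : ℕ, n < 2 ^ f → toMat (powM f mA n) = (π (a' ^ n) : M) := fun f n hn => by
    rw [toMat_powM f mA n rfl hn, map_pow, Units.val_pow_eq_pow_val, hπa]
  have hw : ∀ k, 1 ≤ k → k ≤ 9 → toMat (wordTwo k (candTwo u)) ^ ordM24 = 1 := by
    intro k _ _
    suffices h : ∃ g : G, toMat (wordTwo k (candTwo u)) = (π g : M) by
      obtain ⟨g, hg⟩ := h
      rw [hg, hpow]
    have lAD : (mulM mA (candTwo u)).length = 11 := (mulM_length _ _).trans hdu
    have lDD : (mulM (candTwo u) (candTwo u)).length = 11 := (mulM_length _ _).trans hdu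
    have eA := hπa.symm
    have eD := hπd.symm
    have eAD := img_mul (x := mA) rfl hdu eA eD
    have eDD := img_mul hdu hdu eD eD
    unfold wordTwo
    split_ifs
    · exact ⟨_, eAD⟩
    · exact ⟨_, img_mul lAD hdu eAD eD⟩
    · exact ⟨_, img_mul (x := mulM mA mA) rfl hdu (img_mul rfl rfl eA eA) eD⟩
    · exact ⟨_, img_mul (powM_length 3 mA 5 rfl) hdu (img_pow 3 5 (by norm_num)) eD⟩
    · exact ⟨_, img_mul (x := mulM mA mA) rfl lDD (img_mul rfl rfl eA eA) eDD⟩
    · exact ⟨_, img_mul lAD ((mulM_length _ _).trans lDD) eAD (img_mul (x := mA) rfl lDD eA eDD)⟩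
    · exact ⟨_, img_mul (powM_length 2 mA 3 rfl) hdu (img_pow 2 3 (by norm_num)) eD⟩
    · exact ⟨_, img_mul (powM_length 3 mA 7 rfl) hdu (img_pow 3 7 (by norm_num)) eD⟩
    · exact ⟨_, img_mul (powM_length 4 mA 11 rfl) hdu (img_pow 4 11 (by norm_num)) eD⟩
  obtain ⟨s, u₀, hu₀, hs⟩ := exists_survivorTwo hu h10 hw
  have hπd' : (π (d * b ^ s) : M) = toMat (candTwo u₀) := by
    rw [map_mul, Units.val_mul, map_pow, Units.val_pow_eq_pow_val, hπb, hπd, hs]
  obtain ⟨tA', tAI', tB', tD'⟩ := tabs24_ok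
  obtain ⟨sb, hsb, rb⟩ := inGroup_of_isM24Tab tB'
  obtain ⟨sd, hsd, rd⟩ := inGroup_of_isM24Tab tD'
  have comp : ∀ X : GL (Fin 11) (ZMod 2), (MulAut.conj (X * φ⁻¹)).toMonoidHom.comp rho =
      (MulAut.conj X).toMonoidHom.comp π := fun X => MonoidHom.ext fun g => by simp [π, mul_assoc]
  rcases hu₀ with rfl | rfl
  · obtain ⟨sa, hsa, ra⟩ := inGroup_of_isM24Tab tA'
    obtain ⟨m1, m2, m3⟩ := code24_mats
    obtain ⟨X, hX⟩ := exists_range_of_surv hG π hπ repM24 repM24_injective code24_ok (σa := ⟨sa, hsa⟩)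
      (σb := ⟨sb, hsb⟩) (σd := ⟨sd, hsd⟩) ra rb rd (repM24_eq ra m1) (repM24_eq rb m2) (repM24_eq rd m3)
      hπa hπb hπd'
    exact ⟨X * φ⁻¹, Or.inl (by rw [comp, hX])⟩
  · obtain ⟨sa, hsa, ra⟩ := inGroup_of_isM24Tab tAI'
    obtain ⟨m1, d1, m2, d2, m3, d3⟩ := cocode24_mats
    obtain ⟨X, hX⟩ := exists_range_of_surv hG π hπ repD24 repD24_injective cocode24_ok (σa := ⟨sa, hsa⟩)
      (σb := ⟨sb, hsb⟩) (σd := ⟨sd, hsd⟩) ra rb rd (repD24_eq (repM24_eq ra m1) d1)
      (repD24_eq (repM24_eq rb m2) d2) (repD24_eq (repM24_eq rd m3) d3) hπa hπb hπd'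
    exact ⟨X * φ⁻¹, Or.inr (by rw [comp, hX])⟩

/-- A group of the order of M24 with such a representation is isomorphic to M24. -/
theorem isoM24_of_rep {G : Type*} [Group G] [Finite G] (hG : Nat.card G = 244823040)
    (rho : G →* GL (Fin 11) (ZMod 2)) (hrho : Function.Injective rho) (a b d : G) (ha : orderOf a = 23)
    (hb : orderOf b = 11) (hd : d ^ 10 = 1) (hab : b * a * b⁻¹ = a ^ 2) (hdb : d * b * d⁻¹ = b ^ 2) :
    Nonempty (G ≃* Cfsg.M24) := by
  obtain ⟨X, h⟩ := exists_range_of_rep hG rho hrho a b d ha hb hd hab hdb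
  have hπ : Function.Injective ((MulAut.conj X).toMonoidHom.comp rho) := (MulAut.conj X).injective.comp hrho
  rcases h with h | h
  · exact ⟨(MonoidHom.ofInjective hπ).trans ((MulEquiv.subgroupCongr h).trans
      (MonoidHom.ofInjective (f := repM24.toHomUnits)
        fun s t e => repM24_injective (congrArg Units.val e)).symm)⟩
  · exact ⟨(MonoidHom.ofInjective hπ).trans ((MulEquiv.subgroupCongr h).trans
      (MonoidHom.ofInjective (f := repD24.toHomUnits)
        fun s t e => repD24_injective (congrArg Units.val e)).symm)⟩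

end CfsgLib.MTwentyFourUnique
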