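import Cfsg.Agent.MTwentyFourUnique.DegreeList

/-!
The families at 7 and at 5 are those of M24, and the invariants of a character in terms of its degree.
-/

set_option autoImplicit false
set_option linter.style.haveILetI false
set_option linter.unusedSectionVars false
set_option maxHeartbeats 400000
set_option maxRecDepth 4000

open Cfsg CfsgLib.Characters CfsgLib.DefectOne CfsgLib.BrauerOrderP

namespace CfsgLib.MTwentyFourUnique

universe u

/-- A piece is the expected one or does not fit into the degrees. -/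
def fitsOnly (m : List ℕ) (y : ℕ) (P : Piece) : Bool :=
  P.l.any (fun d => decide (trueDegs.count d < P.l.count d)) || (P.m.isPerm m && P.y == y)

theorem pieces_unique :
    (pSevenOne.all (fitsOnly [1035, 2024] 990) && pSevenSign.all (fitsOnly [253, 3312, 3520] 45) &&
      pSevenTwo.all (fitsOnly [23, 1265, 2277] 1035) &&
      pFiveOne.all (fitsOnly [1771, 2024, 5544, 5796] 0) &&
      pFiveThree.all (fitsOnly [23, 253, 2277, 3312, 5313] 0) &&
      pFivePair.all (fitsOnly [252, 483] 231)) = true := by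
  decide +kernel

/-- The expected sum at 23. -/
def fTwentyThree (d : ℕ) : ℤ :=
  if d % 23 == 1 then 22 else if d % 23 == 22 then -22 else if d % 23 == 12 then 11
    else if d % 23 == 11 then -11 else 0

variable {G : Type u} [Group G] [Fintype G] [IsSimpleGroup G] (hG : Nat.card G = 244823040)
  (hD : LocalData G)
include hG hD

theorem card_deg (d : ℕ) :
    (Finset.univ.filter fun χ : IrrCharacter G => deg χ = d).card = trueDegs.count d := by
  classical
  rw [← Multiset.coe_count, ← degs_eq hG hD, degs, Multiset.count_map, ← Finset.filter_val,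
    Finset.card_val]
  exact congrArg Finset.card (Finset.filter_congr fun χ _ => eq_comm)

theorem exists_deg {d : ℕ} (h : 0 < trueDegs.count d) : ∃ χ : IrrCharacter G, deg χ = d := by
  rw [← card_deg hG hD d] at h
  obtain ⟨χ, hχ⟩ := Finset.card_pos.1 h
  exact ⟨χ, (Finset.mem_filter.1 hχ).2⟩

theorem eq_of_deg {d : ℕ} (h : trueDegs.count d = 1) {χ ψ : IrrCharacter G} (hχ : deg χ = d)
    (hψ : deg ψ = d) : χ = ψ :=
  Finset.card_le_one.1 ((card_deg hG hD d).trans h).le χ (Finset.mem_filter.2 ⟨Finset.mem_univ _, hχ⟩)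
    ψ (Finset.mem_filter.2 ⟨Finset.mem_univ _, hψ⟩)

/-- A family whose piece is forced. -/
theorem forced {p : ℕ} [Fact p.Prime] {L : Local p G} {O : L.Orb} (S : OShape L O) {φ k t r : ℕ}
    {c : ℤ} {L' : List Piece} {one : List ℕ} {s : Finset (IrrCharacter G)}
    (hchk : complete p φ k t r c L' = true) {f : ℕ → Bool} (hwf : wellFormed f one t L' = true)
    {m : List ℕ} {y : ℕ} (hfit : L'.all (fitsOnly m y) = true)
    (hφ : ophi L O = φ) (hp : 2 * φ % p ≠ 0) (hr' : 2 * r % p ≠ 0) (hr : p ∣ r + φ * L.eO O)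
    (ht : S.E.card = t) (hs : s ⊆ S.C) (hk : s.card + k = S.C.card)
    (hone : s.val.map deg = (one : Multiset ℕ))
    (hc : c = (one.map fun d => rsgn p φ d * (d : ℤ)).sum)
    (hC1 : ∀ χ ∈ S.C, χ ∉ s → deg χ ≠ 1) :
    S.C.val.map deg = ((one ++ m : List ℕ) : Multiset ℕ) ∧ (t ≠ 0 → S.y = y) := by
  classical
  obtain ⟨P, hP, hCm, hy⟩ := S.exists_piece hG (deg_mem_cands hG hD) hchk hφ hp hr' hr ht hs hk hone hc
    hC1 fun χ hχ => deg_E_ne_one hG S hχ
  have hwfP := List.all_eq_true.1 hwf P hP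
  simp only [Bool.and_eq_true, beq_iff_eq] at hwfP
  have hfitP := List.all_eq_true.1 hfit P hP
  simp only [fitsOnly, Bool.or_eq_true, List.any_eq_true, decide_eq_true_eq, Bool.and_eq_true,
    List.isPerm_iff, beq_iff_eq] at hfitP
  rcases hfitP with ⟨d, -, hlt⟩ | ⟨hm, hy'⟩
  · exfalso
    have hl : (ob L O).val.map deg = (P.l : Multiset ℕ) := by
      rw [S.degs_ob, hCm, ht, hwfP.1.1, ← Multiset.coe_replicate, Multiset.coe_add]
      by_cases h0 : t = 0
      · simp [h0]
      · rw [hy h0]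
    have hle : Multiset.count d (P.l : Multiset ℕ) ≤ Multiset.count d (trueDegs : Multiset ℕ) := by
      rw [← hl, ← degs_eq hG hD]
      exact Multiset.count_le_of_le d
        (Multiset.map_le_map (Finset.val_le_iff.2 (Finset.subset_univ _)))
    rw [Multiset.coe_count, Multiset.coe_count] at hle
    omega
  · refine ⟨?_, fun h0 => (hy h0).trans hy'⟩
    rw [hCm, ← Multiset.coe_add, ← Multiset.coe_add, Multiset.coe_eq_coe.2 hm]

/-- The families at 7. -/
structure SevenBlocks (L : Local 7 G) [Fact (Nat.Prime 7)] where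
  S : L.Orb
  T : L.Orb
  ne_S : S ≠ O0 L
  ne_T : T ≠ O0 L
  ne_ST : S ≠ T
  all : ∀ O, O = O0 L ∨ O = S ∨ O = T
  phi_S : ophi L S = 1
  eO_S : L.eO S = 3
  phi_T : ophi L T = 2
  eO_T : L.eO T = 3
  W0 : OShape L (O0 L)
  WS : OShape L S
  WT : OShape L T
  C0 : W0.C.val.map deg = (([1, 1035, 2024] : List ℕ) : Multiset ℕ)
  y0 : W0.y = 990
  E0 : W0.E.card = 2
  CS : WS.C.val.map deg = (([253, 3312, 3520] : List ℕ) : Multiset ℕ)
  yS : WS.y = 45
  ES : WS.E.card = 2
  CT : WT.C.val.map deg = (([23, 1265, 2277] : List ℕ) : Multiset ℕ)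
  yT : WT.y = 1035
  ET : WT.E.card = 2

theorem exists_sevenBlocks [Fact (Nat.Prime 7)] (L : Local 7 G) : Nonempty (SevenBlocks L) := by
  classical
  obtain ⟨he, hK, hnc⟩ := hD.seven L
  obtain ⟨S, T, hS0, hT0, hST, hall, hS, hSe, hT, hTe⟩ := orbits_six L he hK hnc
  have hwf := wellFormed_all
  simp only [Bool.and_eq_true] at hwf
  have hu := pieces_unique
  simp only [Bool.and_eq_true] at hu
  have hcard : ∀ {O : L.Orb} (W : OShape L O), L.eO O = 3 → W.C.card = 3 ∧ W.E.card = 2 := fun {O} W h => by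
    have hcol := L.card_colOver_mul O
    rw [h] at hcol
    rw [W.card_C, W.card_E, if_neg (by omega), if_neg (by omega), h]
    omega
  obtain ⟨W0⟩ := exists_oshape L (O0 L)
  obtain ⟨WS⟩ := exists_oshape L S
  obtain ⟨WT⟩ := exists_oshape L T
  obtain ⟨s, hs, hsc, hsm, hsne⟩ := principal_one hG W0
  obtain ⟨h0, h0y⟩ := forced hG hD W0 complete_seven_one hwf.1.1.1.1.1 hu.1.1.1.1.1 (ophi_one L)
    (by norm_num) (by norm_num) (by rw [show L.eO (O0 L) = 3 from he]) (hcard W0 he).2 hs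
    (by rw [hsc, (hcard W0 he).1]) hsm (by simp [rsgn]) hsne
  obtain ⟨s', hs', hsc', hsm', hsne'⟩ := no_one hG hS0 WS
  obtain ⟨h1, h1y⟩ := forced hG hD WS complete_seven_sign hwf.1.1.1.1.2 hu.1.1.1.1.2 hS
    (by norm_num) (by norm_num) (by rw [hSe]) (hcard WS hSe).2 hs'
    (by rw [hsc', (hcard WS hSe).1]; rfl) hsm' (by simp) hsne'
  obtain ⟨s'', hs'', hsc'', hsm'', hsne''⟩ := no_one hG hT0 WT
  obtain ⟨h2, h2y⟩ := forced hG hD WT complete_seven_two hwf.1.1.1.2 hu.1.1.1.2 hT
    (by norm_num) (by norm_num) (by rw [hTe]) (hcard WT hTe).2 hs''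
    (by rw [hsc'', (hcard WT hTe).1]; rfl) hsm'' (by simp) hsne''
  exact ⟨⟨S, T, hS0, hT0, hST, hall, hS, hSe, hT, hTe, W0, WS, WT, h0, h0y (by norm_num),
    (hcard W0 he).2, h1, h1y (by norm_num), (hcard WS hSe).2, h2, h2y (by norm_num), (hcard WT hTe).2⟩⟩

/-- The families at 5: the two faithful linear characters of `K` form one orbit. -/
structure FiveBlocks (L : Local 5 G) [Fact (Nat.Prime 5)] where
  T : L.Orb
  A : L.Orb
  ne_T : T ≠ O0 L
  ne_A : A ≠ O0 L
  ne_AT : A ≠ T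
  all : ∀ O, O = O0 L ∨ O = T ∨ O = A
  phi_T : ophi L T = 3
  eO_T : L.eO T = 4
  phi_A : ophi L A = 2
  eO_A : L.eO A = 2
  W0 : OShape L (O0 L)
  WT : OShape L T
  C0 : W0.C.val.map deg = (([1, 1771, 2024, 5544, 5796] : List ℕ) : Multiset ℕ)
  E0 : W0.E = ∅
  CT : WT.C.val.map deg = (([23, 253, 2277, 3312, 5313] : List ℕ) : Multiset ℕ)
  ET : WT.E = ∅

theorem exists_fiveBlocks [Fact (Nat.Prime 5)] (L : Local 5 G) : Nonempty (FiveBlocks L) := by
  classical
  obtain ⟨he, hK, -, h3⟩ := hD.five L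
  obtain ⟨T, hT0, hT, hTe, hcase⟩ := orbits_twelve L he hK h3
  have hwf := wellFormed_all
  simp only [Bool.and_eq_true] at hwf
  have hu := pieces_unique
  simp only [Bool.and_eq_true] at hu
  have hone : ∀ {O : L.Orb} (W : OShape L O), L.eO O = 4 → W.C.card = 5 ∧ W.E = ∅ := fun {O} W h => by
    have hcol := L.card_colOver_mul O
    rw [h] at hcol
    have h1 : Nat.card (L.ColOver O) = 1 := by omega
    refine ⟨by rw [W.card_C, if_pos h1, h], Finset.card_eq_zero.1 ?_⟩
    rw [W.card_E, if_pos h1]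
  obtain ⟨W0⟩ := exists_oshape L (O0 L)
  obtain ⟨WT⟩ := exists_oshape L T
  obtain ⟨s, hs, hsc, hsm, hsne⟩ := principal_one hG W0
  obtain ⟨h0, -⟩ := forced hG hD W0 (complete_any 1 complete_five_one) hwf.1.1.2 hu.1.1.2 (ophi_one L)
    (by norm_num) (r := 1) (by norm_num) (by rw [show L.eO (O0 L) = 4 from he])
    (by rw [(hone W0 he).2]; rfl) hs (by rw [hsc, (hone W0 he).1]) hsm (by simp [rsgn]) hsne
  obtain ⟨s', hs', hsc', hsm', hsne'⟩ := no_one hG hT0 WT
  obtain ⟨h1, -⟩ := forced hG hD WT (complete_any 3 complete_five_three) hwf.1.2 hu.1.2 hT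
    (by norm_num) (r := 3) (by norm_num) (by rw [hTe]; norm_num) (by rw [(hone WT hTe).2]; rfl) hs'
    (by rw [hsc', (hone WT hTe).1]; rfl) hsm' (by simp) hsne'
  rcases hcase with ⟨A, hA0, hAT, hall, hA, hAe⟩ | ⟨A, A', hA0, hA'0, hAT, hA'T, hAA', hall, hA, hAe, hA', hA'e⟩
  · exact ⟨⟨T, A, hT0, hA0, hAT, hall, hT, hTe, hA, hAe, W0, WT, h0, (hone W0 he).2, h1, (hone WT hTe).2⟩⟩
  · exfalso
    have hsel := sel_degs (G := G) fNotFive
    rw [map_regular L deg fNotFive fNotFive_iff [O0 L, A, A', T]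
      (by simp [hA0.symm, hA'0.symm, hT0.symm, hAT, hA'T, hAA'])
      (fun O => by simpa [or_left_comm, or_comm] using hall O)] at hsel
    have hc : ∀ {O : L.Orb}, L.eO O = 4 → ((ob L O).val.map deg).card = 5 := fun {O} h => by
      obtain ⟨W⟩ := exists_oshape L O
      rw [W.degs_ob, (hone W h).2, Multiset.card_add, Multiset.card_map, ← Finset.card_def, (hone W h).1]
      rfl
    have h := congrArg Multiset.card hsel
    simp only [List.map_cons, List.map_nil, List.sum_cons, List.sum_nil, add_zero, Multiset.card_add,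
      hc he, hc hAe, hc hA'e, hc hTe, show L.eO (O0 L) = 4 from he, degs_eq hG hD, sel_coe] at h
    revert h
    decide +kernel

omit hD in
/-- Membership by a degree of multiplicity one, or by a pair. -/
theorem mem_C_deg {p : ℕ} [Fact p.Prime] {L : Local p G} {O : L.Orb} (W : OShape L O) {l : List ℕ}
    (h : W.C.val.map deg = (l : Multiset ℕ)) {χ : IrrCharacter G} (hχ : χ ∈ W.C) : deg χ ∈ l := by
  have := Multiset.mem_map_of_mem deg hχ
  rwa [h, Multiset.mem_coe] at this

theorem C_of_deg {p : ℕ} [Fact p.Prime] {L : Local p G} {O : L.Orb} (W : OShape L O) {l : List ℕ}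
    (h : W.C.val.map deg = (l : Multiset ℕ)) {d : ℕ} (hd : d ∈ l) (h1 : trueDegs.count d = 1)
    {χ : IrrCharacter G} (hχ : deg χ = d) : χ ∈ W.C := by
  have : d ∈ W.C.val.map deg := by rw [h]; exact hd
  obtain ⟨ψ, hψ, hψd⟩ := Multiset.mem_map.1 this
  rwa [eq_of_deg hG hD h1 hχ hψd]

theorem E_of_deg {p : ℕ} [Fact p.Prime] {L : Local p G} {O : L.Orb} (W : OShape L O) {d : ℕ}
    (hy : W.y = d) (hE : W.E.card = trueDegs.count d) {χ : IrrCharacter G} (hχ : deg χ = d) :
    χ ∈ W.E := by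
  classical
  rw [show W.E = Finset.univ.filter (fun χ : IrrCharacter G => deg χ = d) from
    Finset.eq_of_subset_of_card_le (fun ψ hψ => Finset.mem_filter.2
      ⟨Finset.mem_univ _, (W.deg_E ψ hψ).trans hy⟩) (by rw [card_deg hG hD, hE])]
  exact Finset.mem_filter.2 ⟨Finset.mem_univ _, hχ⟩

/-- The sums at 23. -/
theorem osv_twenty_three [Fact (Nat.Prime 23)] (L : Local 23 G) (χ : IrrCharacter G) :
    osv L (O0 L) χ = fTwentyThree (deg χ) := by
  obtain ⟨he, hK⟩ := hD.twenty_three L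
  obtain ⟨W⟩ := exists_oshape L (O0 L)
  by_cases h : 23 ∣ deg χ
  · rw [osv_eq_zero L _ fun hm => not_dvd_deg L _ hm h, fTwentyThree, Nat.mod_eq_zero_of_dvd h]
    rfl
  obtain ⟨O, hO⟩ := exists_mem_ob L h
  rw [orb_eq_O0 L hK O] at hO
  rcases W.mem_cases hO with h' | h'
  · obtain ⟨h1, h2⟩ := W.res_C (ophi_one L) (by norm_num) h'
    rw [h1]
    simp only [rres, Bool.or_eq_true, beq_iff_eq] at h2
    rcases h2 with h2 | h2 <;> norm_num at h2 <;> simp [fTwentyThree, rsgn, h2]
  · obtain ⟨h1, h2⟩ := W.res_E (r := 12) (ophi_one L) (by norm_num)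
      (by rw [show L.eO (O0 L) = 11 from he]) h'
    rw [W.sv_E χ h', show L.eO (O0 L) = 11 from he, ← h1, show deg χ = W.y from W.deg_E χ h']
    simp only [rres, Bool.or_eq_true, beq_iff_eq] at h2
    rcases h2 with h2 | h2 <;> norm_num at h2 <;> simp [fTwentyThree, rsgn, h2]

/-- The sums at 11. -/
theorem osv_eleven [Fact (Nat.Prime 11)] (L : Local 11 G) (χ : IrrCharacter G) :
    osv L (O0 L) χ = 10 * sgnEleven (deg χ) := by
  obtain ⟨he, hK⟩ := hD.eleven L
  obtain ⟨W⟩ := exists_oshape L (O0 L)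
  by_cases h : 11 ∣ deg χ
  · rw [osv_eq_zero L _ fun hm => not_dvd_deg L _ hm h, sgnEleven, Nat.mod_eq_zero_of_dvd h]
    rfl
  obtain ⟨O, hO⟩ := exists_mem_ob L h
  rw [orb_eq_O0 L hK O] at hO
  have hE : W.E = ∅ := by
    have := card_cols_mul L
    rw [he] at this
    refine Finset.card_eq_zero.1 ?_
    rw [W.card_E, if_pos (by omega)]
  rcases W.mem_cases hO with h' | h'
  · obtain ⟨h1, h2⟩ := W.res_C (ophi_one L) (by norm_num) h'
    rw [h1]
    simp only [rres, Bool.or_eq_true, beq_iff_eq] at h2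
    rcases h2 with h2 | h2 <;> norm_num at h2 <;> simp [sgnEleven, rsgn, h2]
  · rw [hE] at h'; simp at h'

end CfsgLib.MTwentyFourUnique
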