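import Cfsg.Agent.MTwentyFourUnique.Values
import Cfsg.Agent.ClassPairs.Basic

/-!
The integrality of the number of ways to write an element of order 11 as a product of two elements of
order 7.
-/

set_option autoImplicit false
set_option linter.style.haveILetI false
set_option linter.unusedSectionVars false

open Cfsg CfsgLib.Characters CfsgLib.DefectOne CfsgLib.BrauerOrderP
open CfsgLib.MTwentyThreeUnique (pNe mem_pNe)
open scoped ComplexConjugate

namespace CfsgLib.MTwentyFourUnique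

universe u

variable {G : Type u} [Group G] [Fintype G]

/-- A sum over the conjugates of `x`, with the conjugating element running over the group. -/
theorem dvd_sum_conj (x : G) (h : G → ℕ) :
    Nat.card (Subgroup.centralizer ({x} : Set G)) ∣ ∑ a : G, h (a * x * a⁻¹) := by
  classical
  rw [← Finset.sum_fiberwise_of_maps_to (t := Finset.univ.image fun a : G => a * x * a⁻¹)
    fun a _ => Finset.mem_image_of_mem _ (Finset.mem_univ a)]
  refine Finset.dvd_sum fun z hz => ?_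
  obtain ⟨a₀, -, rfl⟩ := Finset.mem_image.1 hz
  rw [Finset.sum_congr rfl (g := fun _ => h (a₀ * x * a₀⁻¹)) fun a ha => by
    rw [(Finset.mem_filter.1 ha).2], Finset.sum_const, smul_eq_mul]
  refine dvd_mul_of_dvd_left (dvd_of_eq ?_) _
  rw [Nat.card_eq_fintype_card]
  refine (Finset.card_bij (fun c _ => a₀ * (c : G)) (fun c _ => ?_) (fun c _ c' _ e => ?_)
    fun a ha => ⟨⟨a₀⁻¹ * a, ?_⟩, Finset.mem_univ _, by simp⟩)
  · refine Finset.mem_filter.2 ⟨Finset.mem_univ _, ?_⟩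
    have hc := Subgroup.mem_centralizer_singleton_iff.1 c.2
    rw [mul_inv_rev, ← mul_assoc, mul_assoc a₀ (c : G) x, hc]
    group
  · exact Subtype.ext (mul_left_cancel e)
  · have h1 := (Finset.mem_filter.1 ha).2
    refine Subgroup.mem_centralizer_singleton_iff.2 ?_
    calc a₀⁻¹ * a * x = a₀⁻¹ * (a * x * a⁻¹) * a := by group
      _ = a₀⁻¹ * (a₀ * x * a₀⁻¹) * a := by rw [h1]
      _ = x * (a₀⁻¹ * a) := by group

/-- The class constant is an integer. -/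
theorem dvd_class_sum {p q : ℕ} [Fact p.Prime] [Fact q.Prime] (Lp : Local p G) (Lq : Local q G)
    (hep : 2 * e Lp = p - 1) (hop : e Lp % 2 = 1) (heq : e Lq = q - 1)
    (w s : IrrCharacter G → ℤ)
    (hw : ∀ χ : IrrCharacter G, ∑ u ∈ pNe Lp, (χ : G → ℂ) u = (e Lp : ℂ) * w χ)
    (hs : ∀ χ : IrrCharacter G, ∑ v ∈ pNe Lq, (χ : G → ℂ) v = (e Lq : ℂ) * s χ) :
    (((p * Nat.card Lp.K) ^ 2 : ℕ) : ℤ) ∣
      ∑ χ : IrrCharacter G, ((Nat.card G / Cfsg.charDegree (χ : G → ℂ) : ℕ) : ℤ) * (w χ * w χ) * s χ := by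
  classical
  haveI := Fintype.ofFinite (Lp.P : Subgroup G)
  obtain ⟨u, hu, -⟩ : ∃ u, u ∈ pNe Lp ∧ True := by
    obtain ⟨u₀, h⟩ := exists_mem_ne_one Lp
    exact ⟨u₀, (mem_pNe Lp).2 ⟨u₀.2, fun e => h (Subtype.ext e)⟩, trivial⟩
  obtain ⟨v, hv⟩ : ∃ v, v ∈ pNe Lq := by
    obtain ⟨v₀, h⟩ := exists_mem_ne_one Lq
    exact ⟨v₀, (mem_pNe Lq).2 ⟨v₀.2, fun e => h (Subtype.ext e)⟩⟩
  have he0 : (e Lp : ℂ) ≠ 0 := Nat.cast_ne_zero.2 (e_pos Lp).ne'
  have hq0 : (e Lq : ℂ) ≠ 0 := Nat.cast_ne_zero.2 (e_pos Lq).ne'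
  have hU : ∀ χ : IrrCharacter G, (χ : G → ℂ) u + (χ : G → ℂ) u⁻¹ = w χ := fun χ =>
    mul_left_cancel₀ he0 ((sum_pNe_half Lp hep hop hu χ).symm.trans (hw χ))
  have hV : ∀ χ : IrrCharacter G, (χ : G → ℂ) v = s χ := fun χ =>
    mul_left_cancel₀ hq0 ((sum_pNe_full Lq heq hv χ).symm.trans (hs χ))
  obtain ⟨hu', hu1⟩ := (mem_pNe Lp).1 hu
  have hC : ∀ x ∈ ({u, u⁻¹} : Finset G), Nat.card (Subgroup.centralizer ({x} : Set G)) =
      p * Nat.card Lp.K := fun x hx => by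
    have hx' : x ∈ (Lp.P : Subgroup G) ∧ x ≠ 1 := by
      rcases Finset.mem_insert.1 hx with rfl | h
      · exact ⟨hu', hu1⟩
      · rw [Finset.mem_singleton.1 h]; exact ⟨Subgroup.inv_mem _ hu', inv_ne_one.2 hu1⟩
    rw [Lp.centralizer_singleton hx'.1 hx'.2, Lp.card_centralizer]
  have hcount : ∀ x ∈ ({u, u⁻¹} : Finset G), ∀ y ∈ ({u, u⁻¹} : Finset G), ∃ n : ℕ,
      (Nat.card G : ℂ) * ∑ χ : IrrCharacter G,
        (χ : G → ℂ) v * ((χ : G → ℂ) x * (χ : G → ℂ) y / (χ : G → ℂ) 1) =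
        (((p * Nat.card Lp.K) ^ 2 * n : ℕ) : ℂ) := by
    intro x hx y hy
    have h := ClassPairs.card_pairs x y {v}
    simp only [Finset.sum_singleton, hV, map_intCast] at h
    obtain ⟨n, hn⟩ : (p * Nat.card Lp.K) ^ 2 ∣
        ∑ a : G, ∑ b : G, if a * x * a⁻¹ * (b * y * b⁻¹) ∈ ({v} : Finset G) then 1 else 0 := by
      rw [pow_two, Finset.sum_comm]
      have hin : ∀ b : G, p * Nat.card Lp.K ∣
          ∑ a : G, if a * x * a⁻¹ * (b * y * b⁻¹) ∈ ({v} : Finset G) then 1 else 0 := fun b =>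
        hC x hx ▸ dvd_sum_conj x fun z => if z * (b * y * b⁻¹) ∈ ({v} : Finset G) then 1 else 0
      choose m hm using hin
      have hm' : ∀ b : G, m b =
          (∑ a : G, if a * x * a⁻¹ * (b * y * b⁻¹) ∈ ({v} : Finset G) then 1 else 0) /
            (p * Nat.card Lp.K) := fun b => by
        rw [hm b, Nat.mul_div_cancel_left _ (mul_pos (Fact.out : p.Prime).pos Nat.card_pos)]
      simp only [hm, ← Finset.mul_sum]
      refine mul_dvd_mul_left _ ?_
      rw [Finset.sum_congr rfl fun b _ => hm' b]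
      exact hC y hy ▸ dvd_sum_conj y fun z =>
        (∑ a : G, if a * x * a⁻¹ * z ∈ ({v} : Finset G) then 1 else 0) / (p * Nat.card Lp.K)
    refine ⟨n, ?_⟩
    rw [← hn]
    simp only [hV]
    rw [← h]
    push_cast
    rfl
  obtain ⟨n₁, h₁⟩ := hcount u (by simp) u (by simp)
  obtain ⟨n₂, h₂⟩ := hcount u (by simp) u⁻¹ (by simp)
  obtain ⟨n₃, h₃⟩ := hcount u⁻¹ (by simp) u (by simp)
  obtain ⟨n₄, h₄⟩ := hcount u⁻¹ (by simp) u⁻¹ (by simp)
  refine ⟨(n₁ + n₂ + n₃ + n₄ : ℕ), Int.cast_injective (α := ℂ) ?_⟩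
  have hsum : (Nat.card G : ℂ) * ∑ χ : IrrCharacter G,
      (s χ : ℂ) * ((w χ : ℂ) * (w χ : ℂ) / (χ : G → ℂ) 1) =
      (((p * Nat.card Lp.K) ^ 2 * (n₁ + n₂ + n₃ + n₄) : ℕ) : ℂ) := by
    rw [Nat.mul_add, Nat.mul_add, Nat.mul_add, Nat.cast_add, Nat.cast_add, Nat.cast_add, ← h₁, ← h₂,
      ← h₃, ← h₄, ← mul_add, ← Finset.sum_add_distrib, ← mul_add, ← Finset.sum_add_distrib, ← mul_add,
      ← Finset.sum_add_distrib]
    congr 1
    refine Finset.sum_congr rfl fun χ _ => ?_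
    rw [← hU, hV]
    ring
  rw [Int.cast_mul, Int.cast_natCast, Int.cast_natCast, ← Nat.cast_mul, ← hsum, Finset.mul_sum,
    Int.cast_sum]
  refine Finset.sum_congr rfl fun χ _ => ?_
  rw [Int.cast_mul, Int.cast_mul, Int.cast_mul, Int.cast_natCast,
    Nat.cast_div (Blocks.charDegree_dvd_card χ) (Nat.cast_ne_zero.2 (Blocks.charDegree_ne_zero χ)),
    Blocks.charDegree_cast]
  ring

end CfsgLib.MTwentyFourUnique
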