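import Mathlib.Algebra.BigOperators.Group.Multiset.Basic
import Mathlib.Algebra.BigOperators.Group.Finset.Basic
import Mathlib.Tactic

/-!
All ways to write a degree and a vector as a sum of rows from a list.
-/

set_option autoImplicit false

namespace CfsgLib.MTwentyFourUnique

universe u v

variable {A : Type u} [AddCommGroup A] [DecidableEq A]

/-- All multisets of rows with the given sum. -/
def combos : List (ℕ × A) → ℕ → A → List (List (ℕ × A))
  | [], D, v => if D = 0 ∧ v = 0 then [[]] else []
  | [r], D, v => if D % r.1 = 0 ∧ v = (D / r.1) • r.2 then [List.replicate (D / r.1) r] else []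
  | r :: rs, D, v => (List.range (D / r.1 + 1)).flatMap fun m =>
      (combos rs (D - m * r.1) (v - m • r.2)).map (List.replicate m r ++ ·)

theorem combos_complete : ∀ (rows : List (ℕ × A)) (s : Multiset (ℕ × A)), (∀ r ∈ rows, 0 < r.1) →
    (∀ x ∈ s, x ∈ rows) →
    ∃ z ∈ combos rows (s.map Prod.fst).sum (s.map Prod.snd).sum, (z : Multiset (ℕ × A)) = s := by
  intro rows
  induction rows with
  | nil =>
    intro s _ hs
    obtain rfl : s = 0 := Multiset.eq_zero_of_forall_notMem fun x hx => by simpa using hs x hx
    exact ⟨[], by simp [combos], rfl⟩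
  | cons r rs ih =>
    intro s hpos hs
    have hp := hpos r List.mem_cons_self
    cases hrs : rs with
    | nil =>
      subst hrs
      have hall : s = Multiset.replicate s.card r :=
        Multiset.eq_replicate.2 ⟨rfl, fun x hx => by simpa using hs x hx⟩
      have h1 : (s.map Prod.fst).sum = s.card * r.1 := by
        conv_lhs => rw [hall]
        rw [Multiset.map_replicate, Multiset.sum_replicate, smul_eq_mul]
      have h2 : (s.map Prod.snd).sum = s.card • r.2 := by
        conv_lhs => rw [hall]
        rw [Multiset.map_replicate, Multiset.sum_replicate]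
      refine ⟨List.replicate s.card r, ?_, (Multiset.coe_replicate _ _).trans hall.symm⟩
      rw [combos, h1, h2, Nat.mul_div_cancel _ hp, if_pos ⟨Nat.mul_mod_left _ _, rfl⟩]
      exact List.mem_singleton_self _
    | cons r' rs' =>
      rw [← hrs]
      set s' := s.filter (fun x => ¬ x = r) with hs'
      have hsplit : s = Multiset.replicate (s.count r) r + s' := by
        rw [← Multiset.filter_eq', hs', Multiset.filter_add_not]
      have h1 : (s.map Prod.fst).sum = s.count r * r.1 + (s'.map Prod.fst).sum := by
        conv_lhs => rw [hsplit]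
        rw [Multiset.map_add, Multiset.sum_add, Multiset.map_replicate, Multiset.sum_replicate,
          smul_eq_mul]
      have h2 : (s.map Prod.snd).sum = s.count r • r.2 + (s'.map Prod.snd).sum := by
        conv_lhs => rw [hsplit]
        rw [Multiset.map_add, Multiset.sum_add, Multiset.map_replicate, Multiset.sum_replicate]
      obtain ⟨z, hz, hzs⟩ := ih s' (fun x hx => hpos x (List.mem_cons_of_mem _ hx)) fun x hx => by
        obtain ⟨ha, hb⟩ := Multiset.mem_filter.1 hx
        exact (List.mem_cons.1 (hs x ha)).resolve_left hb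
      refine ⟨List.replicate (s.count r) r ++ z, ?_, ?_⟩
      · rw [hrs, combos.eq_3 _ _ _ _ (by simp), ← hrs, List.mem_flatMap]
        refine ⟨s.count r, List.mem_range.2 ?_, List.mem_map.2 ⟨z, ?_, rfl⟩⟩
        · rw [Nat.lt_succ_iff, Nat.le_div_iff_mul_le hp]; omega
        · rwa [h1, h2, Nat.add_sub_cancel_left, add_sub_cancel_left]
      · rw [← Multiset.coe_add, hzs, Multiset.coe_replicate]
        exact hsplit.symm

/-- The multiset of the keys of a combination. -/
def bag {ι : Type v} [Fintype ι] {β : Type u} (m : ι → ℕ) (key : ι → β) : Multiset β :=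
  ∑ i, Multiset.replicate (m i) (key i)

theorem sum_map_bag {ι : Type v} [Fintype ι] {β : Type u} {B : Type*} [AddCommMonoid B] (m : ι → ℕ)
    (key : ι → β) (f : β → B) : ((bag m key).map f).sum = ∑ i, m i • f (key i) := by
  rw [bag, ← Multiset.coe_mapAddMonoidHom f, map_sum, ← Multiset.coe_sumAddMonoidHom, map_sum]
  exact Finset.sum_congr rfl fun i _ => by
    simp [Multiset.map_replicate, Multiset.sum_replicate]

theorem mem_bag {ι : Type v} [Fintype ι] {β : Type u} {m : ι → ℕ} {key : ι → β} {x : β} :
    x ∈ bag m key ↔ ∃ i, m i ≠ 0 ∧ key i = x := by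
  simp [bag, Multiset.mem_sum, Multiset.mem_replicate, eq_comm]

theorem card_bag {ι : Type v} [Fintype ι] {β : Type u} (m : ι → ℕ) (key : ι → β) :
    (bag m key).card = ∑ i, m i := by
  simp [bag, map_sum, Multiset.card_replicate]

end CfsgLib.MTwentyFourUnique
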