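import Cfsg.Agent.MTwentyFourUnique.Values
import Cfsg.Agent.Characters.FixedPoints

/-!
Complex conjugation moves the characters over an orbit to those over the conjugate orbit.
-/

set_option autoImplicit false
set_option linter.style.haveILetI false
set_option linter.unusedSectionVars false

open Cfsg CfsgLib.Characters CfsgLib.DefectOne CfsgLib.BrauerOrderP
open scoped ComplexConjugate

namespace CfsgLib.MTwentyFourUnique

universe u

/-- The complex conjugate character. -/
noncomputable def bar {H : Type u} [Group H] [Finite H] (χ : IrrCharacter H) : IrrCharacter H :=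
  haveI := Fintype.ofFinite H
  ⟨fun g => conj ((χ : H → ℂ) g), isIrr_conj χ.2⟩

theorem bar_apply {H : Type u} [Group H] [Finite H] (χ : IrrCharacter H) (g : H) :
    (bar χ : H → ℂ) g = conj ((χ : H → ℂ) g) := rfl

theorem bar_bar {H : Type u} [Group H] [Finite H] (χ : IrrCharacter H) : bar (bar χ) = χ :=
  Subtype.ext (funext fun g => Complex.conj_conj _)

theorem charDegree_bar {H : Type u} [Group H] [Fintype H] (χ : IrrCharacter H) :
    Cfsg.charDegree (bar χ : H → ℂ) = Cfsg.charDegree (χ : H → ℂ) := by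
  apply Nat.cast_injective (R := ℂ)
  rw [Blocks.charDegree_cast, Blocks.charDegree_cast, bar_apply, ← Blocks.charDegree_cast, map_natCast]

/-- A real linear character of a group of order twelve with eight elements of order three is
trivial. -/
theorem eq_one_of_real_linear {H : Type u} [Group H] [Fintype H] (hc : Nat.card H = 12)
    (h3 : Nat.card {k : H // orderOf k = 3} = 8) {φ : IrrCharacter H}
    (hd : Cfsg.charDegree (φ : H → ℂ) = 1) (hr : bar φ = φ) : (φ : H → ℂ) = fun _ => 1 := by
  classical
  obtain ⟨f, hf⟩ := exists_hom_of_degree_one (isCharacter_of_isIrr φ.2)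
    (show (φ : H → ℂ) 1 = 1 by rw [← Blocks.charDegree_cast, hd, Nat.cast_one])
  have hsq : ∀ g : H, f g * f g = 1 := fun g => by
    have h1 : conj ((φ : H → ℂ) g) = (φ : H → ℂ) g :=
      congrFun (congrArg Subtype.val hr) g
    have hfin : IsOfFinOrder ((f g : ℂˣ) : ℂ) :=
      (Units.coeHom ℂ).isOfFinOrder (f.isOfFinOrder (isOfFinOrder_of_finite g))
    have h2 : ‖((f g : ℂˣ) : ℂ)‖ = 1 := hfin.norm_eq_one
    rw [hf] at h1
    simp only at h1
    refine Units.ext ?_
    rw [Units.val_mul, Units.val_one]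
    nth_rewrite 2 [← h1]
    rw [Complex.mul_conj, Complex.normSq_eq_norm_sq, h2]
    norm_num
  have hker : ∀ g : H, orderOf g = 3 → f g = 1 := fun g hg => by
    have h1 : f g ^ 3 = 1 := by rw [← map_pow, ← hg, pow_orderOf_eq_one, map_one]
    rwa [pow_succ, pow_two, hsq, one_mul] at h1
  have hall : f.ker = ⊤ := by
    have hle : 8 ≤ Nat.card f.ker := by
      rw [← h3]
      exact Nat.card_le_card_of_injective (fun x => ⟨x.1, hker x.1 x.2⟩) fun a b e =>
        Subtype.ext (congrArg (fun y : f.ker => (y : H)) e)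
    have hdvd := Subgroup.card_subgroup_dvd_card f.ker
    rw [hc] at hdvd
    have h12 : ∀ k ∈ Nat.divisors 12, 8 ≤ k → k = 12 := by decide
    refine Subgroup.eq_top_of_card_eq _ ?_
    rw [hc]
    exact h12 _ (Nat.mem_divisors.2 ⟨hdvd, by norm_num⟩) hle
  rw [hf]
  funext g
  rw [show f g = 1 from (SetLike.ext_iff.1 hall g).2 (Subgroup.mem_top g), Units.val_one]

variable {G : Type u} [Group G] [Fintype G] {p : ℕ} [Fact p.Prime] (L : Local p G)

theorem osv_bar {O O' : L.Orb}
    (h : (Quotient.out O' : IrrCharacter L.K) = bar (Quotient.out O : IrrCharacter L.K))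
    (χ : IrrCharacter G) : osv L O' (bar χ) = osv L O χ := by
  haveI := Fintype.ofFinite L.K
  have h1 := congrArg conj (proj L O χ)
  simp only [map_sum, map_mul, map_natCast, map_intCast] at h1
  have h2 := proj L O' (bar χ)
  simp only [h, bar_apply] at h2
  apply Int.cast_injective (α := ℂ)
  exact mul_left_cancel₀ (Nat.cast_ne_zero.2 (Nat.card_pos (α := L.K)).ne') (h2.symm.trans h1)

theorem osv_ne_zero {O : L.Orb} {χ : IrrCharacter G} (h : χ ∈ ob L O) : osv L O χ ≠ 0 := by
  obtain ⟨S⟩ := exists_oshape L O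
  have hp := (Fact.out : p.Prime).two_le
  rw [S.ob_eq, Finset.mem_disjUnion] at h
  rcases h with h | h
  · rcases S.sv_C χ h with r | r <;> rw [r] <;> omega
  · rw [S.sv_E χ h]
    have := L.eO_pos O
    rcases S.a_unit with r | r <;> rw [r] <;> omega

/-- The degrees over conjugate orbits agree. -/
theorem degs_bar {O O' : L.Orb}
    (h : (Quotient.out O' : IrrCharacter L.K) = bar (Quotient.out O : IrrCharacter L.K)) :
    (ob L O').val.map (fun χ : IrrCharacter G => Cfsg.charDegree (χ : G → ℂ)) =
      (ob L O).val.map fun χ : IrrCharacter G => Cfsg.charDegree (χ : G → ℂ) := by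
  classical
  have h' : (Quotient.out O : IrrCharacter L.K) = bar (Quotient.out O' : IrrCharacter L.K) := by
    rw [h, bar_bar]
  have hmem : ∀ {A B : L.Orb}, (Quotient.out B : IrrCharacter L.K) = bar (Quotient.out A : IrrCharacter L.K) →
      ∀ χ ∈ ob L A, bar χ ∈ ob L B := fun hAB χ hχ => by
    by_contra hn
    have h1 := osv_bar L hAB χ
    rw [osv_eq_zero L _ hn] at h1
    exact osv_ne_zero L hχ h1.symm
  have heq : ob L O' = (ob L O).map ⟨bar, Function.LeftInverse.injective bar_bar⟩ := by
    ext χ
    rw [Finset.mem_map]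
    refine ⟨fun hχ => ⟨bar χ, hmem h' χ hχ, bar_bar χ⟩, ?_⟩
    rintro ⟨ψ, hψ, rfl⟩
    exact hmem h ψ hψ
  rw [heq, Finset.map_val, Multiset.map_map]
  exact Multiset.map_congr rfl fun χ _ => charDegree_bar χ

end CfsgLib.MTwentyFourUnique
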