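import Cfsg.Agent.MTwentyThreeUnique.Counts
import Cfsg.Agent.Mathieu.General
import Cfsg.Agent.Mathieu.M24Actions

/-!
A group of the order of M24 whose numbers of elements of given orders all occur in M24 is simple.
-/

set_option autoImplicit false
set_option linter.style.haveILetI false
set_option linter.unusedSectionVars false

open scoped Pointwise
open Cfsg CfsgLib.DefectOne

namespace CfsgLib.MTwentyFourUnique

open CfsgLib.MElevenUnique (Cg Ng Cs mem_Cg mem_Cs)

universe u

/-- The centraliser of an element of order 23 of M24. -/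
theorem card_Cg_twenty_three {y : M24} (hy : orderOf y = 23) : Nat.card (Cg y) = 23 := by
  haveI : Fact (Nat.Prime 23) := ⟨by norm_num⟩
  have hP : IsPGroup 23 (Subgroup.zpowers y) := IsPGroup.of_card (n := 1) (by rw [Nat.card_zpowers, hy, pow_one])
  set F := MulAction.fixedPoints (Subgroup.zpowers y) GolayPt with hF
  have hcard : Nat.card GolayPt = 24 := by
    rw [Nat.card_eq_fintype_card]; simp [ZMod.card]
  have hmod := hP.card_modEq_card_fixedPoints (α := GolayPt)
  rw [hcard, ← hF] at hmod
  have hmem : ∀ p, p ∈ F ↔ y • p = p := fun p => by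
    refine ⟨fun h => h ⟨y, Subgroup.mem_zpowers y⟩, fun h ⟨z, hz⟩ => ?_⟩
    exact (MulAction.mem_stabilizer_iff.1 ((Subgroup.zpowers_le.2 (MulAction.mem_stabilizer_iff.2 h)) hz))
  have hle : Nat.card F ≤ 24 := hcard ▸ Finite.card_subtype_le _
  have hne : Nat.card F ≠ 24 := fun h => by
    have hall : ∀ p, y • p = p := fun p => (hmem p).1 (by
      have huniv : F = Set.univ := Set.eq_of_subset_of_ncard_le (Set.subset_univ _)
        (by rw [Set.ncard_univ, hcard, ← Nat.card_coe_set_eq, h]) Set.finite_univ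
      rw [huniv]; trivial)
    have : y = 1 := eq_of_smul_eq_smul (α := GolayPt) fun p => by rw [hall, one_smul]
    rw [this, orderOf_one] at hy
    norm_num at hy
  have h1 : Nat.card F = 1 := by
    unfold Nat.ModEq at hmod
    omega
  obtain ⟨⟨hsub⟩, ⟨⟨q, hq⟩⟩⟩ := Nat.card_eq_one_iff_unique.1 h1
  have hyq : y ∈ MulAction.stabilizer M24 q := MulAction.mem_stabilizer_iff.2 ((hmem q).1 hq)
  have hC : Cg y ≤ MulAction.stabilizer M24 q := fun c hc => by
    refine MulAction.mem_stabilizer_iff.2 ?_
    have hcy := mem_Cg.1 hc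
    have : c • q ∈ F := (hmem _).2 (by
      rw [smul_smul, hcy.symm, mul_smul, (hmem q).1 hq])
    exact congrArg Subtype.val (hsub ⟨_, this⟩ ⟨q, hq⟩)
  haveI : IsSimpleGroup (MulAction.stabilizer M24 q) := Mathieu.simple_M24_point q
  have hH : Nat.card (MulAction.stabilizer M24 q) = 10200960 := Mathieu.card_M24_point q
  haveI := Fintype.ofFinite (MulAction.stabilizer M24 q)
  set y' : MulAction.stabilizer M24 q := ⟨y, hyq⟩
  have hy' : orderOf y' = 23 := by rw [Subgroup.orderOf_mk, hy]
  have hy1 : y' ≠ 1 := fun e => by rw [e, orderOf_one] at hy'; norm_num at hy'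
  obtain ⟨Q, hQ⟩ := MTwelveUnique.exists_sylow_mem (p := 23) hy'
  obtain ⟨L, rfl⟩ := exists_local (G := MulAction.stabilizer M24 q) (p := 23)
    (by rw [hH]; norm_num) (by rw [hH]; norm_num) Q
  have hCg : Nat.card (Cg y') = 23 := by
    rw [show Cg y' = Subgroup.centralizer
        ((L.P : Subgroup (MulAction.stabilizer M24 q)) : Set (MulAction.stabilizer M24 q)) from
      L.centralizer_singleton hQ hy1, L.card_centralizer, MTwentyThreeUnique.K_eq_bot23 hH L,
      Subgroup.card_bot, mul_one]
  rw [← hCg]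
  refine Nat.card_congr (Equiv.ofBijective (fun c => ⟨⟨c.1, hC c.2⟩, mem_Cg.2 (Subtype.ext (mem_Cg.1 c.2))⟩)
    ⟨fun a b e => ?_, fun c => ?_⟩)
  · exact Subtype.ext (congrArg (fun x : Cg y' => ((x : MulAction.stabilizer M24 q) : M24)) e)
  · exact ⟨⟨(c : MulAction.stabilizer M24 q), mem_Cg.2 (congrArg Subtype.val (mem_Cg.1 c.2))⟩, rfl⟩

section

variable {H : Type u} [Group H] [Finite H] (hH : Nat.card H = 244823040)
  (hc23 : ∀ y : H, orderOf y = 23 → Nat.card (Cg y) = 23)
include hH hc23

/-- Only 967680 is a possible number of subgroups of order 23. -/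
theorem count_eq {m n : ℕ} (hc : m * 22 = Nat.card {g : H // orderOf g = n}) (hm : m ∣ 10644480)
    (hm1 : m % 23 = 1) : m = 967680 := by
  classical
  haveI := Fintype.ofFinite H
  have hm0 : 0 < m := Nat.pos_of_dvd_of_pos hm (by norm_num)
  have hn : n ≠ 1 := by
    rintro rfl
    have : Nat.card {g : H // orderOf g = 1} = 1 := by
      rw [Nat.card_eq_one_iff_unique]
      exact ⟨⟨fun a b => Subtype.ext ((orderOf_eq_one_iff.1 a.2).trans
        (orderOf_eq_one_iff.1 b.2).symm)⟩, ⟨⟨1, orderOf_one⟩⟩⟩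
    omega
  have hbound : (if n = 23 then 10644480 else 23) ∣ m * 22 := by
    rw [hc, Nat.card_eq_fintype_card, Fintype.card_subtype,
      Finset.card_eq_sum_card_image (fun a => ConjClasses.mk a)]
    refine Finset.dvd_sum fun c hc => ?_
    obtain ⟨a, ha, rfl⟩ := Finset.mem_image.1 hc
    have ha' : orderOf a = n := (Finset.mem_filter.1 ha).2
    have h := Small.card_conjugates_mul_card_centralizer a
    rw [hH] at h
    have hd : (if n = 23 then 10644480 else 23) ∣ Nat.card {g : H // IsConj a g} := by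
      split_ifs with h23
      · rw [show Nat.card (Subgroup.centralizer ({a} : Set H)) = 23 from hc23 a (ha'.trans h23)] at h
        exact dvd_of_eq (by omega)
      · haveI : Fact (Nat.Prime 23) := ⟨by norm_num⟩
        have hdvd : 23 ∣ Nat.card {g : H // IsConj a g} *
            Nat.card (Subgroup.centralizer ({a} : Set H)) := by rw [h]; norm_num
        refine Nat.Coprime.dvd_of_dvd_mul_right ?_ hdvd
        refine (by norm_num : Nat.Prime 23).coprime_iff_not_dvd.2 fun hd => ?_
        obtain ⟨⟨y, hy⟩, hyo⟩ := exists_prime_orderOf_dvd_card'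
          (G := Subgroup.centralizer ({a} : Set H)) 23 hd
        rw [← Subgroup.orderOf_coe] at hyo
        have hmem : a ∈ Cg y := mem_Cg.2 (Subgroup.mem_centralizer_singleton_iff.1 hy).symm
        have hdvd := Subgroup.orderOf_dvd_natCard _ hmem
        rw [hc23 y hyo, ha'] at hdvd
        rcases (Nat.dvd_prime (by norm_num : Nat.Prime 23)).1 hdvd with h | h
        exacts [hn h, h23 h]
    refine hd.trans (dvd_of_eq ?_)
    rw [Nat.card_eq_fintype_card, Fintype.card_subtype]
    congr 1
    ext b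
    simp only [Finset.mem_filter, Finset.mem_univ, true_and, ConjClasses.mk_eq_mk_iff_isConj]
    refine ⟨fun h => ⟨?_, h.symm⟩, fun h => h.2.symm⟩
    obtain ⟨c, rfl⟩ := isConj_iff.1 h
    rw [← ha', MTwelveUnique.orderOf_conj']
  split_ifs at hbound with h23
  · obtain ⟨t, ht⟩ : 483840 ∣ m := by
      obtain ⟨t, ht⟩ := hbound
      exact ⟨t, by omega⟩
    subst ht
    have := Nat.le_of_dvd (by norm_num) hm
    omega
  · have := ((by norm_num : Nat.Prime 23).dvd_mul.1 hbound).resolve_right (by norm_num)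
    omega

end

section

variable {G : Type*} [Group G] [Finite G]

/-- The order and the numbers of elements of given orders force simplicity. -/
theorem isSimpleGroup_of_counts (hG : Nat.card G = 244823040) {H : Type u} [Group H] [Finite H]
    (hH : Nat.card H = 244823040) (hc23 : ∀ y : H, orderOf y = 23 → Nat.card (Cg y) = 23)
    (hsub : ∀ c, 0 < c → (∃ n : ℕ, c = Nat.card {g : G // orderOf g = n}) →
      ∃ n : ℕ, c = Nat.card {g : H // orderOf g = n}) :
    IsSimpleGroup G := by
  haveI : Fact (Nat.Prime 23) := ⟨by norm_num⟩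
  haveI := Fact.mk Nat.prime_two
  have hcardP : ∀ Q : Sylow 23 G, Nat.card (Q : Subgroup G) = 23 := fun Q =>
    card_sylow_of_sq_not_dvd (by rw [hG]; norm_num) (by rw [hG]; norm_num) Q
  have hdvdG : ∀ M : Subgroup G, Nat.card M ∣ 244823040 := fun M =>
    hG ▸ Subgroup.card_subgroup_dvd_card M
  obtain ⟨P⟩ : Nonempty (Sylow 23 G) := inferInstance
  have hP := hcardP P
  have hn := Small.card_sylow_mul_card_normalizer P
  rw [hG] at hn
  change Nat.card (Sylow 23 G) * Nat.card (Ng (P : Subgroup G)) = _ at hn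
  have hdiv : Nat.card (Sylow 23 G) ∣ 10644480 := by
    have h1 : Nat.card (Sylow 23 G) ∣ (P : Subgroup G).index := P.card_dvd_index
    have h2 := (P : Subgroup G).index_mul_card
    rw [hG, hP] at h2
    rwa [show (P : Subgroup G).index = 10644480 by omega] at h1
  have hnum : Nat.card (Sylow 23 G) = 967680 := by
    have hm := Small.card_orderOf_eq_prime (p := 23) hcardP
    have hpos : 0 < Nat.card (Sylow 23 G) * (23 - 1) := by
      have := Nat.card_pos (α := Sylow 23 G); omega
    obtain ⟨n, hcn⟩ := hsub _ hpos ⟨23, hm.symm⟩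
    exact count_eq hH hc23 hcn hdiv (card_sylow_modEq_one 23 G)
  rw [hnum] at hn
  have hN : Nat.card (Ng (P : Subgroup G)) = 253 := by omega
  have hPN : (P : Subgroup G) ≤ Ng (P : Subgroup G) := Subgroup.le_normalizer
  have hCd : Nat.card (Cs (P : Subgroup G)) ∣ 253 :=
    hN ▸ Subgroup.card_dvd_of_le (MElevenUnique.Cs_le_Ng _)
  -- no 2-group of order 1024 is centralised by `P`
  have h1024 : ∀ M : Subgroup G, (P : Subgroup G) ≤ Ng M → ¬ 23 ∣ Nat.card M → 2 ^ 10 ∣ Nat.card M →
      False := by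
    intro M hPM h23 h2
    obtain ⟨R, -, hR, -, hRC⟩ := MTwelveUnique.exists_centralised_sylow (q := 2) (b := 10) hP hPM h23 h2
      (fun h => by
        have := h.trans (hdvdG M)
        norm_num at this)
      (by
        have key : ∀ d ∈ Nat.divisors (2 ^ 10), d % 23 = 2 ^ 10 % 23 → d = 2 ^ 10 := by decide +kernel
        exact fun d hd => key d (Nat.mem_divisors.2 ⟨hd, by norm_num⟩))
    have h := (hR ▸ Subgroup.card_dvd_of_le hRC).trans hCd
    norm_num at h
  have hC : Nat.card (Cs (P : Subgroup G)) = 23 := by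
    have h23 : 23 ∣ Nat.card (Cs (P : Subgroup G)) := by
      have h := Subgroup.card_dvd_of_le (GraphSimple.le_centralizer_of_cyclic_prime hP)
      rwa [hP] at h
    have key : ∀ d ∈ Nat.divisors 253, 23 ∣ d → d ≠ 253 → d = 23 := by decide +kernel
    refine key _ (Nat.mem_divisors.2 ⟨hCd, by norm_num⟩) h23 fun he => ?_
    have hle : (⊤ : Subgroup G) ⊓ Ng (P : Subgroup G) ≤ Cs (P : Subgroup G) := inf_le_right.trans
      (Subgroup.eq_of_le_of_card_ge (MElevenUnique.Cs_le_Ng _) (by rw [he, hN])).ge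
    obtain ⟨M, -, hM, hMc, hM23, -⟩ := MTwelveUnique.exists_complement (p := 23) (a := 1)
      (le_top (a := (P : Subgroup G))) (by rw [hP, pow_one])
      (by rw [Subgroup.card_top, hG]; norm_num) hle
    rw [Subgroup.card_top, hG] at hMc
    exact h1024 M (le_top.trans hM) hM23 (by
      rw [show Nat.card M = 10644480 by omega]; norm_num)
  haveI : Nontrivial G := Finite.one_lt_card_iff_nontrivial.1 (by omega)
  refine ⟨fun K hK => ?_⟩
  by_cases h23 : 23 ∣ Nat.card K
  · right
    have hPK : (P : Subgroup G) ≤ K := by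
      obtain ⟨y, hyK, hy⟩ := Small.Fusion.exists_orderOf (H := K) (show Nat.Prime 23 by norm_num) h23
      obtain ⟨Q, hQ⟩ := MTwelveUnique.exists_sylow_mem hy
      obtain ⟨g, rfl⟩ := MulAction.exists_smul_eq G Q P
      have hQy : (Q : Subgroup G) = Subgroup.zpowers y :=
        (Small.eq_zpowers_of_mem_prime (p := 23) (hcardP Q) hQ
          (fun e => by rw [e, orderOf_one] at hy; norm_num at hy)).symm
      intro a ha
      obtain ⟨b, hb, rfl⟩ := Subgroup.mem_map.1 ha
      rw [hQy] at hb
      exact hK.conj_mem b (Subgroup.zpowers_le.2 hyK hb) g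
    have hrel : K.relIndex (Ng (P : Subgroup G)) = K.index := by
      have hsup : Ng (P : Subgroup G) ⊔ K = ⊤ := Sylow.normalizer_sup_eq_top' P hPK
      rw [← Subgroup.relIndex_sup_right, hsup, Subgroup.relIndex_top_right]
    have h1 := GraphSimple.relIndex_mul_card (inf_le_right : K ⊓ Ng (P : Subgroup G) ≤ _)
    rw [Subgroup.inf_relIndex_right, hrel, hN] at h1
    have h2 := K.index_mul_card
    rw [hG] at h2
    have hPi : 23 ∣ Nat.card ↥(K ⊓ Ng (P : Subgroup G)) := by
      have h := Subgroup.card_dvd_of_le (le_inf hPK hPN)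
      rwa [hP] at h
    obtain ⟨c, hc⟩ := hPi
    rw [hc] at h1
    have hi : K.index * c = 11 := by
      have : K.index * c * 23 = 253 := by rw [← h1]; ring
      omega
    rcases (Nat.dvd_prime (by norm_num : Nat.Prime 11)).1 (⟨c, hi.symm⟩ : K.index ∣ 11) with h | h
    · exact Subgroup.index_eq_one.1 h
    exfalso
    rw [h] at h2 hi
    have hKi : Nat.card ↥(K ⊓ Ng (P : Subgroup G)) = 23 := by rw [hc]; omega
    have hle : K ⊓ Ng (P : Subgroup G) ≤ Cs (P : Subgroup G) :=
      (Subgroup.eq_of_le_of_card_ge (le_inf hPK hPN) (by rw [hKi, hP])).ge.trans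
        (GraphSimple.le_centralizer_of_cyclic_prime hP)
    have hKc : Nat.card K = 22256640 := by omega
    obtain ⟨M, -, hM, hMc, hM23, -⟩ := MTwelveUnique.exists_complement (p := 23) (a := 1) hPK
      (by rw [hP, pow_one]) (by rw [hKc]; norm_num) hle
    rw [hKc] at hMc
    exact h1024 M (hPK.trans hM) hM23 (by rw [show Nat.card M = 967680 by omega]; norm_num)
  · left
    rw [← Subgroup.card_eq_one]
    by_contra hne
    obtain ⟨q, hq, hqK⟩ := Nat.exists_prime_and_dvd hne
    haveI := Fact.mk hq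
    have hKd : Nat.card K ∣ 244823040 := hdvdG K
    have hPK' : (P : Subgroup G) ≤ Ng K := by
      rw [show Ng K = ⊤ from Subgroup.normalizer_eq_top K]; exact le_top
    set b := (Nat.card K).factorization q
    have hb : q ^ b ∣ Nat.card K := Nat.ordProj_dvd _ _
    have hb' : ¬ q ^ (b + 1) ∣ Nat.card K :=
      Nat.pow_succ_factorization_not_dvd Nat.card_pos.ne' hq
    have hb0 : b ≠ 0 := fun e => hb' (by rw [e, zero_add, pow_one]; exact hqK)
    have hcop : Nat.Coprime (q ^ b) 23 :=
      ((by norm_num : Nat.Prime 23).coprime_iff_not_dvd.2 fun h => h23 (h.trans hb)).symm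
    have hb44 : q ^ b ∣ 10644480 := hcop.dvd_of_dvd_mul_left
      (m := 23) (n := 10644480) (by simpa using hb.trans hKd)
    have hcases : ∀ P : ℕ, P ∈ [2 ^ 10, 27, 5, 7, 11] → q ^ b ∣ P →
        ∀ d, d ∣ q ^ b → d % 23 = q ^ b % 23 → d = q ^ b := by
      intro P hP' hqb d hd hmod
      have key : ∀ P ∈ [2 ^ 10, 27, 5, 7, 11], ∀ e ∈ Nat.divisors P, ∀ d ∈ Nat.divisors e,
          d % 23 = e % 23 → d = e := by decide +kernel
      have hP0 : P ≠ 0 := by intro e; simp [e] at hP'
      have he0 : q ^ b ≠ 0 := pow_ne_zero _ hq.ne_zero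
      exact key P hP' _ (Nat.mem_divisors.2 ⟨hqb, hP0⟩) d (Nat.mem_divisors.2 ⟨hd, he0⟩) hmod
    have hprime : ∀ P m : ℕ, P * m = 10644480 → ¬ q ∣ m → q ^ b ∣ P := fun P m hPm hm =>
      (((hq.coprime_iff_not_dvd).2 hm).pow_left b).dvd_of_dvd_mul_right (hPm ▸ hb44)
    have hq443 : q ∣ 2 ^ 10 * (3 ^ 3 * (5 * (7 * 11))) :=
      ((dvd_pow_self q hb0).trans hb44).trans (by norm_num)
    have hmod : ∀ d, d ∣ q ^ b → d % 23 = q ^ b % 23 → d = q ^ b := by
      rcases hq.dvd_mul.1 hq443 with h | h
      · obtain rfl := (Nat.prime_dvd_prime_iff_eq hq Nat.prime_two).1 (hq.dvd_of_dvd_pow h)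
        exact hcases (2 ^ 10) (by simp) (hprime _ 10395 (by norm_num) (by norm_num))
      rcases hq.dvd_mul.1 h with h | h
      · obtain rfl := (Nat.prime_dvd_prime_iff_eq hq Nat.prime_three).1 (hq.dvd_of_dvd_pow h)
        exact hcases 27 (by simp) (hprime _ 394240 (by norm_num) (by norm_num))
      rcases hq.dvd_mul.1 h with h | h
      · obtain rfl := (Nat.prime_dvd_prime_iff_eq hq Nat.prime_five).1 h
        exact hcases 5 (by simp) (hprime _ 2128896 (by norm_num) (by norm_num))
      rcases hq.dvd_mul.1 h with h | h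
      · obtain rfl := (Nat.prime_dvd_prime_iff_eq hq (by norm_num : Nat.Prime 7)).1 h
        exact hcases 7 (by simp) (hprime _ 1520640 (by norm_num) (by norm_num))
      · obtain rfl := (Nat.prime_dvd_prime_iff_eq hq (by norm_num : Nat.Prime 11)).1 h
        exact hcases 11 (by simp) (hprime _ 967680 (by norm_num) (by norm_num))
    obtain ⟨R, -, hR, -, hRC⟩ :=
      MTwelveUnique.exists_centralised_sylow (q := q) (b := b) hP hPK' h23 hb hb' hmod
    have hq23 : q ∣ 23 := by
      rw [← hC]
      exact (dvd_pow_self q hb0).trans (hR ▸ Subgroup.card_dvd_of_le hRC)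
    exact h23 ((Nat.prime_dvd_prime_iff_eq hq (by norm_num : Nat.Prime 23)).1 hq23 ▸ hqK)

end

/-- The order and the numbers of elements of given orders of M24 force simplicity. -/
theorem isSimpleGroup_of_counts_m24 {G : Type*} [Group G] [Finite G] (hG : Nat.card G = 244823040)
    (hsub : ∀ c, 0 < c → (∃ n : ℕ, c = Nat.card {g : G // orderOf g = n}) →
      ∃ n : ℕ, c = Nat.card {g : ↥M24 // orderOf g = n}) :
    IsSimpleGroup G :=
  isSimpleGroup_of_counts hG Mathieu.card_M24 (fun _ hy => card_Cg_twenty_three hy) hsub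

end CfsgLib.MTwentyFourUnique
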