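import Cfsg.Agent.MTwentyFourUnique.Search
import Mathlib.Algebra.BigOperators.Group.Multiset.Basic

/-!
The keys of multisets of degrees, the splitting of the degrees by their divisibility by 5 and 7, and
the completeness of the choices of the degrees divisible by 35.
-/

set_option autoImplicit false

namespace CfsgLib.MTwentyFourUnique

/-- The part selected by a filter. -/
abbrev sel (f : ℕ → Bool) (m : Multiset ℕ) : Multiset ℕ := m.filter fun d => f d = true

/-- The key of a multiset. -/
def mkey (f : ℕ → Bool) (m : Multiset ℕ) : ℕ := ((sel f m).map kw).sum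

theorem sel_coe (f : ℕ → Bool) (l : List ℕ) : sel f (l : Multiset ℕ) = ((l.filter f : List ℕ) : Multiset ℕ) := by
  simp [sel]

theorem sel_sel (f g : ℕ → Bool) (m : Multiset ℕ) : sel f (sel g m) = sel (fun d => f d && g d) m := by
  simp [sel, Multiset.filter_filter]

theorem mkey_coe (f : ℕ → Bool) (l : List ℕ) : mkey f (l : Multiset ℕ) = key f l := by
  rw [mkey, sel_coe, Multiset.map_coe, Multiset.sum_coe, key]

theorem mkey_coe3 (f : ℕ → Bool) (a b c : List ℕ) :
    mkey f ((a ++ b ++ c : List ℕ) : Multiset ℕ) = key f a + (key f b + key f c) := by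
  rw [mkey_coe]
  simp [key, add_assoc]

theorem key_one_sel (g : ℕ → Bool) (hg : ∀ d, fOne d = true → g d = true) (m : Multiset ℕ) :
    mkey fOne (sel g m) = mkey fOne m := by
  rw [mkey, sel_sel, mkey]
  exact congrArg Multiset.sum (congrArg (Multiset.map kw) (Multiset.filter_congr fun d _ => by
    simp only [Bool.and_eq_true]
    exact ⟨And.left, fun h => ⟨h, hg d h⟩⟩))

theorem fOne_le_notSeven (d : ℕ) (h : fOne d = true) : fNotSeven d = true := by
  simp only [fOne, Bool.and_eq_true] at h
  exact h.1.2

theorem fOne_le_notFive (d : ℕ) (h : fOne d = true) : fNotFive d = true := by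
  simp only [fOne, Bool.and_eq_true, Bool.or_eq_true, beq_iff_eq] at h
  simp only [fNotFive, bne_iff_ne]
  omega

theorem key_cross (m : Multiset ℕ) :
    mkey fNotFive (sel fNotSeven m) = mkey fNotSeven (sel fNotFive m) := by
  rw [mkey, mkey, sel_sel, sel_sel]
  simp only [Bool.and_comm]

/-- The degrees are those prime to 7, those prime to 5 and divisible by 7, and those divisible by
35. -/
theorem split_degs (m : Multiset ℕ) :
    m = sel fNotSeven m + sel (fun d => d % 7 == 0) (sel fNotFive m) +
      sel (fun d => d % 35 == 0) m := by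
  refine Multiset.ext.2 fun d => ?_
  simp only [sel, Multiset.count_add, Multiset.count_filter, fNotSeven, fNotFive, bne_iff_ne,
    beq_iff_eq]
  split_ifs <;> omega

theorem squareParts_complete : ∀ (ds : List ℕ) (m : Multiset ℕ), (∀ d ∈ ds, 0 < d) →
    (∀ d ∈ m, d ∈ ds) → ∃ z ∈ squareParts ds (m.map fun d => d * d).sum, (z : Multiset ℕ) = m := by
  intro ds
  induction ds with
  | nil =>
    intro m _ hm
    obtain rfl : m = 0 := Multiset.eq_zero_of_forall_notMem fun d hd => by simpa using hm d hd
    exact ⟨[], by simp [squareParts], rfl⟩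
  | cons d ds ih =>
    intro m hpos hm
    cases hds : ds with
    | nil =>
      subst hds
      have hall : m = Multiset.replicate m.card d :=
        Multiset.eq_replicate.2 ⟨rfl, fun x hx => by simpa using hm x hx⟩
      have hsum : (m.map fun x => x * x).sum = m.card * (d * d) := by
        conv_lhs => rw [hall]
        rw [Multiset.map_replicate, Multiset.sum_replicate, smul_eq_mul]
      have hp := hpos d List.mem_cons_self
      refine ⟨List.replicate m.card d, ?_, (Multiset.coe_replicate _ _).trans hall.symm⟩
      rw [squareParts, hsum, if_pos (Nat.mul_mod_left _ _), Nat.mul_div_cancel _ (Nat.mul_pos hp hp)]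
      exact List.mem_singleton_self _
    | cons d' ds' =>
    rw [← hds]
    set m' := m.filter (fun x => ¬ x = d) with hm'
    have hsplit : m = Multiset.replicate (m.count d) d + m' := by
      rw [← Multiset.filter_eq', hm', Multiset.filter_add_not]
    have hsum : (m.map fun x => x * x).sum = m.count d * (d * d) + (m'.map fun x => x * x).sum := by
      conv_lhs => rw [hsplit]
      rw [Multiset.map_add, Multiset.sum_add, Multiset.map_replicate, Multiset.sum_replicate,
        smul_eq_mul]
    obtain ⟨z, hz, hzm⟩ := ih m' (fun x hx => hpos x (List.mem_cons_of_mem _ hx))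
      fun x hx => by
        obtain ⟨h1, h2⟩ := Multiset.mem_filter.1 hx
        exact (List.mem_cons.1 (hm x h1)).resolve_left h2
    refine ⟨List.replicate (m.count d) d ++ z, ?_, ?_⟩
    · have hp := hpos d List.mem_cons_self
      rw [hds, squareParts.eq_3 _ _ _ (by simp), ← hds, List.mem_flatMap]
      refine ⟨m.count d, List.mem_range.2 ?_, List.mem_map.2 ⟨z, ?_, rfl⟩⟩
      · rw [Nat.lt_succ_iff, Nat.le_div_iff_mul_le (Nat.mul_pos hp hp)]
        omega
      · rwa [hsum, Nat.add_sub_cancel_left]
    · rw [← Multiset.coe_add, hzm, Multiset.coe_replicate]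
      exact hsplit.symm

end CfsgLib.MTwentyFourUnique
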