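import Cfsg.Agent.MTwentyFourUnique.Search

/-!
The kernel check of the choices at 7 with principal piece number 0.
-/

set_option autoImplicit false
set_option maxRecDepth 8000
set_option Elab.async false

namespace CfsgLib.MTwentyFourUnique

theorem rows_ok_0 : (pSevenSign.all fun Q => pSevenTwo.all fun R =>
    ((pSevenOne[0]?).toList.all fun P => rowOk P Q R)) = true := by
  decide +kernel

end CfsgLib.MTwentyFourUnique
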