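import Cfsg.Agent.MTwentyFourUnique.Search
import Cfsg.Agent.MTwentyFourUnique.SearchDataSplit

/-!
The kernel checks of the degree search when the two faithful linear characters of the complement at
5 form two orbits.
-/

set_option autoImplicit false
set_option maxRecDepth 8000
set_option Elab.async false

namespace CfsgLib.MTwentyFourUnique

theorem complete_five_split : complete 5 1 5 0 0 0 pFiveSplit = true := by decide +kernel

theorem wellFormed_split : wellFormed fNotSeven [] 0 pFiveSplit = true := by decide +kernel

theorem fiveSplit_listed : (pFiveOne.all fun P => pFiveSplit.all fun R =>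
    (treeSplit.find (P.k1 + (R.k1 + R.k1))).contains
      ((P.l ++ R.l ++ R.l).filter (fun d => d % 7 == 0), P.kk + (R.kk + R.kk))) = true := by
  decide +kernel

/-- The choices at 5 compatible with one at 7, none of which can be completed. -/
def rowOkSplit (P Q R : Piece) : Bool :=
  (treeSplit.find (P.k1 + (Q.k1 + R.k1))).all fun t =>
    Nat.blt (P.kk + (Q.kk + R.kk)) t.2 ||
      (treeThree.find (P.kk + (Q.kk + R.kk) - t.2)).all fun w =>
        let q := ((P.l ++ Q.l ++ R.l ++ t.1 ++ w).map fun d => d * d).sum
        decide (244823040 < q) || (squareParts restCands (244823040 - q)).isEmpty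

theorem rows_split : (pSevenOne.all fun P => pSevenSign.all fun Q => pSevenTwo.all fun R =>
    rowOkSplit P Q R) = true := by
  decide +kernel

end CfsgLib.MTwentyFourUnique
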