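import Cfsg.Agent.MTwentyFourUnique.Sides
import Cfsg.Agent.MTwentyFourUnique.Keys
import Cfsg.Agent.MTwentyFourUnique.ClassCount
import Cfsg.Agent.MTwentyFourUnique.SearchSplit
import Cfsg.Agent.MTwentyFourUnique.SearchRow0
import Cfsg.Agent.MTwentyFourUnique.SearchRow1
import Cfsg.Agent.MTwentyFourUnique.SearchRow2
import Cfsg.Agent.MTwentyFourUnique.SearchRow3
import Cfsg.Agent.MTwentyFourUnique.SearchRow4
import Cfsg.Agent.MTwentyFourUnique.SearchRow5
import Cfsg.Agent.MTwentyFourUnique.SearchRow6
import Cfsg.Agent.MTwentyFourUnique.SearchRow7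

/-!
The list of degrees of a simple group with the local data of M24.
-/

set_option autoImplicit false
set_option linter.style.haveILetI false
set_option linter.unusedSectionVars false
set_option maxHeartbeats 800000

open Cfsg CfsgLib.Characters CfsgLib.DefectOne CfsgLib.BrauerOrderP
open CfsgLib.MTwentyThreeUnique (pNe)

namespace CfsgLib.MTwentyFourUnique

universe u

variable {G : Type u} [Group G] [Fintype G]

/-- The degrees, with multiplicity. -/
noncomputable def degs (G : Type u) [Group G] [Fintype G] : Multiset ℕ :=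
  (Finset.univ : Finset (IrrCharacter G)).val.map deg

open Classical in
theorem sel_degs (f : ℕ → Bool) :
    sel f (degs G) = (Finset.univ.filter fun χ : IrrCharacter G => f (deg χ) = true).val.map deg := by
  rw [degs, sel, Multiset.filter_map, Finset.filter_val]
  congr 1

variable {p : ℕ} [Fact p.Prime] (L : Local p G)

open Classical in
theorem map_regular {β : Type*} (g : IrrCharacter G → β) (f : ℕ → Bool)
    (hf : ∀ d, f d = true ↔ ¬ p ∣ d) (os : List L.Orb) (hn : os.Nodup) (hall : ∀ O, O ∈ os) :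
    (Finset.univ.filter fun χ : IrrCharacter G => f (deg χ) = true).val.map g =
      (os.map fun O => (ob L O).val.map g).sum := by
  have key : ∀ os : List L.Orb, os.Nodup →
      (Finset.univ.filter fun χ : IrrCharacter G => ∃ O ∈ os, χ ∈ ob L O).val.map g =
        (os.map fun O => (ob L O).val.map g).sum := by
    intro os
    induction os with
    | nil => intro _; simp
    | cons O os ih =>
      intro hn
      obtain ⟨h1, h2⟩ := List.nodup_cons.1 hn
      have hd : Disjoint (ob L O)
          (Finset.univ.filter fun χ : IrrCharacter G => ∃ O' ∈ os, χ ∈ ob L O') :=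
        Finset.disjoint_left.2 fun χ hχ hχ' => by
          obtain ⟨O', hO', hm⟩ := (Finset.mem_filter.1 hχ').2
          exact h1 (ob_disjoint L O hχ hm ▸ hO')
      rw [List.map_cons, List.sum_cons, ← ih h2, ← Multiset.map_add, ← Finset.disjUnion_val _ _ hd]
      congr 2
      ext χ
      simp
  rw [← key os hn]
  congr 2
  ext χ
  simp only [Finset.mem_filter, Finset.mem_univ, true_and, hf]
  refine ⟨fun h => ?_, fun ⟨O, _, h⟩ => not_dvd_deg L O h⟩
  obtain ⟨O, hO⟩ := exists_mem_ob L h
  exact ⟨O, hall O, hO⟩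

omit [Fact p.Prime] in
theorem fNotSeven_iff (d : ℕ) : fNotSeven d = true ↔ ¬ 7 ∣ d := by
  simp [fNotSeven, Nat.dvd_iff_mod_eq_zero]

omit [Fact p.Prime] in
theorem fNotFive_iff (d : ℕ) : fNotFive d = true ↔ ¬ 5 ∣ d := by
  simp [fNotFive, Nat.dvd_iff_mod_eq_zero]

variable [IsSimpleGroup G] (hG : Nat.card G = 244823040) (hD : LocalData G)
include hG hD

/-- What is known at 7. -/
theorem seven_side [Fact (Nat.Prime 7)] (L : Local 7 G) :
    ∃ w : IrrCharacter G → ℤ, (∀ χ : IrrCharacter G, ∑ u ∈ pNe L, (χ : G → ℂ) u = (e L : ℂ) * w χ) ∧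
      (∀ χ : IrrCharacter G, 7 ∣ deg χ → w χ = 0) ∧
    ∃ P ∈ pSevenOne, ∃ Q ∈ pSevenSign, ∃ R ∈ pSevenTwo,
      sel fNotSeven (degs G) = ((P.l ++ Q.l ++ R.l : List ℕ) : Multiset ℕ) ∧
      ((Finset.univ.filter fun χ : IrrCharacter G => fNotSeven (deg χ) = true).val.map
        fun χ => (deg χ, w χ)) = ((P.e ++ Q.e ++ R.e : List (ℕ × ℤ)) : Multiset (ℕ × ℤ)) := by
  classical
  obtain ⟨he, hK, hnc⟩ := hD.seven L
  obtain ⟨S, T, hS0, hT0, hST, hall, hS, hSe, hT, hTe⟩ := orbits_six L he hK hnc
  obtain ⟨w, hw, hw0, hwO⟩ := exists_seven_values hG hD L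
  have hcl := deg_mem_cands hG hD
  have hwf := wellFormed_all
  simp only [Bool.and_eq_true] at hwf
  have hev := evals_all
  simp only [Bool.and_eq_true] at hev
  obtain ⟨P, hP, hPl, hPe⟩ := seven_piece hG hcl (ophi_one L) he (r := 4) (one := [1]) (by norm_num)
    (by norm_num) (by norm_num) (fun W => principal_one hG W) (by simp [rsgn]) complete_seven_one
    (by norm_num) hwf.1.1.1.1.1 hev.1.1 w (hwO _)
  obtain ⟨Q, hQ, hQl, hQe⟩ := seven_piece hG hcl hS hSe (r := 4) (one := []) (by norm_num)
    (by norm_num) (by norm_num) (fun W => no_one hG hS0 W) (by simp) complete_seven_sign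
    (by norm_num) hwf.1.1.1.1.2 hev.1.2 w (hwO _)
  obtain ⟨R, hR, hRl, hRe⟩ := seven_piece hG hcl hT hTe (r := 1) (one := []) (by norm_num)
    (by norm_num) (by norm_num) (fun W => no_one hG hT0 W) (by simp) complete_seven_two
    (by norm_num) hwf.1.1.1.2 hev.2 w (hwO _)
  have hos : [O0 L, S, T].Nodup := by simp [hS0.symm, hT0.symm, hST]
  have hmem : ∀ O, O ∈ [O0 L, S, T] := fun O => by simpa using hall O
  refine ⟨w, hw, hw0, P, hP, Q, hQ, R, hR, ?_, ?_⟩
  · rw [sel_degs, map_regular L deg fNotSeven fNotSeven_iff _ hos hmem]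
    simp only [List.map_cons, List.map_nil, List.sum_cons, List.sum_nil, add_zero, hPl, hQl, hRl,
      Multiset.coe_add, List.append_assoc]
  · rw [map_regular L (fun χ => (deg χ, w χ)) fNotSeven fNotSeven_iff _ hos hmem]
    simp only [List.map_cons, List.map_nil, List.sum_cons, List.sum_nil, add_zero, hPe, hQe, hRe,
      Multiset.coe_add, List.append_assoc]

/-- What is known at 5: the two cases. -/
theorem five_side [Fact (Nat.Prime 5)] (L : Local 5 G) :
    ∃ P ∈ pFiveOne, ∃ T ∈ pFiveThree,
      (∃ R ∈ pFivePair, sel fNotFive (degs G) = ((P.l ++ R.l ++ T.l : List ℕ) : Multiset ℕ)) ∨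
      ∃ R ∈ pFiveSplit, sel fNotFive (degs G) = ((P.l ++ R.l ++ R.l ++ T.l : List ℕ) : Multiset ℕ) := by
  classical
  obtain ⟨he, hK, -, h3⟩ := hD.five L
  obtain ⟨T, hT0, hT, hTe, hcase⟩ := orbits_twelve L he hK h3
  have hcl := deg_mem_cands hG hD
  have hwf := wellFormed_all
  simp only [Bool.and_eq_true] at hwf
  obtain ⟨P, hP, hPl⟩ := five_piece hG hcl (ophi_one L) he (t := 0) (r := 1) (one := [1])
    (Or.inr ⟨rfl, rfl⟩) (by norm_num) (by norm_num) (by norm_num) (by norm_num)
    (fun W => principal_one hG W) (by simp [rsgn]) (by norm_num) (complete_any 1 complete_five_one) hwf.1.1.2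
  obtain ⟨T', hT', hTl⟩ := five_piece hG hcl hT hTe (t := 0) (r := 3) (one := [])
    (Or.inr ⟨rfl, rfl⟩) (by norm_num) (by norm_num) (by norm_num) (by norm_num)
    (fun W => no_one hG hT0 W) (by simp) (by norm_num) (complete_any 3 complete_five_three) hwf.1.2
  refine ⟨P, hP, T', hT', ?_⟩
  rcases hcase with ⟨A, hA0, hAT, hall, hA, hAe⟩ | ⟨A, A', hA0, hA'0, hAT, hA'T, hAA', hall, hA, hAe, hA', hA'e⟩
  · obtain ⟨R, hR, hRl⟩ := five_piece hG hcl hA hAe (t := 2) (r := 1) (one := [])
      (Or.inl rfl) (by norm_num) (by norm_num) (by norm_num) (by norm_num)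
      (fun W => no_one hG hA0 W) (by simp) (by norm_num) complete_five_pair hwf.2
    refine Or.inl ⟨R, hR, ?_⟩
    rw [sel_degs, map_regular L deg fNotFive fNotFive_iff [O0 L, A, T]
      (by simp [hA0.symm, hT0.symm, hAT]) (fun O => by simpa [or_left_comm, or_comm] using hall O)]
    simp only [List.map_cons, List.map_nil, List.sum_cons, List.sum_nil, add_zero, hPl, hRl, hTl,
      Multiset.coe_add, List.append_assoc]
  · obtain ⟨R, hR, hRl⟩ := five_piece hG hcl hA hAe (t := 0) (r := 1) (one := [])
      (Or.inr ⟨rfl, rfl⟩) (by norm_num) (by norm_num) (by norm_num) (by norm_num)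
      (fun W => no_one hG hA0 W) (by simp) (by norm_num) (complete_any 1 complete_five_split) wellFormed_split
    haveI := Fintype.ofFinite L.K
    have hsingle : ∀ {B : L.Orb}, L.eO B = 4 → ∀ φ : IrrCharacter L.K, L.orb φ = B →
        φ = (Quotient.out B : IrrCharacter L.K) := by
      intro B hB φ hφ
      have h1 : L.orbCard B = 1 := by
        have := orbCard_mul_eO L B
        rw [hB, he] at this
        omega
      haveI := (Nat.card_eq_one_iff_unique.1 h1).1
      exact congrArg Subtype.val (Subsingleton.elim (⟨φ, hφ⟩ : {ψ // L.orb ψ = B}) ⟨_, Quotient.out_eq B⟩)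
    have hd1 : Cfsg.charDegree ((Quotient.out A : IrrCharacter L.K) : L.K → ℂ) = 1 := by
      have := ophi_of_out L (φ := (Quotient.out A : IrrCharacter L.K)) (O := A) (Quotient.out_eq A)
      rw [hA] at this
      exact (mul_eq_one.1 this.symm).2
    have hbar : (Quotient.out A' : IrrCharacter L.K) = bar (Quotient.out A : IrrCharacter L.K) := by
      refine (hsingle hA'e _ ?_).symm
      have hne : ∀ φ : IrrCharacter L.K, L.orb φ = A → φ = (Quotient.out A : IrrCharacter L.K) :=
        hsingle hAe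
      rcases hall (L.orb (bar (Quotient.out A : IrrCharacter L.K))) with h | h | h | h
      · exfalso
        have h1 : (Quotient.out A : IrrCharacter L.K) = oneK L := by
          rw [← bar_bar (Quotient.out A : IrrCharacter L.K), eq_oneK_of_orb L h]
          exact Subtype.ext (funext fun k => map_one (starRingEnd ℂ))
        exact hA0 ((Quotient.out_eq A).symm.trans (congrArg L.orb h1))
      · exfalso
        have h1 := ophi_of_out L h
        rw [charDegree_bar, hd1, hT, mul_one] at h1
        have := orbCard_mul_eO L T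
        rw [hTe, he] at this
        omega
      · exfalso
        have h1 := eq_one_of_real_linear hK h3 hd1 (hne _ h)
        exact hA0 ((Quotient.out_eq A).symm.trans
          (congrArg L.orb (Subtype.ext h1 : (Quotient.out A : IrrCharacter L.K) = oneK L)))
      · exact h
    have hR'l : (ob L A').val.map deg = (R.l : Multiset ℕ) := (degs_bar L hbar).trans hRl
    refine Or.inr ⟨R, hR, ?_⟩
    rw [sel_degs, map_regular L deg fNotFive fNotFive_iff [O0 L, A, A', T]
      (by simp [hA0.symm, hA'0.symm, hT0.symm, hAT, hA'T, hAA'])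
      (fun O => by simpa [or_left_comm, or_comm] using hall O)]
    simp only [List.map_cons, List.map_nil, List.sum_cons, List.sum_nil, add_zero, hPl, hRl, hR'l, hTl,
      Multiset.coe_add, List.append_assoc]

/-- The tests at 23 and at 11 hold on the list of degrees. -/
theorem degree_tests [Fact (Nat.Prime 7)] (L7 : Local 7 G) {w : IrrCharacter G → ℤ}
    (hw : ∀ χ : IrrCharacter G, ∑ u ∈ pNe L7, (χ : G → ℂ) u = (e L7 : ℂ) * w χ)
    (hw0 : ∀ χ : IrrCharacter G, 7 ∣ deg χ → w χ = 0) {e7 : List (ℕ × ℤ)}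
    (he7 : ((Finset.univ.filter fun χ : IrrCharacter G => fNotSeven (deg χ) = true).val.map
        fun χ => (deg χ, w χ)) = (e7 : Multiset (ℕ × ℤ)))
    {l : List ℕ} (hl : (l : Multiset ℕ) = degs G) (hleaf : leafOk e7 l = true) :
    degs G = (trueDegs : Multiset ℕ) := by
  classical
  haveI : Fact (Nat.Prime 23) := ⟨by norm_num⟩
  haveI : Fact (Nat.Prime 11) := ⟨by norm_num⟩
  obtain ⟨L23⟩ := exists_local24 hG 23 (by norm_num) (by norm_num)
  obtain ⟨L11⟩ := exists_local24 hG 11 (by norm_num) (by norm_num)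
  obtain ⟨he23, hK23⟩ := hD.twenty_three L23
  obtain ⟨he11, hK11⟩ := hD.eleven L11
  -- the block at 23
  obtain ⟨S⟩ := exists_oshape L23 (O0 L23)
  have ht : Nat.card (L23.ColOver (O0 L23)) = 2 := by
    have := card_cols_mul L23
    rw [he23] at this
    omega
  have hC : S.C.card = 11 := by
    rw [S.card_C, if_neg (by omega), show L23.eO (O0 L23) = 11 from he23]
  have hE : S.E.card = 2 := by rw [S.card_E, if_neg (by omega), ht]
  have hres : ∀ χ : IrrCharacter G, (χ ∈ S.C ∧ rres 23 1 (deg χ) = true) ∨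
      (χ ∈ S.E ∧ rres 23 12 (deg χ) = true) ∨ deg χ % 23 = 0 := by
    intro χ
    by_cases h : 23 ∣ deg χ
    · exact Or.inr (Or.inr (Nat.mod_eq_zero_of_dvd h))
    obtain ⟨O, hO⟩ := exists_mem_ob L23 h
    rw [orb_eq_O0 L23 hK23 O] at hO
    rcases S.mem_cases hO with h' | h'
    · exact Or.inl ⟨h', (S.res_C (ophi_one L23) (by norm_num) h').2⟩
    · refine Or.inr (Or.inl ⟨h', ?_⟩)
      rw [show deg χ = S.y from S.deg_E χ h']
      exact (S.res_E (r := 12) (ophi_one L23) (by norm_num)
        (by rw [show L23.eO (O0 L23) = 11 from he23]) h').2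
  have hmemC : ∀ χ ∈ S.C, rres 23 1 (deg χ) = true := fun χ h => (S.res_C (ophi_one L23) (by norm_num) h).2
  have hmemE : ∀ χ ∈ S.E, rres 23 12 (deg χ) = true := fun χ h => by
    rw [show deg χ = S.y from S.deg_E χ h]
    exact (S.res_E (r := 12) (ophi_one L23) (by norm_num)
      (by rw [show L23.eO (O0 L23) = 11 from he23]) h).2
  have hCset : (Finset.univ.filter fun χ : IrrCharacter G =>
      (fun d => d % 23 == 1 || d % 23 == 22) (deg χ) = true) = S.C := by
    ext χ
    simp only [Finset.mem_filter, Finset.mem_univ, true_and, Bool.or_eq_true, beq_iff_eq]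
    refine ⟨fun h => ?_, fun h => ?_⟩
    · rcases hres χ with ⟨h1, -⟩ | ⟨-, h1⟩ | h1
      · exact h1
      · simp only [rres, Bool.or_eq_true, beq_iff_eq] at h1; omega
      · omega
    · have := hmemC χ h
      simp only [rres, Bool.or_eq_true, beq_iff_eq] at this
      omega
  have hEset : (Finset.univ.filter fun χ : IrrCharacter G =>
      (fun d => d % 23 == 11 || d % 23 == 12) (deg χ) = true) = S.E := by
    ext χ
    simp only [Finset.mem_filter, Finset.mem_univ, true_and, Bool.or_eq_true, beq_iff_eq]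
    refine ⟨fun h => ?_, fun h => ?_⟩
    · rcases hres χ with ⟨-, h1⟩ | ⟨h1, -⟩ | h1
      · simp only [rres, Bool.or_eq_true, beq_iff_eq] at h1; omega
      · exact h1
      · omega
    · have := hmemE χ h
      simp only [rres, Bool.or_eq_true, beq_iff_eq] at this
      omega
  have hcount : (l.countP fun d => d % 23 == 1 || d % 23 == 22) = 11 := by
    rw [List.countP_eq_length_filter, ← Multiset.coe_card, ← sel_coe, hl, sel_degs, hCset,
      Multiset.card_map, ← Finset.card_def, hC]
  have hexc : excOk (l.filter fun d => d % 23 == 11 || d % 23 == 12) = true := by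
    have h1 : ((l.filter fun d => d % 23 == 11 || d % 23 == 12 : List ℕ) : Multiset ℕ) =
        Multiset.replicate 2 S.y := by
      rw [← sel_coe, hl, sel_degs, hEset]
      exact Multiset.eq_replicate.2 ⟨by rw [Multiset.card_map, ← Finset.card_def, hE],
        fun x hx => by obtain ⟨χ, hχ, rfl⟩ := Multiset.mem_map.1 hx; exact S.deg_E χ hχ⟩
    rw [← Multiset.coe_replicate, Multiset.coe_eq_coe, List.perm_replicate] at h1
    simp [h1, excOk, List.replicate]
  -- the class constant
  obtain ⟨he7', hK7, -⟩ := hD.seven L7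
  have hs : ∀ χ : IrrCharacter G, ∑ v ∈ pNe L11, (χ : G → ℂ) v = (e L11 : ℂ) * sgnEleven (deg χ) := by
    intro χ
    by_cases h : 11 ∣ deg χ
    · rw [sum_pNe_zero L11 h]
      have := Nat.mod_eq_zero_of_dvd h
      simp [sgnEleven, this]
    obtain ⟨O, hO⟩ := exists_mem_ob L11 h
    rw [orb_eq_O0 L11 hK11 O] at hO
    obtain ⟨S'⟩ := exists_oshape L11 (O0 L11)
    have ht' : Nat.card (L11.ColOver (O0 L11)) = 1 := by
      have := card_cols_mul L11
      rw [he11] at this
      omega
    rcases S'.mem_cases hO with h' | h'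
    · obtain ⟨h1, h2⟩ := S'.res_C (ophi_one L11) (by norm_num) h'
      rw [sum_pNe_ob L11 hO, ophi_one, h1, he11]
      simp only [rres, Bool.or_eq_true, beq_iff_eq] at h2
      rcases h2 with h2 | h2 <;> norm_num at h2 <;> simp [sgnEleven, rsgn, h2]
    · have := S'.card_E
      rw [if_pos ht', Finset.card_eq_zero] at this
      exact absurd (this ▸ h') (Finset.notMem_empty χ)
  have hdvd := dvd_class_sum L7 L11 (by rw [he7']) (by rw [he7']) (by rw [he11]) w
    (fun χ => sgnEleven (deg χ)) hw hs
  rw [hK7, hG, show (((7 * 6) ^ 2 : ℕ) : ℤ) = 1764 by norm_num] at hdvd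
  have hclass : classTest e7 = true := by
    rw [classTest, beq_iff_eq, ← Multiset.sum_coe, ← Multiset.map_coe, ← he7, Multiset.map_map]
    refine Int.emod_eq_zero_of_dvd ?_
    convert hdvd using 1
    refine Finset.sum_filter_of_ne (f := fun χ : IrrCharacter G =>
      ((244823040 / deg χ : ℕ) : ℤ) * (w χ * w χ) * sgnEleven (deg χ))
      fun χ _ hne => (fNotSeven_iff _).2 fun h7 => hne ?_
    simp [hw0 χ h7]
  simp only [leafOk, hcount, hexc, hclass, beq_self_eq_true, Bool.and_self, Bool.not_true,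
    Bool.false_or, List.isPerm_iff] at hleaf
  rw [← hl]
  exact Multiset.coe_eq_coe.2 hleaf

/-- **The degrees.** -/
theorem degs_eq : degs G = (trueDegs : Multiset ℕ) := by
  classical
  haveI : Fact (Nat.Prime 7) := ⟨by norm_num⟩
  haveI : Fact (Nat.Prime 5) := ⟨by norm_num⟩
  obtain ⟨L7⟩ := exists_local24 hG 7 (by norm_num) (by norm_num)
  obtain ⟨L5⟩ := exists_local24 hG 5 (by norm_num) (by norm_num)
  obtain ⟨w, hw, hw0, P, hP, Q, hQ, R, hR, h7, he7⟩ := seven_side hG hD L7
  obtain ⟨P5, hP5, T5, hT5, h5⟩ := five_side hG hD L5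
  have hwf := wellFormed_all
  simp only [Bool.and_eq_true, wellFormed, List.all_eq_true, beq_iff_eq] at hwf
  obtain ⟨⟨⟨⟨⟨hP', hQ'⟩, hR'⟩, hP5'⟩, hT5'⟩, hR5'⟩ := hwf
  have hk1 : mkey fOne (degs G) = P.k1 + (Q.k1 + R.k1) := by
    rw [← key_one_sel fNotSeven fOne_le_notSeven, h7, mkey_coe3, (hP' P hP).1.2, (hQ' Q hQ).1.2,
      (hR' R hR).1.2]
  have hkk : mkey fNotSeven (sel fNotFive (degs G)) = P.kk + (Q.kk + R.kk) := by
    rw [← key_cross, h7, mkey_coe3, (hP' P hP).2, (hQ' Q hQ).2, (hR' R hR).2]
  have hT5'' := List.all_eq_true.1 fiveThree_listed T5 hT5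
  simp only [Bool.and_eq_true, beq_iff_eq, List.contains_iff_mem] at hT5''
  set s7 := P.l ++ Q.l ++ R.l with hs7
  -- the part divisible by 7
  have hfin : ∀ (t : List ℕ), sel (fun d => d % 7 == 0) (sel fNotFive (degs G)) = (t : Multiset ℕ) →
      ∀ ok : List ℕ → List ℕ → Bool,
      (decide (244823040 < ((s7 ++ t).map fun d => d * d).sum) ||
        (squareParts restCands (244823040 - ((s7 ++ t).map fun d => d * d).sum)).all (ok (s7 ++ t))) = true →
      ∃ z : List ℕ, ok (s7 ++ t) z = true ∧ ((s7 ++ t ++ z : List ℕ) : Multiset ℕ) = degs G := by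
    intro t ht ok hok
    have hsplit : degs G = ((s7 ++ t : List ℕ) : Multiset ℕ) + sel (fun d => d % 35 == 0) (degs G) := by
      rw [← Multiset.coe_add, ← h7, ← ht]
      exact split_degs _
    have hsq : ((degs G).map fun d => d * d).sum = 244823040 := by
      rw [degs, Multiset.map_map, ← hG, ← LargePrime.sum_charDegree_sq]
      exact Finset.sum_congr rfl fun χ _ => (pow_two _).symm
    rw [hsplit, Multiset.map_add, Multiset.sum_add, Multiset.map_coe, Multiset.sum_coe] at hsq
    obtain ⟨z, hz, hzm⟩ := squareParts_complete restCands (sel (fun d => d % 35 == 0) (degs G))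
      (by decide) (fun d hd => by
        obtain ⟨h1, h2⟩ := Multiset.mem_filter.1 hd
        obtain ⟨χ, -, rfl⟩ := Multiset.mem_map.1 h1
        simpa [List.contains_iff_mem] using
          List.all_eq_true.1 restCands_mem _ (List.mem_filter.2 ⟨deg_mem_cands hG hD χ, h2⟩))
    simp only [Bool.or_eq_true, decide_eq_true_eq, List.all_eq_true] at hok
    refine ⟨z, hok.resolve_left (by omega) z ?_, by rw [← Multiset.coe_add, hzm]; exact hsplit.symm⟩
    rwa [show 244823040 - ((s7 ++ t).map fun d => d * d).sum =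
      ((sel (fun d => d % 35 == 0) (degs G)).map fun d => d * d).sum by omega]
  rcases h5 with ⟨R5, hR5, h5⟩ | ⟨R5, hR5, h5⟩
  · have hk1' : P.k1 + (Q.k1 + R.k1) = P5.k1 + R5.k1 := by
      rw [← hk1, ← key_one_sel fNotFive fOne_le_notFive, h5, mkey_coe3, ← (hP5' P5 hP5).1.2,
        ← (hR5' R5 hR5).1.2, ← (hT5' T5 hT5).1.2, hT5''.1, add_zero]
    have hkk' : P.kk + (Q.kk + R.kk) = P5.kk + (R5.kk + T5.kk) := by
      rw [← hkk, h5, mkey_coe3, ← (hP5' P5 hP5).2, ← (hR5' R5 hR5).2, ← (hT5' T5 hT5).2]
    have hpair := List.all_eq_true.1 (List.all_eq_true.1 fivePairs_listed P5 hP5) R5 hR5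
    simp only [List.contains_iff_mem] at hpair
    rw [← hk1'] at hpair
    have hrow : rowOk P Q R = true := by
      have hi : ∀ i < 8, ∀ P' ∈ (pSevenOne[i]?).toList, rowOk P' Q R = true := by
        intro i hi P' hP'
        have hget : ∀ (b : Piece → Piece → Piece → Bool) (o : List Piece),
            (pSevenSign.all fun Q => pSevenTwo.all fun R => o.all fun P => b P Q R) = true →
            P' ∈ o → b P' Q R = true := fun b o h hm =>
          List.all_eq_true.1 (List.all_eq_true.1 (List.all_eq_true.1 h Q hQ) R hR) P' hm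
        interval_cases i
        exacts [hget _ _ rows_ok_0 hP', hget _ _ rows_ok_1 hP', hget _ _ rows_ok_2 hP',
          hget _ _ rows_ok_3 hP', hget _ _ rows_ok_4 hP', hget _ _ rows_ok_5 hP',
          hget _ _ rows_ok_6 hP', hget _ _ rows_ok_7 hP']
      obtain ⟨i, hi', hPi⟩ := List.getElem_of_mem hP
      refine hi i (lt_of_lt_of_eq hi' (by decide +kernel)) P ?_
      rw [List.getElem?_eq_getElem hi', hPi]
      simp
    simp only [rowOk, List.all_eq_true, Bool.or_eq_true] at hrow
    have h1 := (hrow _ hpair).resolve_left (by simp [Nat.blt_eq]; omega) _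
      (by rw [show P.kk + (Q.kk + R.kk) - (P5.kk + R5.kk) = T5.kk by omega]; exact hT5''.2)
    obtain ⟨z, hz, hzl⟩ := hfin ((P5.l ++ R5.l).filter (fun d => d % 7 == 0) ++
      T5.l.filter (fun d => d % 7 == 0)) (by rw [h5, sel_coe, List.filter_append])
      (fun s z => leafOk (P.e ++ Q.e ++ R.e) (s ++ z)) (by simpa [choiceOk, List.append_assoc, s7] using h1)
    exact degree_tests hG hD L7 hw hw0 he7 hzl hz
  · have hsw : ∀ X ∈ pFiveSplit, X.k1 = key fOne X.l ∧ X.kk = key fNotSeven X.l := fun X hX => by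
      have := List.all_eq_true.1 wellFormed_split X hX
      simp only [Bool.and_eq_true, beq_iff_eq] at this
      exact ⟨this.1.2, this.2⟩
    have hk1' : P.k1 + (Q.k1 + R.k1) = P5.k1 + (R5.k1 + R5.k1) := by
      rw [← hk1, ← key_one_sel fNotFive fOne_le_notFive, h5, mkey_coe, (hP5' P5 hP5).1.2,
        (hsw R5 hR5).1]
      have hz := (hT5' T5 hT5).1.2
      rw [hT5''.1] at hz
      simp only [key, List.filter_append, List.map_append, List.sum_append] at hz ⊢
      omega
    have hkk' : P.kk + (Q.kk + R.kk) = P5.kk + (R5.kk + R5.kk) + T5.kk := by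
      rw [← hkk, h5, mkey_coe, (hP5' P5 hP5).2, (hsw R5 hR5).2, (hT5' T5 hT5).2]
      simp only [key, List.filter_append, List.map_append, List.sum_append]
      omega
    have hpair := List.all_eq_true.1 (List.all_eq_true.1 fiveSplit_listed P5 hP5) R5 hR5
    simp only [List.contains_iff_mem] at hpair
    rw [← hk1'] at hpair
    have hrow := List.all_eq_true.1 (List.all_eq_true.1 (List.all_eq_true.1 rows_split P hP) Q hQ) R hR
    simp only [rowOkSplit, List.all_eq_true, Bool.or_eq_true] at hrow
    have h1 := (hrow _ hpair).resolve_left (by simp [Nat.blt_eq]; omega) _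
      (by rw [show P.kk + (Q.kk + R.kk) - (P5.kk + (R5.kk + R5.kk)) = T5.kk by omega]; exact hT5''.2)
    obtain ⟨z, hz, -⟩ := hfin ((P5.l ++ R5.l ++ R5.l).filter (fun d => d % 7 == 0) ++
      T5.l.filter (fun d => d % 7 == 0)) (by rw [h5, sel_coe, List.filter_append])
      (fun _ _ => false) (by
        simp only [Bool.or_eq_true, decide_eq_true_eq, List.all_eq_true] at h1 ⊢
        rcases h1 with h1 | h1
        · left; simpa [List.append_assoc, s7] using h1
        · right
          intro x hx
          rw [List.isEmpty_iff] at h1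
          exact absurd hx (by simp [s7, List.append_assoc] at h1 ⊢; simp [h1]))
    exact absurd hz Bool.false_ne_true

end CfsgLib.MTwentyFourUnique
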