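import Cfsg.Agent.MTwentyThreeUnique.EndgameChecks
import Cfsg.Agent.MTwentyFourUnique.EndgameData

/-!
The finite checks of the recognition of M24 inside GL(11, 2): the classification of the 2048 candidates
`P * circulant u` for an element of order 10 normalising the cyclic shift as its square does.
-/

set_option autoImplicit false

namespace CfsgLib.MTwentyFourUnique.Gl11

open CfsgLib.Mathieu CfsgLib.M23Ext CfsgLib.MTwentyThreeUnique.Gl11

/-- The candidate for an element of order 10. -/
def candTwo (u : ℕ) : List ℕ := mulM mPTwo (circ u)

/-- The first column of a tenth power. -/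
def tenth (c : List ℕ) : ℕ :=
  xorSel c (xorSel c (xorSel c (xorSel c (xorSel c (xorSel c (xorSel c (xorSel c (xorSel c (xorSel c 1)))))))))

/-- The nine words, in the model of an element of order 23 and a candidate. -/
def wordTwo (k : ℕ) (c : List ℕ) : List ℕ :=
  if k = 1 then mulM mA c
  else if k = 2 then mulM (mulM mA c) c
  else if k = 3 then mulM (mulM mA mA) c
  else if k = 4 then mulM (powM 3 mA 5) c
  else if k = 5 then mulM (mulM mA mA) (mulM c c)
  else if k = 6 then mulM (mulM mA c) (mulM mA (mulM c c))
  else if k = 7 then mulM (powM 2 mA 3) c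
  else if k = 8 then mulM (powM 3 mA 7) c
  else mulM (powM 4 mA 11) c

/-- The order of M24. -/
def ordM24 : ℕ := 244823040

/-- The fate of one candidate. -/
def checkTwo (u : ℕ) : Bool :=
  let k := getTab kindTab 4 u
  if k = 0 then !(tenth (candTwo u) % 2048 == 1)
  else if k ≤ 9 then !(sameM (powM 28 (wordTwo k (candTwo u)) ordM24) idM)
  else sameM (mulM (candTwo u) (powM 4 mB (getTab shiftTab 4 u)))
    (candTwo (if k = 10 then uCode else uCocode))

/-- The fates of 128 candidates in succession. -/
def checkBlockTwo (b : ℕ) : Bool := allBelow 128 fun i => checkTwo (128 * b + i)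

end CfsgLib.MTwentyFourUnique.Gl11
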