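import Cfsg.Agent.MTwentyFourUnique.Residues

/-!
Every family of characters over an orbit is one of the listed pieces.
-/

set_option autoImplicit false
set_option linter.style.haveILetI false
set_option linter.unusedSectionVars false

open Cfsg CfsgLib.Characters CfsgLib.DefectOne CfsgLib.BrauerOrderP

namespace CfsgLib.MTwentyFourUnique

universe u

variable {G : Type u} [Group G] [Fintype G] {p : ℕ} [Fact p.Prime] {L : Local p G} {O : L.Orb}

/-- The degree multiset over an orbit. -/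
theorem OShape.degs_ob (S : OShape L O) :
    (ob L O).val.map deg = S.C.val.map deg + Multiset.replicate S.E.card S.y := by
  rw [S.ob_eq, Finset.disjUnion_val, Multiset.map_add]
  congr 1
  refine Multiset.eq_replicate.2 ⟨Multiset.card_map _ _, fun x hx => ?_⟩
  obtain ⟨χ, hχ, rfl⟩ := Multiset.mem_map.1 hx
  exact S.deg_E χ hχ

theorem OShape.exists_piece (S : OShape L O) (hG : Nat.card G = 244823040)
    (hcl : ∀ χ : IrrCharacter G, deg χ ∈ cands) {φ k t r : ℕ} {c : ℤ} {L' : List Piece}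
    {one : List ℕ} {s : Finset (IrrCharacter G)} (hchk : complete p φ k t r c L' = true)
    (hφ : ophi L O = φ) (hp : 2 * φ % p ≠ 0) (hr' : 2 * r % p ≠ 0) (hr : p ∣ r + φ * L.eO O)
    (ht : S.E.card = t) (hs : s ⊆ S.C) (hk : s.card + k = S.C.card)
    (hone : s.val.map deg = (one : Multiset ℕ))
    (hc : c = (one.map fun d => rsgn p φ d * (d : ℤ)).sum)
    (hC1 : ∀ χ ∈ S.C, χ ∉ s → deg χ ≠ 1) (hE1 : ∀ χ ∈ S.E, deg χ ≠ 1) :
    ∃ P ∈ L', S.C.val.map deg = ((one ++ P.m : List ℕ) : Multiset ℕ) ∧ (t ≠ 0 → S.y = P.y) := by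
  classical
  set m := (S.C \ s).val.map deg with hm
  have hdisj : Disjoint (S.C \ s) S.E := S.disj.mono_left Finset.sdiff_subset
  have hsplit : S.C.val.map deg = (one : Multiset ℕ) + m := by
    rw [← hone, hm, ← Multiset.map_add, ← Finset.disjUnion_val s (S.C \ s) Finset.disjoint_sdiff,
      Finset.disjUnion_eq_union, Finset.union_sdiff_of_subset hs]
  have hmk : m.card = k := by
    rw [hm, Multiset.card_map, ← Finset.card_def, Finset.card_sdiff_of_subset hs]
    omega
  have hm2 : ∀ d ∈ m, d ∈ cands2.filter (rres p φ) := by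
    intro d hd
    obtain ⟨χ, hχ, rfl⟩ := Multiset.mem_map.1 hd
    obtain ⟨hχ1, hχ2⟩ := Finset.mem_sdiff.1 hχ
    refine List.mem_filter.2 ⟨List.mem_filter.2 ⟨hcl χ, ?_⟩, (S.res_C hφ hp hχ1).2⟩
    simpa using hC1 χ hχ1 hχ2
  have hEsum : (S.E.val.map fun χ => deg χ * deg χ).sum = t * (S.y * S.y) := by
    rw [Multiset.map_congr rfl (g := fun _ => S.y * S.y) fun χ hχ => by
        show deg χ * deg χ = _
        rw [show deg χ = S.y from S.deg_E χ hχ], Multiset.map_const', Multiset.sum_replicate,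
      smul_eq_mul, ← Finset.card_def, ht]
  have hq : (m.map fun d => d * d).sum + t * (S.y * S.y) ≤ 244823040 := by
    rw [hm, Multiset.map_map, ← hEsum]
    show ∑ χ ∈ S.C \ s, deg χ * deg χ + ∑ χ ∈ S.E, deg χ * deg χ ≤ _
    rw [← Finset.sum_union hdisj, ← hG, ← LargePrime.sum_charDegree_sq]
    refine (Finset.sum_le_sum_of_subset (Finset.subset_univ _)).trans_eq ?_
    exact Finset.sum_congr rfl fun χ _ => (pow_two _).symm
  have hrel := relation_deg L O
  rw [S.ob_eq, Finset.sum_disjUnion,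
    Finset.sum_congr (s₁ := S.C) rfl (g := fun χ => ((p : ℤ) - 1) * (rsgn p φ (deg χ) * (deg χ : ℤ)))
      fun χ hχ => by rw [(S.res_C hφ hp hχ).1, mul_assoc],
    Finset.sum_congr (s₁ := S.E) rfl (g := fun _ => (L.eO O : ℤ) * S.a * (S.y : ℤ))
      fun χ hχ => by rw [S.sv_E χ hχ, S.deg_E χ hχ],
    Finset.sum_const, ht, nsmul_eq_mul, ← Finset.mul_sum] at hrel
  have hCsum : ∑ χ ∈ S.C, rsgn p φ (deg χ) * (deg χ : ℤ) =
      c + (m.map fun d => rsgn p φ d * (d : ℤ)).sum := by
    show (S.C.val.map ((fun d : ℕ => rsgn p φ d * (d : ℤ)) ∘ deg)).sum = _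
    rw [← Multiset.map_map, hsplit, Multiset.map_add, Multiset.sum_add, hc, Multiset.map_coe,
      Multiset.sum_coe]
  obtain ⟨l, hl, hleaf⟩ := MTwentyThreeUnique.search_sound _ _ _ _ _ _ _ hchk m hmk hm2
    (le_trans (by simp) hq)
  simp only [List.all_eq_true] at hleaf
  have hp1 : (p : ℤ) - 1 ≠ 0 := by
    have := (Fact.out : p.Prime).two_le
    omega
  have hlm : (l : Multiset ℕ) = m := by rw [hl]; simp
  by_cases h0 : t = 0
  · subst h0
    rw [Nat.cast_zero, zero_mul, add_zero, mul_eq_zero] at hrel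
    have hz := hrel.resolve_left hp1
    have h1 := hleaf 0 (by simp)
    simp only [Bool.or_eq_true, bne_iff_ne, decide_eq_true_eq, List.any_eq_true, Bool.and_eq_true,
      List.isPerm_iff, beq_iff_eq, Nat.cast_zero, mul_zero, add_zero, zero_add, zero_mul] at h1
    rcases h1 with (h1 | h1) | ⟨P, hP, h1, -⟩
    · exact absurd (by rw [hCsum] at hz; linarith) h1
    · omega
    · refine ⟨P, hP, ?_, fun h => absurd rfl h⟩
      rw [hsplit, ← Multiset.coe_add, Multiset.coe_eq_coe.2 h1, hlm]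
  · obtain ⟨χE, hχE⟩ := Finset.card_pos.1 (by omega : 0 < S.E.card)
    obtain ⟨ha, hy⟩ := S.res_E hφ hr' hr hχE
    have hte : t * L.eO O = p - 1 := by
      rw [← ht, S.card_E]
      split_ifs with h
      · rw [S.card_E, if_pos h] at ht; omega
      · exact L.card_colOver_mul O
    have hte' : (t : ℤ) * (L.eO O : ℤ) = (p : ℤ) - 1 := by
      have := (Fact.out : p.Prime).two_le
      rw [← Nat.cast_mul, hte]; omega
    have hz : ∑ χ ∈ S.C, rsgn p φ (deg χ) * (deg χ : ℤ) + S.a * (S.y : ℤ) = 0 := by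
      have : ((p : ℤ) - 1) * (∑ χ ∈ S.C, rsgn p φ (deg χ) * (deg χ : ℤ) + S.a * (S.y : ℤ)) = 0 := by
        rw [mul_add]
        linear_combination hrel - (S.a * (S.y : ℤ)) * hte'
      exact (mul_eq_zero.1 this).resolve_left hp1
    have h1 := hleaf S.y (by
      rw [if_neg (by simpa using h0)]
      refine List.mem_filter.2 ⟨List.mem_filter.2 ⟨S.deg_E χE hχE ▸ hcl χE, ?_⟩, hy⟩
      simpa [← S.deg_E χE hχE] using hE1 χE hχE)
    simp only [Bool.or_eq_true, bne_iff_ne, decide_eq_true_eq, List.any_eq_true, Bool.and_eq_true,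
      List.isPerm_iff, beq_iff_eq, zero_add] at h1
    rcases h1 with (h1 | h1) | ⟨P, hP, h1, h2⟩
    · exact absurd (by rw [hCsum, ← ha] at hz; linarith) h1
    · omega
    · refine ⟨P, hP, ?_, fun _ => h2.symm⟩
      rw [hsplit, ← Multiset.coe_add, Multiset.coe_eq_coe.2 h1, hlm]

end CfsgLib.MTwentyFourUnique
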