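import Cfsg.Agent.MTwentyThreeUnique.Profile

/-!
What the order and the numbers of elements of given orders of M24 say about a simple group: the
local structure at the primes 23, 11, 7 and 5, and the elements of order three.
-/

set_option autoImplicit false
set_option linter.style.haveILetI false

open Cfsg CfsgLib.Characters CfsgLib.DefectOne CfsgLib.BrauerOrderP

namespace CfsgLib.MTwentyFourUnique

universe u

/-- The local data of a group with the order and element counts of M24. -/
structure LocalData (G : Type u) [Group G] [Fintype G] : Prop where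
  twenty_three : ∀ [Fact (Nat.Prime 23)] (L : Local 23 G), e L = 11 ∧ L.K = ⊥
  eleven : ∀ [Fact (Nat.Prime 11)] (L : Local 11 G), e L = 10 ∧ L.K = ⊥
  seven : ∀ [Fact (Nat.Prime 7)] (L : Local 7 G),
    e L = 3 ∧ Nat.card L.K = 6 ∧ ¬ IsMulCommutative L.K
  five : ∀ [Fact (Nat.Prime 5)] (L : Local 5 G), e L = 4 ∧ Nat.card L.K = 12 ∧
    Nat.card {k : L.K // orderOf k = 2} = 3 ∧ Nat.card {k : L.K // orderOf k = 3} = 8
  count_three : Nat.card {g : G // orderOf g = 3} = 712448
  orderOf_ne_nine : ∀ g : G, orderOf g ≠ 9

end CfsgLib.MTwentyFourUnique
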