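import Cfsg.Agent.MTwentyFourUnique.Sections

/-!
Elements of order three in the complements of the Sylow centralizers at five and seven: their
normalizer parts, their reality, and congruences for the values of characters at them.
-/

set_option autoImplicit false
set_option linter.style.haveILetI false
set_option linter.unusedSectionVars false
set_option maxHeartbeats 400000

open Cfsg CfsgLib.Characters CfsgLib.DefectOne CfsgLib.BrauerOrderP
open CfsgLib.MTwentyThreeUnique (pNe mem_pNe card_pNe)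
open scoped ComplexConjugate

namespace CfsgLib.MTwentyFourUnique

universe u

section Sylow

variable {H : Type u} [Group H] [Finite H]

/-- Two elements of order three, when nine does not divide the order. -/
theorem conj_or_conj_inv (h9 : ¬ 9 ∣ Nat.card H) {z w : H} (hz : orderOf z = 3)
    (hw : orderOf w = 3) : ∃ k : H, k * z * k⁻¹ = w ∨ k * z * k⁻¹ = w⁻¹ := by
  classical
  haveI : Fact (Nat.Prime 3) := ⟨by norm_num⟩
  have hd : 3 ∣ Nat.card H := hz ▸ orderOf_dvd_natCard z
  obtain ⟨P, hP⟩ := (IsPGroup.of_card (n := 1) (by rw [Nat.card_zpowers, hz, pow_one]) :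
    IsPGroup 3 (Subgroup.zpowers z)).exists_le_sylow
  obtain ⟨Q, hQ⟩ := (IsPGroup.of_card (n := 1) (by rw [Nat.card_zpowers, hw, pow_one]) :
    IsPGroup 3 (Subgroup.zpowers w)).exists_le_sylow
  obtain ⟨k, hk⟩ := MulAction.exists_smul_eq H P Q
  have hQc := card_sylow_of_sq_not_dvd hd (by simpa using h9) Q
  have hQe : Subgroup.zpowers w = (Q : Subgroup H) :=
    Subgroup.eq_of_le_of_card_ge hQ (by rw [hQc, Nat.card_zpowers, hw])
  have hmem : k * z * k⁻¹ ∈ (Q : Subgroup H) := by
    rw [← hk, Sylow.coe_subgroup_smul, Subgroup.mem_pointwise_smul_iff_inv_smul_mem]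
    simpa [MulAut.smul_def, mul_assoc] using hP (Subgroup.mem_zpowers z)
  rw [← hQe, (isOfFinOrder_of_finite w).mem_zpowers_iff_mem_range_orderOf, hw] at hmem
  simp only [Finset.mem_image, Finset.mem_range] at hmem
  obtain ⟨i, hi, hiw⟩ := hmem
  interval_cases i
  · exfalso
    rw [pow_zero, eq_comm, conj_eq_one_iff] at hiw
    rw [hiw, orderOf_one] at hz
    omega
  · exact ⟨k, Or.inl (by rw [← hiw, pow_one])⟩
  · refine ⟨k, Or.inr ?_⟩
    rw [← hiw]
    exact eq_inv_of_mul_eq_one_left (by rw [← pow_succ]; exact orderOf_dvd_iff_pow_eq_one.1 (by rw [hw]))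

/-- A non-trivial linear character of a group of order twelve with eight elements of order three
is non-trivial at each of them. -/
theorem lin_ne_one (hK : Nat.card H = 12) (h3 : Nat.card {k : H // orderOf k = 3} = 8)
    {f : H →* ℂˣ} (hf : f ≠ 1) {z : H} (hz : orderOf z = 3) : f z ≠ 1 := by
  intro h1
  have h9 : ¬ 9 ∣ Nat.card H := by rw [hK]; norm_num
  have hconj : ∀ k k' : H, f (k * k' * k⁻¹) = f k' := fun k k' => by
    rw [map_mul, map_mul, map_inv, mul_right_comm, mul_inv_cancel, one_mul]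
  have hall : ∀ w : H, orderOf w = 3 → w ∈ f.ker := fun w hw => by
    obtain ⟨k, h | h⟩ := conj_or_conj_inv h9 hz hw
    · rw [MonoidHom.mem_ker, ← h, hconj, h1]
    · rw [MonoidHom.mem_ker, ← inv_inv w, ← h, map_inv, hconj, h1, inv_one]
  have hle : 8 ≤ Nat.card f.ker := by
    rw [← h3]
    exact Nat.card_le_card_of_injective (fun x => ⟨x.1, hall x.1 x.2⟩) fun a b e =>
      Subtype.ext (congrArg (fun y : f.ker => (y : H)) e)
  have hdvd := Subgroup.card_subgroup_dvd_card f.ker
  rw [hK] at hdvd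
  have h12 : ∀ k ∈ Nat.divisors 12, 8 ≤ k → k = 12 := by decide
  have htop : f.ker = ⊤ := Subgroup.eq_top_of_card_eq _ (by
    rw [hK]; exact h12 _ (Nat.mem_divisors.2 ⟨hdvd, by norm_num⟩) hle)
  exact hf (MonoidHom.ext fun k => (SetLike.ext_iff.1 htop k).2 (Subgroup.mem_top k))

end Sylow

variable {G : Type u} [Group G] [Fintype G] {p : ℕ} [Fact p.Prime] (L : Local p G)

theorem K_le_N : L.K ≤ L.N := fun _ hk => Subgroup.centralizer_le_normalizer _ (L.le_centralizer hk)

/-- The number of conjugates times the order of the centralizer. -/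
theorem card_class_mul (x : G) :
    Nat.card {g : G // IsConj g x} * Nat.card (Subgroup.centralizer ({x} : Set G)) = Nat.card G := by
  rw [Characters.card_conjugates_eq_index, Subgroup.index_mul_card]

/-- The centralizer of an element of `K` has the index `1` modulo `p` over its normalizer part. -/
theorem centralizer_modEq {z : L.N} (hz : (z : G) ∈ L.K) :
    ∃ m : ℕ, m % p = 1 ∧ Nat.card (Subgroup.centralizer ({(z : G)} : Set G)) =
      m * Nat.card (Subgroup.centralizer ({z} : Set L.N)) := by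
  classical
  set C := Subgroup.centralizer ({(z : G)} : Set G) with hC
  have hPC : (L.P : Subgroup G) ≤ C := fun u hu =>
    Subgroup.mem_centralizer_singleton_iff.2 (L.commute hu hz).eq
  let S : Sylow p C := L.P.subtype hPC
  have hN : Subgroup.normalizer (S : Set C) = L.N.subgroupOf C := by
    ext x
    rw [Subgroup.mem_subgroupOf, show (S : Set C) = ((S : Subgroup C) : Set C) from rfl,
      Subgroup.mem_normalizer_iff, Subgroup.mem_normalizer_iff]
    simp only [S, Sylow.coe_subtype, Subgroup.mem_subgroupOf, Subgroup.coe_mul, InvMemClass.coe_inv]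
    refine ⟨fun h g => ⟨fun hg => (h ⟨g, hPC hg⟩).1 hg, fun hg => ?_⟩, fun h g => h g⟩
    have hgC : g ∈ C := by
      have h2 := C.mul_mem (C.mul_mem (C.inv_mem x.2) (hPC hg)) x.2
      simpa [mul_assoc] using h2
    exact (h ⟨g, hgC⟩).2 hg
  refine ⟨Nat.card (Sylow p C), ?_, ?_⟩
  · have h := card_sylow_modEq_one p C
    rw [Nat.ModEq, Nat.mod_eq_of_lt (Fact.out : p.Prime).one_lt] at h
    exact h
  · rw [S.card_eq_index_normalizer, hN, ← Subgroup.index_mul_card (L.N.subgroupOf C)]
    congr 1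
    refine Nat.card_congr
      { toFun := fun x => ⟨⟨((x : C) : G), Subgroup.mem_subgroupOf.1 x.2⟩,
          Subgroup.mem_centralizer_singleton_iff.2
            (Subtype.ext (Subgroup.mem_centralizer_singleton_iff.1 (x : C).2))⟩
        invFun := fun y => ⟨⟨((y : L.N) : G), Subgroup.mem_centralizer_singleton_iff.2
          (congrArg Subtype.val (Subgroup.mem_centralizer_singleton_iff.1 y.2))⟩,
          Subgroup.mem_subgroupOf.2 (y : L.N).2⟩
        left_inv := fun x => rfl
        right_inv := fun y => rfl }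

theorem card_N_mul {z : L.N} {o : ℕ} (h : Nat.card {x : L.N // IsConj x z} = o) :
    o * Nat.card (Subgroup.centralizer ({z} : Set L.N)) = e L * (p * Nat.card L.K) := by
  classical
  haveI := Fintype.ofFinite L.N
  rw [← h, Characters.card_conjugates_eq_index, Subgroup.index_mul_card, card_N L]

/-- The integrality of the multiplicity of the trivial character of `P × ⟨z⟩`. -/
theorem three_congr {χ : IrrCharacter G} {z : L.K} (hz : orderOf z = 3) {x A B : ℤ}
    (hx : (χ : G → ℂ) (z : G) = x) (hx' : (χ : G → ℂ) ((z : G))⁻¹ = x)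
    (hA : ∑ u ∈ pNe L, (χ : G → ℂ) u = A) (hB : ∑ u ∈ pNe L, (χ : G → ℂ) (u * (z : G)) = B)
    (hB' : ∑ u ∈ pNe L, (χ : G → ℂ) (u * (z : G)⁻¹) = B) :
    (3 * p : ℤ) ∣ (Cfsg.charDegree (χ : G → ℂ) : ℤ) + 2 * x + A + 2 * B := by
  classical
  let Z : Subgroup L.K := Subgroup.zpowers z
  let f : ↥(L.P : Subgroup G) × Z →* G := L.emb.comp ((MonoidHom.id _).prodMap Z.subtype)
  have hf : Function.Injective f := L.emb_injective.comp
    (Function.Injective.prodMap Function.injective_id Subtype.val_injective)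
  haveI := Fintype.ofFinite f.range
  haveI := Fintype.ofFinite (L.P : Subgroup G)
  haveI := Fintype.ofFinite Z
  obtain ⟨m, hm⟩ := classInner_characters (isCharacter_restrict f.range (isCharacter_of_isIrr χ.2))
    (isCharacter_of_isIrr (isIrr_one (G := f.range)))
  rw [Cfsg.classInner] at hm
  simp only [map_one, mul_one] at hm
  have hcardH : Nat.card f.range = p * 3 := by
    rw [← Nat.card_congr (MonoidHom.ofInjective hf).toEquiv, Nat.card_prod, L.card_P,
      Nat.card_zpowers, hz]
  set i : Z := ⟨z, Subgroup.mem_zpowers z⟩ with hi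
  have hio : orderOf i = 3 := by rw [← Subgroup.orderOf_coe, hi]; exact hz
  have h10 : (1 : Z) ≠ i := fun h => by rw [← h, orderOf_one] at hio; omega
  have h20 : (1 : Z) ≠ i⁻¹ := fun h => h10 (inv_eq_one.1 h.symm).symm
  have h21 : i ≠ i⁻¹ := fun h => by
    have h2 : i ^ 2 = 1 := by rw [pow_two]; nth_rewrite 2 [h]; exact mul_inv_cancel i
    have := orderOf_dvd_of_pow_eq_one h2
    rw [hio] at this
    norm_num at this
  have huniv : (Finset.univ : Finset Z) = {1, i, i⁻¹} := by
    refine (Finset.eq_univ_of_card _ ?_).symm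
    rw [← Nat.card_eq_fintype_card, Nat.card_zpowers, hz, Finset.card_insert_of_notMem
      (by simp [h10, h20]), Finset.card_pair h21]
  have hw : ∀ k : Z, ∑ w : ↥(L.P : Subgroup G), (χ : G → ℂ) (f (w, k)) =
      (χ : G → ℂ) ((k : L.K) : G) + ∑ u ∈ pNe L, (χ : G → ℂ) (u * ((k : L.K) : G)) := by
    intro k
    rw [sum_pNe_eq L (fun u => (χ : G → ℂ) (u * ((k : L.K) : G))),
      ← Finset.add_sum_erase _ _ (Finset.mem_univ (1 : ↥(L.P : Subgroup G)))]
    congr 1
    show (χ : G → ℂ) (((1 : ↥(L.P : Subgroup G)) : G) * ((k : L.K) : G)) = _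
    rw [OneMemClass.coe_one, one_mul]
  rw [show ∑ x : f.range, (χ : G → ℂ) x = ∑ y : ↥(L.P : Subgroup G) × Z, (χ : G → ℂ) (f y) from
    (Fintype.sum_equiv (MonoidHom.ofInjective hf).toEquiv _ _ fun y => rfl).symm,
    Fintype.sum_prod_type, Finset.sum_comm, Finset.sum_congr rfl fun k _ => hw k, huniv,
    Finset.sum_insert (by simp [h10, h20]), Finset.sum_pair h21, hcardH] at hm
  simp only [OneMemClass.coe_one, InvMemClass.coe_inv, hi, mul_one, hA, hB, hB', hx, hx',
    ← Blocks.charDegree_cast] at hm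
  rw [inv_mul_eq_iff_eq_mul₀ (by simp [(Fact.out : p.Prime).ne_zero])] at hm
  refine ⟨m, ?_⟩
  apply Int.cast_injective (α := ℂ)
  push_cast at hm ⊢
  linear_combination hm

/-- A centralizer of order prime to a prime with trivial complement. -/
theorem not_dvd_centralizer {q : ℕ} [Fact q.Prime] (Lq : Local q G) (hK : Lq.K = ⊥) (hq : q ≠ 3)
    {z : G} (hz : orderOf z = 3) : ¬ q ∣ Nat.card (Subgroup.centralizer ({z} : Set G)) := by
  intro h
  have hqp : q.Prime := Fact.out
  obtain ⟨⟨y, hy⟩, hyo⟩ := exists_prime_orderOf_dvd_card' q h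
  rw [Subgroup.orderOf_mk] at hyo
  have hc : Commute z y := (Subgroup.mem_centralizer_singleton_iff.1 hy).symm
  have hcop : Nat.Coprime (orderOf z) (orderOf y) := by
    rw [hz, hyo]
    exact (Nat.coprime_primes (by norm_num) hqp).2 hq.symm
  have ho : orderOf (z * y) = 3 * q := by rw [hc.orderOf_mul_eq_mul_orderOf_of_coprime hcop, hz, hyo]
  obtain ⟨c, hc'⟩ := Lq.exists_conj_centralizer (g := z * y) (by rw [ho]; exact dvd_mul_left _ _)
  have hd := Subgroup.orderOf_dvd_natCard _ hc'
  rw [Lq.card_centralizer, hK, Subgroup.card_bot, mul_one,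
    show orderOf (c * (z * y) * c⁻¹) = orderOf (z * y) from (MulAut.conj c).orderOf_eq _, ho] at hd
  have := Nat.le_of_dvd hqp.pos hd
  have := hqp.pos
  omega

section Five

variable [Fact (Nat.Prime 5)] (L5 : Local 5 G)

/-- The local facts about an element of order three of the complement at five. -/
theorem five_three {A : L5.Orb} (hA : A ≠ O0 L5) (hphi : ophi L5 A = 2) (heA : L5.eO A = 2)
    (he : e L5 = 4) (hK : Nat.card L5.K = 12) (h3 : Nat.card {k : L5.K // orderOf k = 3} = 8) :
    ∃ z : L5.K, orderOf z = 3 ∧ IsConj (z : G) (z : G)⁻¹ ∧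
      ∃ m : ℕ, m % 5 = 1 ∧ Nat.card (Subgroup.centralizer ({(z : G)} : Set G)) = m * 30 := by
  classical
  haveI := Fintype.ofFinite L5.K
  obtain ⟨⟨z, hz⟩⟩ : Nonempty {k : L5.K // orderOf k = 3} :=
    (Nat.card_pos_iff.1 (by rw [h3]; norm_num)).1
  have h9 : ¬ 9 ∣ Nat.card L5.K := by rw [hK]; norm_num
  have hc2 : L5.orbCard A = 2 := by
    have := orbCard_mul_eO L5 A
    rw [heA, he] at this
    omega
  set φ : IrrCharacter L5.K := Quotient.out A with hφdef
  have horb : L5.orb φ = A := Quotient.out_eq A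
  have hd : Cfsg.charDegree (φ : L5.K → ℂ) = 1 := by
    have h := hphi
    rw [ophi_of_out L5 horb, hc2] at h
    omega
  have hne1 : φ ≠ oneK L5 := fun h => hA (horb.symm.trans (congrArg L5.orb h))
  have hbar : bar φ ≠ φ := fun h => hne1
    (Subtype.ext ((eq_one_of_real_linear hK h3 hd h).trans (funext fun k => (oneK_apply L5 k).symm)))
  obtain ⟨n, hn⟩ : ∃ n : L5.N, bar φ = L5.phiBy n φ := by
    rw [← L5.orb_eq_iff]
    obtain ⟨-, hone, -⟩ := degrees_twelve hK h3
    obtain ⟨ψ, hψ, hψne⟩ := Finset.exists_mem_ne (s := Finset.univ.filter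
      fun χ : IrrCharacter L5.K => L5.orb χ = L5.orb φ)
      (by rw [← orbCard_eq, horb, hc2]; norm_num) φ
    replace hψ := (Finset.mem_filter.1 hψ).2
    have hψd : Cfsg.charDegree (ψ : L5.K → ℂ) = 1 := (deg_orb L5 hψ).trans hd
    have hψ1 : ψ ≠ oneK L5 := fun h => hA (horb.symm.trans (hψ.symm.trans (congrArg L5.orb h)))
    have hb1 : bar φ ≠ oneK L5 := fun h => hne1 (by
      rw [← bar_bar φ, h]; exact Subtype.ext (funext fun k => map_one (starRingEnd ℂ)))
    have hd1 : Cfsg.charDegree (oneK L5 : L5.K → ℂ) = 1 :=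
      Nat.cast_injective (R := ℂ) (by rw [Blocks.charDegree_cast, oneK_apply]; simp)
    by_contra hno
    have hψb : ψ ≠ bar φ := fun h => hno (h ▸ hψ.symm)
    have hle : ({oneK L5, φ, ψ, bar φ} : Finset (IrrCharacter L5.K)).card ≤
        (Finset.univ.filter fun χ : IrrCharacter L5.K => Cfsg.charDegree (χ : L5.K → ℂ) = 1).card := by
      refine Finset.card_le_card fun x hx => Finset.mem_filter.2 ⟨Finset.mem_univ _, ?_⟩
      simp only [Finset.mem_insert, Finset.mem_singleton] at hx
      rcases hx with rfl | rfl | rfl | rfl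
      exacts [hd1, hd, hψd, (charDegree_bar φ).trans hd]
    rw [hone, Finset.card_insert_of_notMem (by simp [Ne.symm hne1, Ne.symm hψ1, Ne.symm hb1]),
      Finset.card_insert_of_notMem (by simp [Ne.symm hψne, Ne.symm hbar]),
      Finset.card_pair hψb] at hle
    omega
  obtain ⟨f, hf⟩ := exists_hom_of_degree_one (isCharacter_of_isIrr φ.2)
    (show (φ : L5.K → ℂ) 1 = 1 by rw [← Blocks.charDegree_cast, hd, Nat.cast_one])
  have hconj : ∀ k k' : L5.K, f (k * k' * k⁻¹) = f k' := fun k k' => by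
    rw [map_mul, map_mul, map_inv, mul_right_comm, mul_inv_cancel, one_mul]
  have hfz : f z ≠ 1 := lin_ne_one hK h3 (fun e => hne1 (Subtype.ext (funext fun k => by
    rw [hf, oneK_apply]
    simp only
    rw [e]; rfl))) hz
  -- conjugation by `n` inverts modulo the kernel
  set y : L5.K := L5.autK n z with hy
  have hyo : orderOf y = 3 := ((L5.autK n).orderOf_eq z).trans hz
  have hfy : f y = (f z)⁻¹ := by
    have h := congrFun (congrArg Subtype.val hn) z
    rw [bar_apply, L5.phiBy_apply, hf] at h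
    simp only at h
    have hfin : IsOfFinOrder ((f z : ℂˣ) : ℂ) :=
      (Units.coeHom ℂ).isOfFinOrder (f.isOfFinOrder (isOfFinOrder_of_finite z))
    refine eq_inv_of_mul_eq_one_left (Units.ext ?_)
    rw [Units.val_mul, ← hy] at *
    rw [← h, mul_comm, Complex.mul_conj, Complex.normSq_eq_norm_sq, hfin.norm_eq_one]
    norm_num
  obtain ⟨j, hj⟩ : ∃ j : L5.K, j * z * j⁻¹ = y⁻¹ := by
    obtain ⟨j, h | h⟩ := conj_or_conj_inv h9 hz hyo
    · exfalso
      rw [← h, hconj] at hfy
      have h2 : f z ^ 2 = 1 := by rw [pow_two]; nth_rewrite 2 [hfy]; exact mul_inv_cancel _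
      have h33 : f z ^ 3 = 1 := by rw [← map_pow, ← hz, pow_orderOf_eq_one, map_one]
      rw [pow_succ, h2, one_mul] at h33
      exact hfz h33
    · exact ⟨j, h⟩
  have hinv : ((j⁻¹ : L5.K) : G) * (n : G) * z * (((j⁻¹ : L5.K) : G) * (n : G))⁻¹ = (z : G)⁻¹ := by
    have h : z⁻¹ = j⁻¹ * y * j⁻¹⁻¹ := by
      rw [← inv_inj, inv_inv, mul_inv_rev, mul_inv_rev, inv_inv, inv_inv, ← hj]; group
    rw [← InvMemClass.coe_inv, h]
    simp only [Subgroup.coe_mul, InvMemClass.coe_inv, hy, L5.coe_autK]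
    group
  set z' : L5.N := ⟨(z : G), K_le_N L5 z.2⟩ with hz'
  have horbit : Nat.card {x : L5.N // IsConj x z'} = 8 := by
    rw [← h3]
    have hval : ∀ x : L5.N, IsConj x z' → (x : G) ∈ L5.K ∧ orderOf (x : G) = 3 := fun x hx => by
      obtain ⟨c, hc⟩ := isConj_iff.1 hx.symm
      have hxe : (x : G) = (c : G) * z * (c : G)⁻¹ := by rw [← hc]; rfl
      refine ⟨hxe ▸ L5.conj_mem_K c.2 z.2, ?_⟩
      rw [hxe, show orderOf ((c : G) * z * (c : G)⁻¹) = orderOf (z : G) from
        (MulAut.conj (c : G)).orderOf_eq _, Subgroup.orderOf_coe, hz]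
    refine Nat.card_eq_of_bijective
      (fun x => (⟨⟨(x.1 : G), (hval x.1 x.2).1⟩, by
        rw [← Subgroup.orderOf_coe]; exact (hval x.1 x.2).2⟩ : {k : L5.K // orderOf k = 3}))
      ⟨fun a b h => ?_, fun w => ?_⟩
    · exact Subtype.ext (Subtype.ext (congrArg (fun v : {k : L5.K // orderOf k = 3} => (v.1 : G)) h))
    · refine ⟨⟨⟨(w.1 : G), K_le_N L5 w.1.2⟩, (isConj_iff.2 ?_).symm⟩, Subtype.ext (Subtype.ext rfl)⟩
      obtain ⟨k, h | h⟩ := conj_or_conj_inv h9 hz w.2
      · refine ⟨⟨(k : G), K_le_N L5 k.2⟩, Subtype.ext ?_⟩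
        show (k : G) * z * (k : G)⁻¹ = (w.1 : G)
        rw [← h]; rfl
      · refine ⟨⟨(k : G) * ((j⁻¹ : L5.K) : G) * n,
          L5.N.mul_mem (L5.N.mul_mem (K_le_N L5 k.2) (K_le_N L5 (j⁻¹).2)) n.2⟩, Subtype.ext ?_⟩
        show (k : G) * ((j⁻¹ : L5.K) : G) * n * z * ((k : G) * ((j⁻¹ : L5.K) : G) * n)⁻¹ = (w.1 : G)
        calc (k : G) * ((j⁻¹ : L5.K) : G) * n * z * ((k : G) * ((j⁻¹ : L5.K) : G) * n)⁻¹
            = k * (((j⁻¹ : L5.K) : G) * n * z * (((j⁻¹ : L5.K) : G) * n)⁻¹) * (k : G)⁻¹ := by group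
          _ = ((k : G) * z * (k : G)⁻¹)⁻¹ := by rw [hinv]; group
          _ = (w.1 : G) := by
            have h' := congrArg Subtype.val h
            simp only [Subgroup.coe_mul, InvMemClass.coe_inv] at h'
            rw [h', inv_inv]
  obtain ⟨m, hm, hcard⟩ := centralizer_modEq L5 (z := z') z.2
  refine ⟨z, hz, isConj_iff.2 ⟨_, hinv⟩, m, hm, hcard.trans ?_⟩
  have h := card_N_mul L5 horbit
  rw [he, hK] at h
  congr 1
  omega

end Five

section Seven

variable [Fact (Nat.Prime 7)] (L7 : Local 7 G)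

/-- The local facts about an element of order three of the complement at seven. -/
theorem seven_three (he : e L7 = 3) (hK : Nat.card L7.K = 6) (hnc : ¬ IsMulCommutative L7.K) :
    ∃ z : L7.K, orderOf z = 3 ∧ IsConj (z : G) (z : G)⁻¹ ∧
      ∃ m : ℕ, m % 7 = 1 ∧ Nat.card (Subgroup.centralizer ({(z : G)} : Set G)) = m * 63 := by
  classical
  haveI : Fact (Nat.Prime 3) := ⟨by norm_num⟩
  haveI : Fact (Nat.Prime 2) := ⟨by norm_num⟩
  obtain ⟨z, hz⟩ := exists_prime_orderOf_dvd_card' (G := L7.K) 3 (by rw [hK]; norm_num)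
  obtain ⟨t, ht⟩ := exists_prime_orderOf_dvd_card' (G := L7.K) 2 (by rw [hK]; norm_num)
  set Z := Subgroup.zpowers z with hZ
  have hidx : Z.index = 2 := by
    have h := Z.index_mul_card
    rw [show Nat.card Z = 3 by rw [hZ, Nat.card_zpowers, hz], hK] at h
    omega
  haveI : Z.Normal := Subgroup.normal_of_index_eq_two hidx
  have hall : ∀ w : L7.K, orderOf w = 3 → w = z ∨ w = z⁻¹ := by
    intro w hw
    have h2 : w * w ∈ Z := Subgroup.mul_self_mem_of_index_two hidx w
    have h4 : w = w * w * (w * w) := by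
      rw [show w * w * (w * w) = w ^ 3 * w by simp [pow_succ, mul_assoc], ← hw, pow_orderOf_eq_one, one_mul]
    have hwZ : w ∈ Z := h4 ▸ Z.mul_mem h2 h2
    rw [hZ, (isOfFinOrder_of_finite z).mem_zpowers_iff_mem_range_orderOf, hz] at hwZ
    simp only [Finset.mem_image, Finset.mem_range] at hwZ
    obtain ⟨i, hi, hiw⟩ := hwZ
    interval_cases i
    · rw [pow_zero] at hiw; rw [← hiw, orderOf_one] at hw; omega
    · exact Or.inl (by rw [← hiw, pow_one])
    · refine Or.inr (hiw.symm.trans (eq_inv_of_mul_eq_one_left ?_))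
      rw [← pow_succ]; exact orderOf_dvd_iff_pow_eq_one.1 (by rw [hz])
  have htz : t * z * t⁻¹ = z⁻¹ := by
    refine (hall _ (((MulAut.conj t).orderOf_eq z).trans hz)).resolve_left fun h => hnc ?_
    have hc : Commute t z := mul_inv_eq_iff_eq_mul.1 h
    have ho : orderOf (t * z) = Nat.card L7.K := by
      rw [hc.orderOf_mul_eq_mul_orderOf_of_coprime (by rw [ht, hz]; norm_num), ht, hz, hK]
    haveI := isCyclic_of_orderOf_eq_card _ ho
    exact IsCyclic.isMulCommutative
  set z' : L7.N := ⟨(z : G), K_le_N L7 z.2⟩ with hz'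
  set t' : L7.N := ⟨(t : G), K_le_N L7 t.2⟩ with ht'
  have htz' : t' * z' * t'⁻¹ = z'⁻¹ := by
    apply Subtype.ext
    show (t : G) * z * (t : G)⁻¹ = (z : G)⁻¹
    rw [← InvMemClass.coe_inv z, ← htz]; rfl
  have hne : z' ≠ z'⁻¹ := fun h => by
    have h1 : z = z⁻¹ := Subtype.ext (by have h' := congrArg Subtype.val h; simpa [hz'] using h')
    have h2 : z ^ 2 = 1 := by rw [pow_two]; nth_rewrite 2 [h1]; exact mul_inv_cancel z
    have := orderOf_dvd_of_pow_eq_one h2
    rw [hz] at this
    norm_num at this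
  have horbit : Nat.card {x : L7.N // IsConj x z'} = 2 := by
    rw [← Finset.card_pair hne, ← Nat.card_eq_finsetCard]
    refine Nat.card_congr (Equiv.subtypeEquivRight fun x => ?_)
    simp only [Finset.mem_insert, Finset.mem_singleton]
    constructor
    · intro hx
      obtain ⟨c, rfl⟩ := isConj_iff.1 hx.symm
      have hw := hall ⟨_, L7.conj_mem_K c.2 z.2⟩ (by
        rw [← Subgroup.orderOf_coe]
        show orderOf ((c : G) * z * (c : G)⁻¹) = 3
        rw [show orderOf ((c : G) * z * (c : G)⁻¹) = orderOf (z : G) from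
          (MulAut.conj (c : G)).orderOf_eq _, Subgroup.orderOf_coe, hz])
      rcases hw with h | h
      · exact Or.inl (Subtype.ext (congrArg Subtype.val h :))
      · exact Or.inr (Subtype.ext (congrArg Subtype.val h :))
    · rintro (rfl | rfl)
      · exact IsConj.refl _
      · exact (isConj_iff.2 ⟨t', htz'⟩).symm
  obtain ⟨m, hm, hcard⟩ := centralizer_modEq L7 (z := z') z.2
  refine ⟨z, hz, isConj_iff.2 ⟨t, congrArg Subtype.val htz⟩, m, hm, hcard.trans ?_⟩
  have h := card_N_mul L7 horbit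
  rw [he, hK] at h
  congr 1
  omega

end Seven

end CfsgLib.MTwentyFourUnique
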