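import Cfsg.Agent.MTwentyFourUnique.LocalData
import Cfsg.Agent.M24Classes.OrderCountsMain
import Cfsg.Agent.FgsSix.ThreeCounts
import Cfsg.Agent.Small.SylowPrime
import Cfsg.Agent.Small.Counting

/-!
The numbers of elements of given orders of M24 determine the local data of a group of its order.
-/

set_option autoImplicit false
set_option linter.style.haveILetI false
set_option linter.unusedSectionVars false

open Cfsg CfsgLib.DefectOne CfsgLib.BrauerOrderP
open CfsgLib.FgsSix.ThreeCounts (cnt cnt_one cnt_pos even_cnt dvd_sum_divisors dvd_card_of_cnt_pos prime_dvd_succ cnt_prime_pos)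
open CfsgLib.M24Classes (orderCounts)

namespace CfsgLib.MTwentyFourUnique

universe u

section General

variable {G : Type u} [Group G] [Fintype G] {p : ℕ} [Fact p.Prime] (L : Local p G)

omit [Fact p.Prime] [Fintype G] in
theorem orderOf_conj_eq (c g : G) : orderOf (c * g * c⁻¹) = orderOf g := by
  simpa [MulAut.conj_apply] using (MulAut.conj c).orderOf_eq g

/-- An element of order `p * j` is an element of order `p` times one of order `j` of its
centralizer. -/
theorem cnt_mul {j : ℕ} (hj : ¬ p ∣ j) : cnt G (p * j) = cnt G p * cnt L.K j := by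
  classical
  have hp : p.Prime := Fact.out
  have hco : Nat.Coprime p j := hp.coprime_iff_not_dvd.2 hj
  obtain ⟨a, ha1, ha0⟩ := Nat.chineseRemainder hco 1 0
  have haj : j ∣ a := Nat.modEq_zero_iff_dvd.1 ha0
  have hap : ¬ p ∣ a := fun h => hp.not_dvd_one ((Nat.ModEq.dvd_iff ha1 dvd_rfl).1 h)
  -- the part of order `p`
  have hpart : ∀ g : G, orderOf g = p * j → orderOf (g ^ a) = p := fun g hg => by
    obtain ⟨b, rfl⟩ := haj
    rw [pow_mul]
    have h1 : orderOf (g ^ j) = p := by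
      rw [orderOf_pow_of_dvd (fun h => hj (by rw [h]; exact dvd_zero p))
        (by rw [hg]; exact dvd_mul_left j p), hg,
        Nat.mul_div_cancel _ (Nat.pos_of_ne_zero fun h => hj (by rw [h]; exact dvd_zero p))]
    rw [Nat.Coprime.orderOf_pow (by
      rw [h1]; exact hp.coprime_iff_not_dvd.2 fun h => hap (h.mul_left j)), h1]
  let f : {g : G // orderOf g = p * j} → {u : G // orderOf u = p} :=
    fun g => ⟨g.1 ^ a, hpart g.1 g.2⟩
  haveI := Fintype.ofFinite {u : G // orderOf u = p}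
  unfold cnt
  rw [← Nat.card_congr (Equiv.sigmaFiberEquiv f), Nat.card_sigma]
  refine (Finset.sum_const_nat (m := Nat.card {k : L.K // orderOf k = j}) fun u _ => ?_).trans
    (by rw [Nat.card_eq_fintype_card (α := {u : G // orderOf u = p}), Finset.card_univ])
  obtain ⟨u, hu⟩ := u
  obtain ⟨c, hc⟩ := L.exists_conj_centralizer (g := u) (hu ▸ dvd_rfl)
  set w := c * u * c⁻¹ with hwdef
  have hwo : orderOf w = p := (orderOf_conj_eq c u).trans hu
  have hwP : w ∈ (L.P : Subgroup G) := by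
    obtain ⟨x, hx, k, hk, he⟩ := L.decomp w hc
    have h1 := congrArg (· ^ p) he
    simp only [(L.commute hx hk).mul_pow, L.pow_p hx, one_mul] at h1
    rw [show w ^ p = 1 by rw [← hwo]; exact pow_orderOf_eq_one w] at h1
    have h2 : orderOf k ∣ p := orderOf_dvd_of_pow_eq_one h1.symm
    rcases (Nat.dvd_prime hp).1 h2 with h | h
    · rw [he, orderOf_eq_one_iff.1 h, mul_one]; exact hx
    · exact absurd h.symm.dvd (L.not_dvd_orderOf hk)
  have hw1 : w ≠ 1 := fun h => hp.one_lt.ne' (by rw [← hwo, h, orderOf_one])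
  have hwa : w ^ a = w := by
    conv_rhs => rw [← pow_one w]
    rw [pow_eq_pow_iff_modEq, hwo]
    exact ha1
  refine (Nat.card_eq_of_bijective (fun k : {k : L.K // orderOf k = j} =>
    (⟨⟨c⁻¹ * (w * (k.1 : G)) * c, ?_⟩, ?_⟩ : {g : {g : G // orderOf g = p * j} // f g = ⟨u, hu⟩}))
    ⟨?_, ?_⟩).symm
  · have hk : orderOf (k.1 : G) = j := (Subgroup.orderOf_coe k.1).trans k.2
    have h := orderOf_conj_eq c⁻¹ (w * (k.1 : G))
    rw [inv_inv] at h
    rw [h, (L.commute hwP k.1.2).orderOf_mul_eq_mul_orderOf_of_coprime, hwo, hk]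
    rw [hwo, hk]; exact hco
  · refine Subtype.ext ?_
    show (c⁻¹ * (w * (k.1 : G)) * c) ^ a = u
    have hk : (k.1 : G) ^ a = 1 := orderOf_dvd_iff_pow_eq_one.1
      (((Subgroup.orderOf_coe k.1).trans k.2).symm ▸ haj)
    have h := conj_pow (a := c⁻¹) (b := w * (k.1 : G)) (i := a)
    rw [inv_inv] at h
    rw [h, (L.commute hwP k.1.2).mul_pow, hwa, hk, mul_one, hwdef]
    group
  · intro k k' h
    have h' : c⁻¹ * (w * (k.1 : G)) * c = c⁻¹ * (w * (k'.1 : G)) * c :=
      congrArg (fun z => ((z : {g : G // orderOf g = p * j}) : G)) (congrArg Subtype.val h)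
    exact Subtype.ext (Subtype.ext (mul_left_cancel (mul_left_cancel (mul_right_cancel h'))))
  · rintro ⟨⟨g, hg⟩, hgu⟩
    have hgu' : g ^ a = u := congrArg Subtype.val hgu
    have hga : (c * g * c⁻¹) ^ a = w := by rw [conj_pow, hgu']
    have hcom : c * g * c⁻¹ ∈ Subgroup.centralizer ((L.P : Subgroup G) : Set G) := by
      rw [← L.centralizer_singleton hwP hw1, Subgroup.mem_centralizer_singleton_iff, ← hga]
      exact ((Commute.refl (c * g * c⁻¹)).pow_right a).eq
    obtain ⟨x, hx, k, hk, he⟩ := L.decomp _ hcom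
    have hgo : orderOf (x * k) = p * j := by rw [← he, orderOf_conj_eq, hg]
    have hx1 : x ≠ 1 := fun h => by
      rw [h, one_mul] at hgo
      exact L.not_dvd_orderOf hk (hgo ▸ dvd_mul_right p j)
    have hko : orderOf k = j := by
      rw [(L.commute hx hk).orderOf_mul_eq_mul_orderOf_of_coprime (by
        rw [L.orderOf_of_mem hx hx1]
        exact hp.coprime_iff_not_dvd.2 (L.not_dvd_orderOf hk)), L.orderOf_of_mem hx hx1] at hgo
      exact Nat.eq_of_mul_eq_mul_left hp.pos hgo
    have hxw : x = w := by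
      have h1 : x ^ a = x := by
        conv_rhs => rw [← pow_one x]
        rw [pow_eq_pow_iff_modEq, L.orderOf_of_mem hx hx1]
        exact ha1
      rw [← hga, he, (L.commute hx hk).mul_pow, h1,
        orderOf_dvd_iff_pow_eq_one.1 (hko ▸ haj), mul_one]
    refine ⟨⟨⟨k, hk⟩, (Subgroup.orderOf_mk k hk).trans hko⟩, Subtype.ext (Subtype.ext ?_)⟩
    show c⁻¹ * (w * k) * c = g
    rw [← hxw, ← he]
    group

/-- The elements of an order prime to `p` fixed by the Sylow subgroup are those of the complement. -/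
theorem cnt_modEq {j : ℕ} (hj : ¬ p ∣ j) : cnt G j ≡ cnt L.K j [MOD p] := by
  classical
  letI : MulAction (L.P : Subgroup G) {g : G // orderOf g = j} :=
    { smul := fun u g => ⟨(u : G) * g.1 * (u : G)⁻¹, (orderOf_conj_eq _ _).trans g.2⟩
      one_smul := fun g => Subtype.ext (by show (1 : G) * g.1 * (1 : G)⁻¹ = g.1; simp)
      mul_smul := fun u v g => Subtype.ext (by
        show ((u : G) * v) * g.1 * ((u : G) * v)⁻¹ = u * (v * g.1 * (v : G)⁻¹) * (u : G)⁻¹
        group) }
  refine (L.P.2.card_modEq_card_fixedPoints (α := {g : G // orderOf g = j})).trans ?_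
  refine (fun {a b : ℕ} (e : a = b) => (e ▸ Nat.ModEq.refl a : a ≡ b [MOD p])) ?_
  refine (Nat.card_eq_of_bijective (fun k : {k : L.K // orderOf k = j} =>
    (⟨⟨(k.1 : G), (Subgroup.orderOf_coe k.1).trans k.2⟩, fun u => Subtype.ext ?_⟩ :
      MulAction.fixedPoints (L.P : Subgroup G) {g : G // orderOf g = j})) ⟨?_, ?_⟩).symm
  · show (u : G) * k.1 * (u : G)⁻¹ = k.1
    rw [(L.commute u.2 k.1.2).eq, mul_inv_cancel_right]
  · intro k k' h
    exact Subtype.ext (Subtype.ext (congrArg
      (fun z : MulAction.fixedPoints (L.P : Subgroup G) {g : G // orderOf g = j} => z.1.1) h))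
  · rintro ⟨⟨g, hg⟩, hfix⟩
    have hgc : g ∈ Subgroup.centralizer ((L.P : Subgroup G) : Set G) :=
      Subgroup.mem_centralizer_iff.2 fun u hu =>
        mul_inv_eq_iff_eq_mul.1 (congrArg Subtype.val (hfix ⟨u, hu⟩))
    have hgK : g ∈ L.K := L.mem_K g hgc (hg ▸ hj)
    exact ⟨⟨⟨g, hgK⟩, (Subgroup.orderOf_mk g hgK).trans hg⟩, rfl⟩

/-- The number of elements of order `p`. -/
theorem cnt_prime_mul :
    cnt G p * (p * (e L * Nat.card L.K)) = (p - 1) * Nat.card G := by
  have hall : ∀ Q : Sylow p G, Nat.card (Q : Subgroup G) = p := fun Q => by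
    rw [Q.card_eq_multiplicity, ← L.P.card_eq_multiplicity, L.card_P]
  have h := Subgroup.index_mul_card L.N
  rw [← card_N L] at h
  rw [show cnt G p = _ from Small.card_orderOf_eq_prime hall, L.P.card_eq_index_normalizer, ← h]
  simp only [Local.N]
  ac_rfl

/-- A common divisor of the class lengths divides the number of elements. -/
theorem dvd_cnt_of_dvd_class {d n : ℕ}
    (h : ∀ a : G, orderOf a = n → d ∣ Nat.card {g : G // IsConj a g}) : d ∣ cnt G n := by
  classical
  rw [cnt, Nat.card_eq_fintype_card, Fintype.card_subtype,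
    Finset.card_eq_sum_card_image (fun a => ConjClasses.mk a)]
  refine Finset.dvd_sum fun c hc => ?_
  obtain ⟨a, ha, rfl⟩ := Finset.mem_image.1 hc
  have ha' : orderOf a = n := (Finset.mem_filter.1 ha).2
  refine (h a ha').trans (dvd_of_eq ?_)
  rw [Nat.card_eq_fintype_card, Fintype.card_subtype]
  congr 1
  ext b
  simp only [Finset.mem_filter, Finset.mem_univ, true_and, ConjClasses.mk_eq_mk_iff_isConj]
  refine ⟨fun h => ⟨?_, h.symm⟩, fun h => h.2.symm⟩
  obtain ⟨c, rfl⟩ := isConj_iff.1 h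
  rw [← ha', orderOf_conj_eq]

end General

/-- The order and the values of the numbers of elements of given orders are those of M24. -/
structure SameCounts (G : Type u) [Group G] : Prop where
  card : Nat.card G = 244823040
  mem : ∀ n, cnt G n ≠ 0 → cnt G n ∈ orderCounts
  attained : ∀ v ∈ orderCounts, ∃ n, cnt G n = v

variable {G : Type u} [Group G] [Fintype G]

theorem sum_orderCounts : ∑ v ∈ orderCounts.toFinset, v = 244823040 := by decide +kernel

theorem zero_not_mem_orderCounts : 0 ∉ orderCounts := by decide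

namespace SameCounts

variable (h : SameCounts G)
include h

/-- Different orders have different numbers of elements. -/
theorem inj {n m : ℕ} (hn : cnt G n ≠ 0) (he : cnt G n = cnt G m) : n = m := by
  classical
  by_contra hnm
  set S : Finset ℕ := Finset.univ.image fun g : G => orderOf g with hS
  have hsupp : ∀ k, cnt G k ≠ 0 → k ∈ S := fun k hk => by
    obtain ⟨⟨g, hg⟩, -⟩ := Nat.card_ne_zero.1 hk
    exact Finset.mem_image.2 ⟨g, Finset.mem_univ _, hg⟩
  have hsum : ∑ k ∈ S, cnt G k = 244823040 := by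
    rw [← h.card, Nat.card_eq_fintype_card, ← Finset.card_univ,
      Finset.card_eq_sum_card_image (fun g : G => orderOf g)]
    refine Finset.sum_congr rfl fun k _ => ?_
    rw [cnt, Nat.card_eq_fintype_card, Fintype.card_subtype]
  have hsub : orderCounts.toFinset ⊆ (S.erase n).image (cnt G) := fun v hv => by
    obtain ⟨k, rfl⟩ := h.attained v (List.mem_toFinset.1 hv)
    have hk : cnt G k ≠ 0 := fun e => zero_not_mem_orderCounts (e ▸ List.mem_toFinset.1 hv)
    refine Finset.mem_image.2 ?_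
    by_cases hkn : k = n
    · subst hkn
      exact ⟨m, Finset.mem_erase.2 ⟨Ne.symm hnm, hsupp m (he ▸ hk)⟩, he.symm⟩
    · exact ⟨k, Finset.mem_erase.2 ⟨hkn, hsupp k hk⟩, rfl⟩
  have h1 := (Finset.sum_le_sum_of_subset (f := fun v => v) hsub).trans
    (Finset.sum_image_le_of_nonneg (g := cnt G) (f := fun v => v) (fun _ _ => Nat.zero_le _))
  rw [sum_orderCounts] at h1
  have h2 := Finset.add_sum_erase S (cnt G) (hsupp n hn)
  rw [hsum] at h2
  omega

theorem prime_count {p v : ℕ} (hp : p.Prime) (hpd : p ∣ 244823040)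
    (key : ∀ x ∈ orderCounts, (1 + x) % p = 0 → x = v) : cnt G p = v :=
  key _ (h.mem p (cnt_prime_pos hp (h.card.symm ▸ hpd)).ne')
    (Nat.mod_eq_zero_of_dvd (prime_dvd_succ hp (h.card.symm ▸ hpd)))

theorem cnt23 : cnt G 23 = 21288960 := h.prime_count (by norm_num) (by norm_num) (by decide +kernel)

theorem cnt11 : cnt G 11 = 22256640 := h.prime_count (by norm_num) (by norm_num) (by decide +kernel)

theorem cnt7 : cnt G 7 = 11658240 := h.prime_count (by norm_num) (by norm_num) (by decide +kernel)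

theorem cnt5 : cnt G 5 = 4080384 := h.prime_count (by norm_num) (by norm_num) (by decide +kernel)

theorem cnt3 : cnt G 3 = 712448 := h.prime_count (by norm_num) (by norm_num) (by decide +kernel)

theorem cnt2 : cnt G 2 = 43263 := by
  have hd : 2 ∣ Nat.card G := by rw [h.card]; norm_num
  have key : ∀ x ∈ orderCounts, (1 + x) % 2 = 0 → x = 1 ∨ x = 43263 := by decide +kernel
  refine (key _ (h.mem 2 (cnt_prime_pos Nat.prime_two hd).ne')
    (Nat.mod_eq_zero_of_dvd (prime_dvd_succ Nat.prime_two hd))).resolve_left fun e => ?_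
  have := h.inj (m := 1) (by omega) (e.trans cnt_one.symm)
  omega

variable {p : ℕ} [Fact p.Prime] (L : Local p G)

/-- The numbers of elements of each order in the complement. -/
theorem complement_facts {a : ℕ} (ha : cnt G p = a) (hsq : ¬ p ^ 2 ∣ 244823040)
    (A : Finset ℕ) (hA : ∀ v ∈ orderCounts, a ∣ v → v / a ∈ insert 1 A) :
    ∃ T ⊆ A, Nat.card L.K = 1 + ∑ t ∈ T, t ∧
      (∀ j, j ≠ 1 → cnt L.K j ≠ 0 → cnt L.K j ∈ T) ∧
      (∀ t ∈ T, ∃ j, j ≠ 1 ∧ cnt L.K j = t) ∧
      (∀ i j, cnt L.K i ≠ 0 → cnt L.K i = cnt L.K j → i = j) ∧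
      ∀ v ∈ orderCounts, v ≠ a → (∀ s ∈ insert 0 (insert 1 A), v % p ≠ s % p) → v / a ∈ T := by
  classical
  have hp : p.Prime := Fact.out
  have hpd : p ∣ Nat.card G := L.card_P ▸ Subgroup.card_subgroup_dvd_card _
  have ha0 : 0 < a := ha ▸ cnt_prime_pos hp hpd
  have hnd : ∀ j, cnt L.K j ≠ 0 → ¬ p ∣ j := fun j hj hd =>
    L.not_dvd (hd.trans (dvd_card_of_cnt_pos hj))
  have hmul : ∀ j, cnt L.K j ≠ 0 → cnt G (p * j) = a * cnt L.K j := fun j hj => by
    rw [cnt_mul L (hnd j hj), ha]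
  have hinA : ∀ j, cnt L.K j ≠ 0 → cnt L.K j ∈ insert 1 A := fun j hj => by
    have hv := h.mem (p * j) (by rw [hmul j hj]; exact (Nat.mul_pos ha0 (Nat.pos_of_ne_zero hj)).ne')
    rw [hmul j hj] at hv
    have := hA _ hv (dvd_mul_right _ _)
    rwa [Nat.mul_div_cancel_left _ ha0] at this
  have hinj : ∀ i j, cnt L.K i ≠ 0 → cnt L.K i = cnt L.K j → i = j := fun i j hi he =>
    Nat.eq_of_mul_eq_mul_left hp.pos (h.inj
      (by rw [hmul i hi]; exact (Nat.mul_pos ha0 (Nat.pos_of_ne_zero hi)).ne')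
      (by rw [hmul i hi, hmul j (he ▸ hi), he]))
  have hne1 : ∀ j, j ≠ 1 → cnt L.K j ≠ 0 → cnt L.K j ∈ A := fun j hj1 hj => by
    refine (Finset.mem_insert.1 (hinA j hj)).resolve_left fun e => hj1 ?_
    exact hinj j 1 hj (e.trans cnt_one.symm)
  haveI := Fintype.ofFinite L.K
  set S : Finset ℕ := Finset.univ.image fun k : L.K => orderOf k with hS
  have hsupp : ∀ j, cnt L.K j ≠ 0 → j ∈ S := fun j hj => by
    obtain ⟨⟨g, hg⟩, -⟩ := Nat.card_ne_zero.1 hj
    exact Finset.mem_image.2 ⟨g, Finset.mem_univ _, hg⟩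
  have hpos : ∀ j ∈ S, cnt L.K j ≠ 0 := fun j hj => by
    obtain ⟨g, -, hg⟩ := Finset.mem_image.1 hj
    exact (cnt_pos hg).ne'
  refine ⟨(S.erase 1).image (cnt L.K), fun t ht => ?_, ?_, fun j hj1 hj => ?_, fun t ht => ?_,
    hinj, fun v hv hva hres => ?_⟩
  · obtain ⟨j, hj, rfl⟩ := Finset.mem_image.1 ht
    exact hne1 j (Finset.mem_erase.1 hj).1 (hpos j (Finset.mem_erase.1 hj).2)
  · have hsum : Nat.card L.K = ∑ j ∈ S, cnt L.K j := by
      rw [Nat.card_eq_fintype_card, ← Finset.card_univ,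
        Finset.card_eq_sum_card_image (fun g : L.K => orderOf g)]
      refine Finset.sum_congr rfl fun k _ => ?_
      rw [cnt, Nat.card_eq_fintype_card, Fintype.card_subtype]
    have h1 : 1 ∈ S := hsupp 1 (by rw [cnt_one]; exact one_ne_zero)
    rw [hsum, ← Finset.add_sum_erase _ _ h1, cnt_one,
      Finset.sum_image fun i hi j _ e => hinj i j (hpos i (Finset.mem_erase.1 hi).2) e]
  · exact Finset.mem_image.2 ⟨j, Finset.mem_erase.2 ⟨hj1, hsupp j hj⟩, rfl⟩
  · obtain ⟨j, hj, rfl⟩ := Finset.mem_image.1 ht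
    exact ⟨j, (Finset.mem_erase.1 hj).1, rfl⟩
  · obtain ⟨n, rfl⟩ := h.attained v hv
    have hn0 : cnt G n ≠ 0 := fun e => zero_not_mem_orderCounts (e ▸ hv)
    have hpn : p ∣ n := by
      by_contra hpn
      have hm := cnt_modEq L hpn
      by_cases hs : cnt L.K n = 0
      · rw [hs] at hm
        exact hres 0 (Finset.mem_insert_self _ _) hm
      · exact hres _ (Finset.mem_insert_of_mem (hinA n hs)) hm
    obtain ⟨j, rfl⟩ := hpn
    have hj : ¬ p ∣ j := fun hd => hsq (by
      refine (Dvd.dvd.trans ?_ (h.card ▸ dvd_card_of_cnt_pos hn0))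
      rw [pow_two]; exact Nat.mul_dvd_mul_left p hd)
    have hval := cnt_mul L hj
    rw [ha] at hval
    have hs : cnt L.K j ≠ 0 := fun e => hn0 (by rw [hval, e, mul_zero])
    have hj1 : j ≠ 1 := fun e => hva (by rw [e, mul_one, ha])
    rw [hval, Nat.mul_div_cancel_left _ ha0]
    exact Finset.mem_image.2 ⟨j, Finset.mem_erase.2 ⟨hj1, hsupp j hs⟩, rfl⟩

theorem e_mul_eq {a c : ℕ} (ha : cnt G p = a) (hc : a * (p * c) = (p - 1) * 244823040)
    (ha0 : 0 < a) : e L * Nat.card L.K = c := by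
  have h1 := cnt_prime_mul L
  rw [ha, h.card, ← hc] at h1
  exact Nat.eq_of_mul_eq_mul_left (Fact.out : p.Prime).pos (Nat.eq_of_mul_eq_mul_left ha0 h1)

end SameCounts

variable (h : SameCounts G)
include h

theorem twenty_three_of_counts [Fact (Nat.Prime 23)] (L : Local 23 G) : e L = 11 ∧ L.K = ⊥ := by
  obtain ⟨T, hT, hk, -⟩ := h.complement_facts L h.cnt23 (by norm_num) ∅ (by decide +kernel)
  rw [Finset.subset_empty.1 hT, Finset.sum_empty, add_zero] at hk
  have hek := h.e_mul_eq L (c := 11) h.cnt23 (by norm_num) (by norm_num)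
  rw [hk, mul_one] at hek
  exact ⟨hek, Subgroup.card_eq_one.1 hk⟩

theorem eleven_of_counts [Fact (Nat.Prime 11)] (L : Local 11 G) : e L = 10 ∧ L.K = ⊥ := by
  obtain ⟨T, hT, hk, -⟩ := h.complement_facts L h.cnt11 (by norm_num) ∅ (by decide +kernel)
  rw [Finset.subset_empty.1 hT, Finset.sum_empty, add_zero] at hk
  have hek := h.e_mul_eq L (c := 10) h.cnt11 (by norm_num) (by norm_num)
  rw [hk, mul_one] at hek
  exact ⟨hek, Subgroup.card_eq_one.1 hk⟩

theorem seven_of_counts [Fact (Nat.Prime 7)] (L : Local 7 G) :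
    e L = 3 ∧ Nat.card L.K = 6 ∧ ¬ IsMulCommutative L.K := by
  classical
  obtain ⟨T, hT, hk, hsT, -, hinj, hv⟩ :=
    h.complement_facts L h.cnt7 (by norm_num) {2, 3} (by decide +kernel)
  have h3 : 34974720 / 11658240 ∈ T := hv _ (by decide) (by norm_num) (by decide +kernel)
  have h2 : 23316480 / 11658240 ∈ T := hv _ (by decide) (by norm_num) (by decide +kernel)
  norm_num at h2 h3
  have hT2 : T = {2, 3} := Finset.Subset.antisymm hT
    (Finset.insert_subset h2 (Finset.singleton_subset_iff.2 h3))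
  have hk6 : Nat.card L.K = 6 := by rw [hk, hT2]; rfl
  have hek := h.e_mul_eq L (c := 18) h.cnt7 (by norm_num) (by norm_num)
  rw [hk6] at hek
  refine ⟨by omega, hk6, fun hc => ?_⟩
  haveI : Fact (Nat.Prime 2) := ⟨Nat.prime_two⟩
  haveI : Fact (Nat.Prime 3) := ⟨Nat.prime_three⟩
  obtain ⟨x, hx⟩ := exists_prime_orderOf_dvd_card' (G := L.K) 2 (by rw [hk6]; norm_num)
  obtain ⟨y, hy⟩ := exists_prime_orderOf_dvd_card' (G := L.K) 3 (by rw [hk6]; norm_num)
  have hxy : orderOf (x * y) = 6 := by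
    rw [Commute.orderOf_mul_eq_mul_orderOf_of_coprime (mul_comm' x y) (by
      rw [hx, hy]; norm_num), hx, hy]
  have m2 := hsT 2 (by norm_num) (cnt_pos hx).ne'
  have m3 := hsT 3 (by norm_num) (cnt_pos hy).ne'
  have m6 := hsT 6 (by norm_num) (cnt_pos hxy).ne'
  rw [hT2] at m2 m3 m6
  simp only [Finset.mem_insert, Finset.mem_singleton] at m2 m3 m6
  have n23 := mt (hinj 2 3 (cnt_pos hx).ne') (by norm_num)
  have n26 := mt (hinj 2 6 (cnt_pos hx).ne') (by norm_num)
  have n36 := mt (hinj 3 6 (cnt_pos hy).ne') (by norm_num)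
  omega

theorem five_of_counts [Fact (Nat.Prime 5)] (L : Local 5 G) : e L = 4 ∧ Nat.card L.K = 12 ∧
    Nat.card {k : L.K // orderOf k = 2} = 3 ∧ Nat.card {k : L.K // orderOf k = 3} = 8 := by
  classical
  obtain ⟨T, hT, hk, hsT, -, hinj, hv⟩ :=
    h.complement_facts L h.cnt5 (by norm_num) {3, 5, 8, 10} (by decide +kernel)
  have h3 : 12241152 / 4080384 ∈ T := hv _ (by decide) (by norm_num) (by decide +kernel)
  have h8 : 32643072 / 4080384 ∈ T := hv _ (by decide) (by norm_num) (by decide +kernel)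
  norm_num at h3 h8
  have hek := h.e_mul_eq L (c := 48) h.cnt5 (by norm_num) (by norm_num)
  have key : ∀ U ∈ ({3, 5, 8, 10} : Finset ℕ).powerset, 3 ∈ U → 8 ∈ U →
      48 % (1 + ∑ t ∈ U, t) = 0 → U = {3, 8} := by decide +kernel
  have hT2 : T = {3, 8} := key T (Finset.mem_powerset.2 hT) h3 h8
    (Nat.mod_eq_zero_of_dvd ⟨e L, by rw [← hk, mul_comm, hek]⟩)
  have hk12 : Nat.card L.K = 12 := by rw [hk, hT2]; rfl
  rw [hk12] at hek
  haveI : Fact (Nat.Prime 2) := ⟨Nat.prime_two⟩
  haveI : Fact (Nat.Prime 3) := ⟨Nat.prime_three⟩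
  obtain ⟨x, hx⟩ := exists_prime_orderOf_dvd_card' (G := L.K) 2 (by rw [hk12]; norm_num)
  obtain ⟨y, hy⟩ := exists_prime_orderOf_dvd_card' (G := L.K) 3 (by rw [hk12]; norm_num)
  have m2 := hsT 2 (by norm_num) (cnt_pos hx).ne'
  have m3 := hsT 3 (by norm_num) (cnt_pos hy).ne'
  rw [hT2] at m2 m3
  simp only [Finset.mem_insert, Finset.mem_singleton] at m2 m3
  have n23 := mt (hinj 2 3 (cnt_pos hx).ne') (by norm_num)
  have e3 := even_cnt (G := L.K) (m := 3) le_rfl
  refine ⟨by omega, hk12, ?_, ?_⟩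
  · show cnt L.K 2 = 3
    omega
  · show cnt L.K 3 = 8
    omega

/-- A centralizer of an element of order nine has order prime to the large primes. -/
theorem cnt_nine_mul {p : ℕ} [Fact p.Prime] (hp9 : ¬ p ∣ 9) (L : Local p G)
    (hK : ¬ 9 ∣ Nat.card L.K) : cnt G (p * 9) = 0 := by
  rw [cnt_mul L hp9, show cnt L.K 9 = 0 from not_not.1 fun e => hK (dvd_card_of_cnt_pos e), mul_zero]

theorem exists_local_counts (p : ℕ) [Fact p.Prime] (hd : p ∣ 244823040)
    (hsq : ¬ p ^ 2 ∣ 244823040) : Nonempty (Local p G) := by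
  obtain ⟨P⟩ : Nonempty (Sylow p G) := inferInstance
  obtain ⟨L, -⟩ := exists_local (G := G) (by rw [h.card]; exact hd) (by rw [h.card]; exact hsq) P
  exact ⟨L⟩

theorem not_dvd_centralizer_nine {g : G} (hg : orderOf g = 9) {p : ℕ}
    (hp : p ∈ [5, 7, 11, 23]) : ¬ p ∣ Nat.card (Subgroup.centralizer ({g} : Set G)) := by
  intro hd
  have hpp : p.Prime := by fin_cases hp <;> norm_num
  haveI := Fact.mk hpp
  obtain ⟨⟨x, hxc⟩, hx⟩ := exists_prime_orderOf_dvd_card'
    (G := Subgroup.centralizer ({g} : Set G)) p hd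
  rw [← Subgroup.orderOf_coe] at hx
  have hco : Commute x g := Subgroup.mem_centralizer_singleton_iff.1 hxc
  have h9 : ¬ p ∣ 9 := by fin_cases hp <;> norm_num
  have ho : orderOf (x * g) = p * 9 := by
    rw [hco.orderOf_mul_eq_mul_orderOf_of_coprime (by
      rw [hx, hg]; exact hpp.coprime_iff_not_dvd.2 h9), hx, hg]
  have hpd : p ∣ 244823040 := h.card ▸ hx ▸ orderOf_dvd_natCard x
  obtain ⟨L⟩ := exists_local_counts h p hpd (by fin_cases hp <;> norm_num)
  refine (cnt_pos ho).ne' (cnt_nine_mul h h9 L ?_)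
  simp only [List.mem_cons, List.not_mem_nil, or_false] at hp
  rcases hp with rfl | rfl | rfl | rfl
  · rw [(five_of_counts h L).2.1]; norm_num
  · rw [(seven_of_counts h L).2.1]; norm_num
  · rw [(eleven_of_counts h L).2, Subgroup.card_bot]; norm_num
  · rw [(twenty_three_of_counts h L).2, Subgroup.card_bot]; norm_num

/-- An element of order nine forces one of order eighteen. -/
theorem exists_orderOf_eighteen {g : G} (hg : orderOf g = 9) : ∃ y : G, orderOf y = 18 := by
  haveI : Fact (Nat.Prime 2) := ⟨Nat.prime_two⟩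
  by_contra hno
  have hodd : ∀ a : G, orderOf a = 9 →
      9067520 ∣ Nat.card {b : G // IsConj a b} := fun a ha => by
    set C := Nat.card (Subgroup.centralizer ({a} : Set G)) with hC
    have hmul := Small.card_conjugates_mul_card_centralizer a
    rw [h.card, ← hC] at hmul
    have h2 : ¬ 2 ∣ C := fun hd => by
      obtain ⟨⟨x, hxc⟩, hx⟩ := exists_prime_orderOf_dvd_card'
        (G := Subgroup.centralizer ({a} : Set G)) 2 hd
      rw [← Subgroup.orderOf_coe] at hx
      have hco : Commute x a := Subgroup.mem_centralizer_singleton_iff.1 hxc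
      exact hno ⟨x * a, by
        rw [hco.orderOf_mul_eq_mul_orderOf_of_coprime (by rw [hx, ha]; norm_num), hx, ha]⟩
    have hcop : Nat.Coprime 9067520 C := by
      have hq : ∀ q, q.Prime → q ∈ [2, 5, 7, 11, 23] → Nat.Coprime q C := fun q hq hm =>
        hq.coprime_iff_not_dvd.2 <| by
          rcases List.mem_cons.1 hm with rfl | hm
          · exact h2
          · exact not_dvd_centralizer_nine h ha hm
      rw [show (9067520 : ℕ) = 2 ^ 10 * (5 * (7 * (11 * 23))) by norm_num]
      exact Nat.Coprime.mul_left ((hq 2 (by norm_num) (by simp)).pow_left _)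
        (Nat.Coprime.mul_left (hq 5 (by norm_num) (by simp))
          (Nat.Coprime.mul_left (hq 7 (by norm_num) (by simp))
            (Nat.Coprime.mul_left (hq 11 (by norm_num) (by simp)) (hq 23 (by norm_num) (by simp)))))
    exact hcop.dvd_of_dvd_mul_right (hmul ▸ by norm_num)
  have key : ∀ v ∈ orderCounts, v % 9067520 ≠ 0 := by decide +kernel
  exact key _ (h.mem 9 (cnt_pos hg).ne') (Nat.mod_eq_zero_of_dvd (dvd_cnt_of_dvd_class hodd))

/-- The values left for the orders involving only two and three. -/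
theorem mem_rest {n : ℕ} (hn : n ≠ 1 ∧ n ≠ 2 ∧ n ≠ 3)
    (hn' : ∀ p ∈ [5, 7, 11, 23], ¬ p ∣ n) (h0 : cnt G n ≠ 0) :
    cnt G n ∈ [5100480, 20401920, 15301440, 40803840] := by
  have key : ∀ v ∈ orderCounts, v ∈ [5100480, 20401920, 15301440, 40803840] ∨
      v ∈ [1, 43263, 712448, 4080384, 11658240, 22256640, 21288960] ∨
      v ∈ [12241152, 32643072] ∨ v ∈ [34974720, 23316480] := by decide +kernel
  rcases key _ (h.mem n h0) with h' | h' | h' | h'
  · exact h'
  · exfalso
    simp only [List.mem_cons, List.not_mem_nil, or_false] at h'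
    rcases h' with e | e | e | e | e | e | e
    · exact hn.1 (h.inj h0 (e.trans cnt_one.symm))
    · exact hn.2.1 (h.inj h0 (e.trans h.cnt2.symm))
    · exact hn.2.2 (h.inj h0 (e.trans h.cnt3.symm))
    · exact hn' 5 (by simp) (h.inj h0 (e.trans h.cnt5.symm) ▸ dvd_rfl)
    · exact hn' 7 (by simp) (h.inj h0 (e.trans h.cnt7.symm) ▸ dvd_rfl)
    · exact hn' 11 (by simp) (h.inj h0 (e.trans h.cnt11.symm) ▸ dvd_rfl)
    · exact hn' 23 (by simp) (h.inj h0 (e.trans h.cnt23.symm) ▸ dvd_rfl)
  · exfalso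
    haveI : Fact (Nat.Prime 5) := ⟨by norm_num⟩
    obtain ⟨L⟩ := exists_local_counts h 5 (by norm_num) (by norm_num)
    have hres : ∀ s, s ≤ 12 → s ∈ [0, 1, 3, 8] → ∀ v ∈ [12241152, 32643072], v % 5 ≠ s % 5 := by
      decide +kernel
    have hm := cnt_modEq L (hn' 5 (by simp))
    obtain ⟨-, hk, h2, h3⟩ := five_of_counts h L
    obtain ⟨T, hT, hk', hsT, -, hinj, hv⟩ :=
      h.complement_facts L h.cnt5 (by norm_num) {3, 5, 8, 10} (by decide +kernel)
    have hmem : cnt L.K n ∈ [0, 1, 3, 5, 8, 10] := by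
      by_cases e : cnt L.K n = 0
      · simp [e]
      by_cases e1 : n = 1
      · exact absurd e1 hn.1
      have := hT (hsT n e1 e)
      simp only [Finset.mem_insert, Finset.mem_singleton] at this
      simp only [List.mem_cons, List.not_mem_nil, or_false]
      omega
    have key5 : ∀ v ∈ [12241152, 32643072], ∀ s ∈ [0, 1, 3, 5, 8, 10], v % 5 ≠ s % 5 := by
      decide +kernel
    exact key5 _ h' _ hmem hm
  · exfalso
    haveI : Fact (Nat.Prime 7) := ⟨by norm_num⟩
    obtain ⟨L⟩ := exists_local_counts h 7 (by norm_num) (by norm_num)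
    have hm := cnt_modEq L (hn' 7 (by simp))
    obtain ⟨T, hT, -, hsT, -, -, -⟩ :=
      h.complement_facts L h.cnt7 (by norm_num) {2, 3} (by decide +kernel)
    have hmem : cnt L.K n ∈ [0, 2, 3] := by
      by_cases e : cnt L.K n = 0
      · simp [e]
      have := hT (hsT n hn.1 e)
      simp only [Finset.mem_insert, Finset.mem_singleton] at this
      simp only [List.mem_cons, List.not_mem_nil, or_false]
      omega
    have key7 : ∀ v ∈ [34974720, 23316480], ∀ s ∈ [0, 2, 3], v % 7 ≠ s % 7 := by decide +kernel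
    exact key7 _ h' _ hmem hm

theorem orderOf_ne_nine_of_counts (g : G) : orderOf g ≠ 9 := by
  intro hg
  classical
  obtain ⟨y, hy⟩ := exists_orderOf_eighteen h hg
  have p9 : cnt G 9 ≠ 0 := (cnt_pos hg).ne'
  have p18 : cnt G 18 ≠ 0 := (cnt_pos hy).ne'
  have p6 : cnt G 6 ≠ 0 := (cnt_pos (g := y ^ 3) (by
    rw [orderOf_pow_of_dvd (by norm_num) (by rw [hy]; norm_num), hy])).ne'
  have hs : ∀ i, 2 ≤ i → (2 ^ i ≠ 1 ∧ 2 ^ i ≠ 2 ∧ 2 ^ i ≠ 3) ∧ ∀ p ∈ [5, 7, 11, 23], ¬ p ∣ 2 ^ i := by
    intro i hi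
    have h4 : 4 ≤ 2 ^ i := (by norm_num : (4 : ℕ) = 2 ^ 2) ▸ Nat.pow_le_pow_right (by norm_num) hi
    refine ⟨⟨by omega, by omega, by omega⟩, fun p hp hd => ?_⟩
    have hpp : p.Prime := by fin_cases hp <;> norm_num
    have := (Nat.prime_dvd_prime_iff_eq hpp Nat.prime_two).1 (hpp.dvd_of_dvd_pow hd)
    subst this
    simp at hp
  obtain ⟨i, hi2, hi10, hti⟩ : ∃ i, 2 ≤ i ∧ i ≤ 10 ∧ cnt G (2 ^ i) ≠ 0 := by
    by_contra hno
    push Not at hno
    have hF := dvd_sum_divisors (G := G) (m := 1024) (by norm_num) (by rw [h.card]; norm_num)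
    rw [show Nat.divisors 1024 = {1, 2, 4, 8, 16, 32, 64, 128, 256, 512, 1024} by decide +kernel] at hF
    simp [cnt_one, h.cnt2, show cnt G 4 = 0 from hno 2 le_rfl (by norm_num),
      show cnt G 8 = 0 from hno 3 (by norm_num) (by norm_num),
      show cnt G 16 = 0 from hno 4 (by norm_num) (by norm_num),
      show cnt G 32 = 0 from hno 5 (by norm_num) (by norm_num),
      show cnt G 64 = 0 from hno 6 (by norm_num) (by norm_num),
      show cnt G 128 = 0 from hno 7 (by norm_num) (by norm_num),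
      show cnt G 256 = 0 from hno 8 (by norm_num) (by norm_num),
      show cnt G 512 = 0 from hno 9 (by norm_num) (by norm_num),
      show cnt G 1024 = 0 from hno 10 (by norm_num) le_rfl] at hF
  have hne : 2 ^ i ≠ 9 ∧ 2 ^ i ≠ 18 ∧ 2 ^ i ≠ 6 ∧ 2 ^ i ≠ 27 ∧ 2 ^ i ≠ 54 := by
    interval_cases i <;> norm_num
  have mi := mem_rest h (hs i hi2).1 (hs i hi2).2 hti
  have m9 := mem_rest h (by norm_num) (by decide) p9
  have m18 := mem_rest h (by norm_num) (by decide) p18
  have m6 := mem_rest h (by norm_num) (by decide) p6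
  -- no further orders of this kind
  have key : ∀ x ∈ [5100480, 20401920, 15301440, 40803840],
      ∀ y ∈ [5100480, 20401920, 15301440, 40803840], ∀ z ∈ [5100480, 20401920, 15301440, 40803840],
      ∀ t ∈ [5100480, 20401920, 15301440, 40803840], x ≠ y → x ≠ z → x ≠ t → y ≠ z → y ≠ t → z ≠ t →
      ∀ v ∈ [5100480, 20401920, 15301440, 40803840], v = x ∨ v = y ∨ v = z ∨ v = t := by
    decide +kernel
  have all4 := key _ m9 _ m18 _ m6 _ mi (fun e => by simpa using h.inj p9 e)
    (fun e => by simpa using h.inj p9 e) (fun e => hne.1 (h.inj p9 e).symm)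
    (fun e => by simpa using h.inj p18 e) (fun e => hne.2.1 (h.inj p18 e).symm)
    (fun e => hne.2.2.1 (h.inj p6 e).symm)
  have hzero : ∀ n, (n ≠ 1 ∧ n ≠ 2 ∧ n ≠ 3) → (∀ p ∈ [5, 7, 11, 23], ¬ p ∣ n) →
      n ≠ 9 → n ≠ 18 → n ≠ 6 → n ≠ 2 ^ i → cnt G n = 0 := fun n hn hn' a b c d => by
    by_contra h0
    rcases all4 _ (mem_rest h hn hn' h0) with e | e | e | e
    exacts [a (h.inj h0 e), b (h.inj h0 e), c (h.inj h0 e), d (h.inj h0 e)]
  have z27 := hzero 27 (by norm_num) (by decide) (by norm_num) (by norm_num) (by norm_num)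
    hne.2.2.2.1.symm
  have z54 := hzero 54 (by norm_num) (by decide) (by norm_num) (by norm_num) (by norm_num)
    hne.2.2.2.2.symm
  have hz2 : ∀ k, 2 ≤ k → k ≤ 10 → k ≠ i → cnt G (2 ^ k) = 0 := fun k hk hk' hki => by
    have h9 : 2 ^ k ≠ 9 ∧ 2 ^ k ≠ 18 ∧ 2 ^ k ≠ 6 := by interval_cases k <;> norm_num
    exact hzero _ (hs k hk).1 (hs k hk).2 h9.1 h9.2.1 h9.2.2
      fun e => hki (Nat.pow_right_injective le_rfl e)
  have hF2 : 1024 ∣ 1 + 43263 + cnt G (2 ^ i) := by
    have hF := dvd_sum_divisors (G := G) (m := 2 ^ 10) (by norm_num) (by rw [h.card]; norm_num)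
    rw [Nat.sum_divisors_prime_pow Nat.prime_two, Finset.sum_range_succ', Finset.sum_range_succ',
      Finset.sum_eq_single (i - 2) (fun b hb hbi => hz2 _ (by omega)
        (by have := Finset.mem_range.1 hb; omega) (by omega))
      (fun hn => absurd (Finset.mem_range.2 (by omega)) hn),
      show i - 2 + 1 + 1 = i by omega, pow_zero, zero_add, pow_one, cnt_one, h.cnt2] at hF
    omega
  have hF27 : 27 ∣ 1 + 712448 + cnt G 9 := by
    have hF := dvd_sum_divisors (G := G) (m := 27) (by norm_num) (by rw [h.card]; norm_num)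
    rw [show Nat.divisors 27 = {1, 3, 9, 27} by decide +kernel] at hF
    simp [cnt_one, h.cnt3, z27] at hF
    omega
  have hF54 : 54 ∣ 1 + 43263 + 712448 + (cnt G 9 + cnt G 18 + cnt G 6) := by
    have hF := dvd_sum_divisors (G := G) (m := 54) (by norm_num) (by rw [h.card]; norm_num)
    rw [show Nat.divisors 54 = {1, 2, 3, 6, 9, 18, 27, 54} by decide +kernel] at hF
    simp [cnt_one, h.cnt2, h.cnt3, z27, z54] at hF
    omega
  have key2 : ∀ x ∈ [5100480, 20401920, 15301440, 40803840],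
      ∀ y ∈ [5100480, 20401920, 15301440, 40803840], ∀ z ∈ [5100480, 20401920, 15301440, 40803840],
      ∀ t ∈ [5100480, 20401920, 15301440, 40803840], x ≠ y → x ≠ z → x ≠ t → y ≠ z → y ≠ t → z ≠ t →
      (1 + 43263 + t) % 1024 = 0 → (1 + 712448 + x) % 27 = 0 →
      (1 + 43263 + 712448 + (x + y + z)) % 54 ≠ 0 := by
    decide +kernel
  exact key2 _ m9 _ m18 _ m6 _ mi (fun e => by simpa using h.inj p9 e)
    (fun e => by simpa using h.inj p9 e) (fun e => hne.1 (h.inj p9 e).symm)
    (fun e => by simpa using h.inj p18 e) (fun e => hne.2.1 (h.inj p18 e).symm)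
    (fun e => hne.2.2.1 (h.inj p6 e).symm)
    (Nat.mod_eq_zero_of_dvd hF2) (Nat.mod_eq_zero_of_dvd hF27) (Nat.mod_eq_zero_of_dvd hF54)

/-- The local data follow from the counts. -/
theorem localData_of_counts : LocalData G where
  twenty_three L := twenty_three_of_counts h L
  eleven L := eleven_of_counts h L
  seven L := seven_of_counts h L
  five L := five_of_counts h L
  count_three := h.cnt3
  orderOf_ne_nine := orderOf_ne_nine_of_counts h

omit h in
/-- Equality of the sets of values gives the hypothesis used here. -/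
theorem sameCounts_of_set_eq (hG : Nat.card G = 244823040)
    (hS : {c : ℕ | 0 < c ∧ ∃ n : ℕ, c = Nat.card {g : G // orderOf g = n}} =
      {c : ℕ | 0 < c ∧ ∃ n : ℕ, c = Nat.card {g : M24 // orderOf g = n}}) : SameCounts G where
  card := hG
  mem n hn := by
    obtain ⟨hc, m, hm⟩ := (Set.ext_iff.1 hS (cnt G n)).1 ⟨Nat.pos_of_ne_zero hn, n, rfl⟩
    exact M24Classes.card_orderOf_mem hc hm
  attained v hv := by
    have key : ∀ v ∈ orderCounts, v = 1 ∨ (List.range 24).any (fun n => n != 1 &&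
        ((M24Classes.profCounts.filter fun kv => kv.1.1 == n).map Prod.snd).sum == v) = true := by
      decide +kernel
    rcases key v hv with rfl | hk
    · exact ⟨1, cnt_one⟩
    · obtain ⟨n, -, hn⟩ := List.any_eq_true.1 hk
      simp only [Bool.and_eq_true, bne_iff_ne, beq_iff_eq] at hn
      have hv0 : 0 < v := Nat.pos_of_ne_zero fun e => zero_not_mem_orderCounts (e ▸ hv)
      have hM : v = Nat.card {g : M24 // orderOf g = n} := by
        rw [M24Classes.card_orderOf hn.1, hn.2]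
      obtain ⟨-, m, hm⟩ := (Set.ext_iff.1 hS v).2 ⟨hv0, n, hM⟩
      exact ⟨m, hm.symm⟩

end CfsgLib.MTwentyFourUnique
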