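import Cfsg.Agent.MTwentyFourUnique.SearchData
import Cfsg.Agent.MTwentyThreeUnique.Search

/-!
The kernel checks of the degree search: the six families are complete, the keys and trees are
correct, and every compatible choice gives the degrees of M24 or fails the integrality test.
-/

set_option autoImplicit false
set_option maxRecDepth 8000

namespace CfsgLib.MTwentyFourUnique

open CfsgLib.MTwentyThreeUnique (Acc search)

/-- All multisets from the candidates with sum of squares `r`. -/
def squareParts : List ℕ → ℕ → List (List ℕ)
  | [], r => if r = 0 then [[]] else []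
  | [d], r => if r % (d * d) = 0 then [List.replicate (r / (d * d)) d] else []
  | d :: ds, r => (List.range (r / (d * d) + 1)).flatMap fun c =>
      (squareParts ds (r - c * (d * d))).map (List.replicate c d ++ ·)

/-- The sign of a degree congruent to plus or minus `φ`. -/
def rsgn (p φ d : ℕ) : ℤ := if d % p == φ % p then 1 else -1

/-- The residue condition. -/
def rres (p φ d : ℕ) : Bool := d % p == φ % p || d % p == (p - φ % p) % p

/-- The weight of a degree in a key. -/
def kw (d : ℕ) : ℕ := 2 ^ (5 * cands.idxOf d)

/-- The key of a list. -/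
def key (f : ℕ → Bool) (l : List ℕ) : ℕ := ((l.filter f).map kw).sum

/-- The filter of the first key. -/
def fOne (d : ℕ) : Bool := d % 35 != 0 && d % 7 != 0 && (d % 5 == 1 || d % 5 == 4)

/-- Prime to five. -/
def fNotFive (d : ℕ) : Bool := d % 5 != 0

/-- Prime to seven. -/
def fNotSeven (d : ℕ) : Bool := d % 7 != 0

/-- The degrees other than one. -/
def cands2 : List ℕ := cands.filter fun d => d != 1

/-- Completeness of a list of families with `k` constant rows congruent to `φ`, and `t` exceptional
rows congruent to `r`; `c` is the contribution of the trivial character. -/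
def complete (p φ k t r : ℕ) (c : ℤ) (L : List Piece) : Bool :=
  search (fun d => rsgn p φ d * d) (fun _ => 0) 244823040
    (fun a => (if t == 0 then [0] else cands2.filter (rres p r)).all fun y =>
      a.s + rsgn p r y * y + c != 0 || decide (244823040 < a.q + t * (y * y)) ||
        L.any fun P => P.m.isPerm a.l && P.y == y)
    (cands2.filter (rres p φ)) k ⟨0, 0, 0, []⟩

/-- The stored fields are as computed. -/
def wellFormed (f : ℕ → Bool) (one : List ℕ) (t : ℕ) (L : List Piece) : Bool :=
  L.all fun P => P.l == one ++ P.m ++ List.replicate t P.y && P.k1 == key fOne P.l &&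
    P.kk == key f P.l

/-- The sums of values on the non-trivial elements of a Sylow 7-subgroup, divided by three. -/
def evals (φ r : ℕ) (one : List ℕ) (P : Piece) : Bool :=
  P.e == (one ++ P.m).map (fun d => (d, 2 * (φ : ℤ) * rsgn 7 φ d)) ++
    List.replicate 2 (P.y, (φ : ℤ) * rsgn 7 r P.y)

theorem wellFormed_all :
    (wellFormed fNotFive [1] 2 pSevenOne && wellFormed fNotFive [] 2 pSevenSign &&
      wellFormed fNotFive [] 2 pSevenTwo && wellFormed fNotSeven [1] 0 pFiveOne &&
      wellFormed fNotSeven [] 0 pFiveThree && wellFormed fNotSeven [] 2 pFivePair) = true := by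
  decide +kernel

theorem evals_all : (pSevenOne.all (evals 1 4 [1]) && pSevenSign.all (evals 1 4 []) &&
    pSevenTwo.all (evals 2 1 [])) = true := by
  decide +kernel

theorem fivePairs_listed : (pFiveOne.all fun P => pFivePair.all fun R =>
    (treeFive.find (P.k1 + R.k1)).contains
      ((P.l ++ R.l).filter (fun d => d % 7 == 0), P.kk + R.kk)) = true := by
  decide +kernel

theorem fiveThree_listed : (pFiveThree.all fun P => P.k1 == 0 &&
    (treeThree.find P.kk).contains (P.l.filter fun d => d % 7 == 0)) = true := by
  decide +kernel

/-- The degrees divisible by 35. -/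
def restCands : List ℕ := [12880, 10395, 8855, 4830, 1540, 770]

theorem restCands_mem : (cands.filter (fun d => d % 35 == 0)).all restCands.contains = true := by
  decide +kernel

/-- The degrees of M24. -/
def trueDegs : List ℕ :=
  [1, 23, 45, 45, 231, 231, 252, 253, 483, 770, 770, 990, 990, 1035, 1035, 1035, 1265, 1771, 2024,
    2277, 3312, 3520, 5313, 5544, 5796, 10395]

/-- The sign of the sum of values at 11. -/
def sgnEleven (d : ℕ) : ℤ := if d % 11 == 1 then 1 else if d % 11 == 10 then -1 else 0

/-- The class constant is an integer. -/
def classTest (e : List (ℕ × ℤ)) : Bool :=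
  (e.map fun x => ((244823040 / x.1 : ℕ) : ℤ) * (x.2 * x.2) * sgnEleven x.1).sum % 1764 == 0

/-- The exceptional degrees at 23 are two equal ones. -/
def excOk : List ℕ → Bool
  | [y, y'] => y == y'
  | _ => false

/-- The tests on a completed list. -/
def leafOk (e : List (ℕ × ℤ)) (l : List ℕ) : Bool :=
  !((l.countP fun d => d % 23 == 1 || d % 23 == 22) == 11 &&
      excOk (l.filter fun d => d % 23 == 11 || d % 23 == 12) && classTest e) ||
    l.isPerm trueDegs

/-- All completions of a choice. -/
def choiceOk (e : List (ℕ × ℤ)) (s : List ℕ) : Bool :=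
  let q := (s.map fun d => d * d).sum
  decide (244823040 < q) ||
    (squareParts restCands (244823040 - q)).all fun z => leafOk e (s ++ z)

/-- The choices at 5 compatible with one at 7. -/
def rowOk (P Q R : Piece) : Bool :=
  (treeFive.find (P.k1 + (Q.k1 + R.k1))).all fun t =>
    Nat.blt (P.kk + (Q.kk + R.kk)) t.2 ||
      (treeThree.find (P.kk + (Q.kk + R.kk) - t.2)).all fun w =>
        choiceOk (P.e ++ Q.e ++ R.e) (P.l ++ Q.l ++ R.l ++ t.1 ++ w)

end CfsgLib.MTwentyFourUnique
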