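import Cfsg.Agent.MTwentyFourUnique.Orbs
import Cfsg.Agent.MTwentyFourUnique.Search
import Cfsg.Agent.BrauerOrderP.Perfect
import Cfsg.Agent.Small.OrderTools

/-!
The residues of the degrees of a simple group with the local data of M24, and the possible degrees.
-/

set_option autoImplicit false
set_option linter.style.haveILetI false
set_option linter.unusedSectionVars false
set_option maxHeartbeats 400000

open scoped commutatorElement
open Cfsg CfsgLib.Characters CfsgLib.DefectOne CfsgLib.BrauerOrderP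

namespace CfsgLib.MTwentyFourUnique

universe u

variable {G : Type u} [Group G] [Fintype G]

/-- The degree of a character. -/
noncomputable abbrev deg (χ : IrrCharacter G) : ℕ := Cfsg.charDegree (χ : G → ℂ)

section Shape

variable {p : ℕ} [Fact p.Prime] {L : Local p G} {O : L.Orb}

theorem rsgn_of_dvd {p φ d : ℕ} [hp' : Fact p.Prime] {a : ℤ} (ha : a = 1 ∨ a = -1)
    (hp : 2 * φ % p ≠ 0) (h : (p : ℤ) ∣ (d : ℤ) - (φ : ℤ) * a) :
    rsgn p φ d = a ∧ rres p φ d = true := by
  have hp0 : 0 < p := hp'.out.pos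
  rcases ha with rfl | rfl
  · have h1 : φ % p = d % p := (Nat.modEq_iff_dvd.2 (by rwa [mul_one] at h) : φ ≡ d [MOD p])
    simp [rsgn, rres, h1]
  · rw [mul_neg_one, sub_neg_eq_add] at h
    have h1 : (d + φ) % p = 0 := Nat.mod_eq_zero_of_dvd (by exact_mod_cast h)
    rw [Nat.add_mod] at h1
    have hd := Nat.mod_lt d hp0
    have hφ := Nat.mod_lt φ hp0
    have hne : ¬ d % p = φ % p := fun e => by
      rw [e, ← Nat.add_mod] at h1
      exact hp (by rwa [two_mul])
    have hsum : d % p + φ % p = p ∨ d % p + φ % p = 0 := by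
      rcases Nat.lt_or_ge (d % p + φ % p) p with h2 | h2
      · right; rwa [Nat.mod_eq_of_lt h2] at h1
      · left; rw [Nat.mod_eq_sub_mod h2, Nat.mod_eq_of_lt (by omega)] at h1; omega
    refine ⟨by simp [rsgn, hne], ?_⟩
    simp only [rres, Bool.or_eq_true, beq_iff_eq]
    right
    rcases hsum with h2 | h2
    · rw [show p - φ % p = d % p by omega, Nat.mod_mod]
    · omega

variable (S : OShape L O)

theorem OShape.mem_C {χ : IrrCharacter G} (h : χ ∈ S.C) : χ ∈ ob L O := by
  rw [S.ob_eq]; exact Finset.mem_disjUnion.2 (Or.inl h)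

theorem OShape.mem_E {χ : IrrCharacter G} (h : χ ∈ S.E) : χ ∈ ob L O := by
  rw [S.ob_eq]; exact Finset.mem_disjUnion.2 (Or.inr h)

theorem OShape.mem_cases {χ : IrrCharacter G} (h : χ ∈ ob L O) : χ ∈ S.C ∨ χ ∈ S.E := by
  rw [S.ob_eq] at h; exact Finset.mem_disjUnion.1 h

/-- A constant row. -/
theorem OShape.res_C {φ : ℕ} (hφ : ophi L O = φ) (hp : 2 * φ % p ≠ 0) {χ : IrrCharacter G}
    (h : χ ∈ S.C) :
    osv L O χ = ((p : ℤ) - 1) * rsgn p φ (deg χ) ∧ rres p φ (deg χ) = true := by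
  have h1 := dvd_deg_add L O (S.mem_C h)
  rw [hφ] at h1
  obtain ⟨a, ha, hv⟩ : ∃ a : ℤ, (a = 1 ∨ a = -1) ∧ osv L O χ = ((p : ℤ) - 1) * a := by
    rcases S.sv_C χ h with r | r
    · exact ⟨1, Or.inl rfl, by rw [r, mul_one]⟩
    · exact ⟨-1, Or.inr rfl, by rw [r]; ring⟩
  rw [hv] at h1
  have h2 : (p : ℤ) ∣ (deg χ : ℤ) - (φ : ℤ) * a := by
    have h3 := Int.dvd_sub h1 (dvd_mul_right (p : ℤ) ((φ : ℤ) * a))
    rwa [show (deg χ : ℤ) + (φ : ℤ) * (((p : ℤ) - 1) * a) - (p : ℤ) * ((φ : ℤ) * a) =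
      (deg χ : ℤ) - (φ : ℤ) * a by ring] at h3
  obtain ⟨r1, r2⟩ := rsgn_of_dvd ha hp h2
  exact ⟨by rw [hv, r1], r2⟩

/-- The exceptional degree. -/
theorem OShape.res_E {φ r : ℕ} (hφ : ophi L O = φ) (hp : 2 * r % p ≠ 0)
    (hr : p ∣ r + φ * L.eO O) {χ : IrrCharacter G} (h : χ ∈ S.E) :
    rsgn p r S.y = S.a ∧ rres p r S.y = true := by
  have h1 := dvd_deg_add L O (S.mem_E h)
  rw [hφ, S.sv_E χ h, S.deg_E χ h] at h1
  refine rsgn_of_dvd S.a_unit hp ?_
  have h2 : (p : ℤ) ∣ ((r : ℤ) + (φ : ℤ) * (L.eO O : ℤ)) * S.a := by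
    refine dvd_mul_of_dvd_left ?_ _
    exact_mod_cast hr
  have h3 := Int.dvd_sub h1 h2
  rwa [show (S.y : ℤ) + (φ : ℤ) * ((L.eO O : ℤ) * S.a) -
    ((r : ℤ) + (φ : ℤ) * (L.eO O : ℤ)) * S.a = (S.y : ℤ) - (r : ℤ) * S.a by ring] at h3

end Shape

section Trivial

variable {p : ℕ} [Fact p.Prime] (L : Local p G)

theorem orb_eq_O0 (hK : L.K = ⊥) (O : L.Orb) : O = O0 L := by
  haveI := Fintype.ofFinite L.K
  haveI : Subsingleton L.K := by rw [hK]; infer_instance
  obtain ⟨φ, rfl⟩ : ∃ φ, L.orb φ = O := ⟨_, Quotient.out_eq O⟩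
  have hd : Cfsg.charDegree (φ : L.K → ℂ) = 1 := by
    obtain ⟨h1, h2, -⟩ := degree_facts φ
    rw [Nat.card_eq_one_iff_unique.2 ⟨inferInstance, ⟨1⟩⟩] at h2
    exact Nat.dvd_one.1 h2
  have : φ = oneK L := Subtype.ext (funext fun k => by
    rw [Subsingleton.elim k 1, ← Blocks.charDegree_cast, hd, Nat.cast_one, oneK_apply])
  rw [this]; rfl

/-- The residues when `K` is trivial. -/
theorem res_of_bot (hK : L.K = ⊥) (hp : p ≠ 2) (χ : IrrCharacter G) :
    p ∣ deg χ ∨ rres p 1 (deg χ) = true ∨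
      (1 < Nat.card (L.ColOver (O0 L)) ∧ rres p (p - e L) (deg χ) = true) := by
  by_cases h : p ∣ deg χ
  · exact Or.inl h
  obtain ⟨O, hO⟩ := exists_mem_ob L h
  rw [orb_eq_O0 L hK O] at hO
  obtain ⟨S⟩ := exists_oshape L (O0 L)
  have hp3 : 2 < p := by have := (Fact.out : p.Prime).two_le; omega
  rcases S.mem_cases hO with h' | h'
  · exact Or.inr (Or.inl (S.res_C (ophi_one L) (by rw [mul_one, Nat.mod_eq_of_lt hp3]; norm_num) h').2)
  · right; right
    have ht : Nat.card (L.ColOver (O0 L)) ≠ 1 := fun ht => by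
      have := S.card_E
      rw [if_pos ht, Finset.card_eq_zero] at this
      rw [this] at h'; simp at h'
    have hmul := card_cols_mul L
    have he := e_pos L
    have ht1 : 1 < Nat.card (L.ColOver (O0 L)) := by
      rcases Nat.eq_zero_or_pos (Nat.card (L.ColOver (O0 L))) with h0 | h0
      · rw [h0, zero_mul] at hmul; omega
      · omega
    have h2 : 2 * e L < p := by
      have := Nat.mul_le_mul_right (e L) ht1
      omega
    refine ⟨ht1, ?_⟩
    have := (S.res_E (r := p - e L) (ophi_one L) (fun hz => ?_) ⟨1, ?_⟩ h').2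
    · rwa [show deg χ = S.y from S.deg_E χ h']
    · have hd := Nat.dvd_of_mod_eq_zero hz
      rw [(Fact.out : p.Prime).dvd_mul] at hd
      rcases hd with hd | hd
      · exact absurd (Nat.le_of_dvd (by norm_num) hd) (by omega)
      · exact absurd (Nat.le_of_dvd (by omega) hd) (by omega)
    · show p - e L + 1 * L.eO (O0 L) = p * 1
      show p - e L + 1 * e L = p * 1
      omega

end Trivial

theorem divisor_lists :
    (List.range 11).all (fun i => (List.range 4).all fun j =>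
      [1, 5, 7, 11, 23, 35, 55, 77, 115, 161, 253, 385, 805, 1265, 1771, 8855].all fun y =>
        let d := 2 ^ i * 3 ^ j * y
        decide (244823040 < d * d) ||
          !(d % 23 == 0 || rres 23 1 d || rres 23 12 d) || !(d % 11 == 0 || rres 11 1 d) ||
          cands.contains d) = true := by
  decide +kernel

theorem divisors_8855 : ∀ y, y ∣ 8855 →
    y ∈ [1, 5, 7, 11, 23, 35, 55, 77, 115, 161, 253, 385, 805, 1265, 1771, 8855] := by
  intro y hy
  have h : ∀ z ∈ Nat.divisors 8855,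
      z ∈ [1, 5, 7, 11, 23, 35, 55, 77, 115, 161, 253, 385, 805, 1265, 1771, 8855] := by
    decide +kernel
  exact h y (Nat.mem_divisors.2 ⟨hy, by norm_num⟩)

variable [IsSimpleGroup G] (hG : Nat.card G = 244823040) (hD : LocalData G)
include hG

theorem not_comm24 : ¬ IsMulCommutative G :=
  Small.not_comm_of_card hG (by
    intro h
    exact absurd (h.eq_one_or_self_of_dvd 2 (by norm_num)) (by norm_num))

theorem perfect24 : commutator G = ⊤ := by
  rcases (inferInstance : (commutator G).Normal).eq_bot_or_eq_top with h | h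
  · refine absurd (⟨⟨fun a b => ?_⟩⟩ : IsMulCommutative G) (not_comm24 hG)
    have hab : ⁅a, b⁆ ∈ commutator G :=
      Subgroup.commutator_mem_commutator (Subgroup.mem_top a) (Subgroup.mem_top b)
    rw [h, Subgroup.mem_bot] at hab
    exact commutatorElement_eq_one_iff_mul_comm.1 hab
  · exact h

theorem exists_local24 (p : ℕ) [Fact p.Prime] (hd : p ∣ 244823040) (hsq : ¬ p ^ 2 ∣ 244823040) :
    Nonempty (Local p G) := by
  obtain ⟨P⟩ : Nonempty (Sylow p G) := inferInstance
  obtain ⟨L, -⟩ := exists_local (G := G) (by rwa [hG]) (by rwa [hG]) P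
  exact ⟨L⟩

theorem eq_one_of_deg {χ : IrrCharacter G} (h : deg χ = 1) : (χ : G → ℂ) = fun _ => 1 :=
  BrauerOrderP.eq_one_of_degree_one (perfect24 hG) h

include hD

/-- Every degree is a candidate. -/
theorem deg_mem_cands (χ : IrrCharacter G) : deg χ ∈ cands := by
  haveI : Fact (Nat.Prime 23) := ⟨by norm_num⟩
  haveI : Fact (Nat.Prime 11) := ⟨by norm_num⟩
  obtain ⟨L23⟩ := exists_local24 hG 23 (by norm_num) (by norm_num)
  obtain ⟨L11⟩ := exists_local24 hG 11 (by norm_num) (by norm_num)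
  obtain ⟨he23, hK23⟩ := hD.twenty_three L23
  obtain ⟨he11, hK11⟩ := hD.eleven L11
  have h23 : deg χ % 23 = 0 ∨ rres 23 1 (deg χ) = true ∨ rres 23 12 (deg χ) = true := by
    rcases res_of_bot L23 hK23 (by norm_num) χ with h | h | ⟨-, h⟩
    · exact Or.inl (Nat.mod_eq_zero_of_dvd h)
    · exact Or.inr (Or.inl h)
    · rw [he23] at h; exact Or.inr (Or.inr h)
  have h11 : deg χ % 11 = 0 ∨ rres 11 1 (deg χ) = true := by
    rcases res_of_bot L11 hK11 (by norm_num) χ with h | h | ⟨ht, -⟩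
    · exact Or.inl (Nat.mod_eq_zero_of_dvd h)
    · exact Or.inr h
    · have := card_cols_mul L11
      rw [he11] at this
      omega
  have hdvd : deg χ ∣ 1024 * (27 * 8855) := by
    have := Blocks.charDegree_dvd_card χ
    rwa [hG] at this
  obtain ⟨a, r, ha, hr, har⟩ := Nat.dvd_mul.1 hdvd
  obtain ⟨b, y, hb, hy, hby⟩ := Nat.dvd_mul.1 hr
  obtain ⟨i, hi, rfl⟩ := (Nat.dvd_prime_pow Nat.prime_two).1 (show a ∣ 2 ^ 10 from ha)
  obtain ⟨j, hj, rfl⟩ := (Nat.dvd_prime_pow (by norm_num : Nat.Prime 3)).1 (show b ∣ 3 ^ 3 from hb)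
  have hsq : deg χ * deg χ ≤ 244823040 := by
    rw [← hG, ← LargePrime.sum_charDegree_sq, ← sq]
    exact Finset.single_le_sum (f := fun ψ : IrrCharacter G => deg ψ ^ 2)
      (fun _ _ => Nat.zero_le _) (Finset.mem_univ χ)
  have h := List.all_eq_true.1 (List.all_eq_true.1 (List.all_eq_true.1 divisor_lists i
    (List.mem_range.2 (by omega))) j (List.mem_range.2 (by omega))) y (divisors_8855 y hy)
  simp only [Bool.or_eq_true, Bool.not_eq_true', decide_eq_true_eq, List.contains_iff_mem,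
    Bool.or_eq_false_iff, beq_eq_false_iff_ne] at h
  have hd : 2 ^ i * 3 ^ j * y = deg χ := by rw [← har, ← hby]; ring
  rw [hd] at h
  rcases h with ((h | h) | h) | h
  · omega
  · rcases h23 with r | r | r
    · exact absurd r h.1.1
    · rw [h.1.2] at r; simp at r
    · rw [h.2] at r; simp at r
  · rcases h11 with r | r
    · exact absurd r h.1
    · rw [h.2] at r; simp at r
  · exact h

end CfsgLib.MTwentyFourUnique
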