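import Cfsg.Agent.MTwentyFourUnique.ThreeBlocks
import Cfsg.Agent.MTwentyFourUnique.Residues
import Cfsg.Agent.MTwentyThreeUnique.Reduction

/-!
A rational character of degree 23 with odd values at the real elements of odd order gives a
representation of degree eleven over the field with two elements.
-/

set_option autoImplicit false
set_option linter.style.haveILetI false
set_option linter.unusedSectionVars false

open Cfsg CfsgLib.Characters CfsgLib.DefectOne CfsgLib.BrauerOrderP
open CfsgLib.MTwentyThreeUnique (charP_residue exists_zeta exists_matrix_rep exists_lift trace_sq)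

namespace CfsgLib.MTwentyFourUnique

universe u

theorem two_power_card24 :
    244823040 ∣ 2 ^ 1980 * (2 ^ 1980 - 1) := by decide +kernel

variable {G : Type u} [Group G] [Fintype G] [IsSimpleGroup G] (hG : Nat.card G = 244823040)
include hG

theorem hom_eq_one {k : Type*} [Field k] (φ : G →* k) : φ = 1 := by
  let ψ : G →* kˣ := φ.toHomUnits
  have hker : ψ.ker = ⊤ := by
    refine (MonoidHom.normal_ker ψ).eq_bot_or_eq_top.resolve_left fun h => ?_
    refine not_comm24 hG ⟨⟨fun x y => ?_⟩⟩
    apply (MonoidHom.ker_eq_bot_iff ψ).1 h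
    rw [map_mul, map_mul, mul_comm]
  refine MonoidHom.ext fun g => ?_
  exact congrArg Units.val (MonoidHom.mem_ker.1 (hker ▸ Subgroup.mem_top g : g ∈ ψ.ker))

/-- The representation of degree eleven. -/
theorem exists_rho_of_odd {χ : IrrCharacter G} (hχ : deg χ = 23)
    (hint : ∀ g, ∃ z : ℤ, (χ : G → ℂ) g = z)
    (hodd : ∀ g : G, Odd (orderOf g) → IsConj g g⁻¹ → ∃ z : ℤ, (χ : G → ℂ) g = 2 * (z : ℂ) + 1)
    {a b : G} (ha : orderOf a = 23) (hb : orderOf b = 11) (hab : b * a * b⁻¹ = a ^ 2) :
    ∃ rho : G →* GL (Fin 11) (ZMod 2), Function.Injective rho := by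
  classical
  obtain ⟨B, h2⟩ := TILattice.exists_valuationSubring_p 2
  haveI := charP_residue B h2
  obtain ⟨R, hR⟩ := exists_matrix_rep (m := I23) (χ := χ) (by simpa [I23] using hχ)
  obtain ⟨σ0, hσ0⟩ := exists_lift B R
  set σ := (IsLocalRing.residue B).mapMatrix.toMonoidHom.comp σ0 with hσ
  have htr : ∀ g, ∀ z : ℤ, (χ : G → ℂ) g = z → (σ g).trace = z := by
    intro g z hz
    have h : (σ0 g).trace = (z : B) := Subtype.ext (by rw [hσ0, hR, hz]; simp)
    rw [show (σ g).trace = IsLocalRing.residue B (σ0 g).trace from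
      (AddMonoidHom.map_trace (IsLocalRing.residue B).toAddMonoidHom (σ0 g)).symm, h, map_intCast]
  have hha : a ^ 23 = 1 := by rw [← ha, pow_orderOf_eq_one]
  have hsing : ∀ j, 0 < j → j < 23 → (σ (a ^ j)).trace = 0 := by
    intro j hj0 hj
    haveI : Fact (Nat.Prime 23) := ⟨by norm_num⟩
    have hd : 23 ∣ orderOf (a ^ j) := by
      rcases (Nat.dvd_prime (Fact.out : Nat.Prime 23)).1
        (orderOf_dvd_of_pow_eq_one (x := a ^ j) (n := 23) (by rw [← pow_mul, mul_comm, pow_mul, hha, one_pow])) with h | h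
      · have := orderOf_dvd_of_pow_eq_one (orderOf_eq_one_iff.1 h)
        rw [ha] at this
        exact absurd (Nat.le_of_dvd hj0 this) (by omega)
      · rw [h]
    have h0 : (χ : G → ℂ) (a ^ j) = 0 := InvolutionCount.char_eq_zero_of_dvd_orderOf χ (p := 23) (by
      rw [hG, show (244823040 : ℕ).factorization 23 = 1 by
        rw [show (244823040 : ℕ) = 23 ^ 1 * 10644480 by norm_num,
          Nat.factorization_mul (by norm_num) (by norm_num), Finsupp.add_apply,
          Nat.Prime.factorization_pow (by norm_num), Finsupp.single_eq_same,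
          Nat.factorization_eq_zero_of_not_dvd (show ¬ 23 ∣ 10644480 by norm_num)],
        show Cfsg.charDegree (χ : G → ℂ) = 23 from hχ, pow_one]) hd
    rw [htr _ 0 (by rw [h0, Int.cast_zero]), Int.cast_zero]
  obtain ⟨ζ, hζ⟩ := exists_zeta B h2
  have hab' : (b⁻¹)⁻¹ * a * b⁻¹ = a ^ 2 := by rw [inv_inv]; exact hab
  obtain ⟨P, hP, hPa, hPs, hPn⟩ := exists_normal_form23 σ hζ hha
    (by rw [inv_pow, ← hb, pow_orderOf_eq_one, inv_one] : b⁻¹ ^ 11 = 1) hab' hsing
  let σ' : G →* Matrix I23 I23 (IsLocalRing.ResidueField B) :=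
    { toFun := fun g => P⁻¹ * σ g * P
      map_one' := by rw [map_one, Matrix.mul_one, Matrix.nonsing_inv_mul _ hP]
      map_mul' := fun g h => by
        rw [map_mul, show P⁻¹ * σ g * P * (P⁻¹ * σ h * P) = P⁻¹ * σ g * (P * P⁻¹) * (σ h * P) by
          simp only [Matrix.mul_assoc], Matrix.mul_nonsing_inv _ hP, Matrix.mul_one]
        simp only [Matrix.mul_assoc] }
  have htr' : ∀ g, (σ' g).trace = (σ g).trace := fun g => by
    show (P⁻¹ * σ g * P).trace = _
    rw [Matrix.trace_mul_cycle, Matrix.mul_nonsing_inv _ hP, Matrix.one_mul]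
  set t : G → IsLocalRing.ResidueField B := fun g => (σ g).trace with ht
  have ht01 : ∀ g, t g = 0 ∨ t g = 1 := by
    intro g
    obtain ⟨z, hz⟩ := hint g
    simp only [ht, htr g z hz]
    rcases Int.even_or_odd' z with ⟨w, rfl | rfl⟩ <;> simp [CharTwo.two_eq_zero]
  have htpow : ∀ (n : ℕ) g, t (g ^ 2 ^ n) = t g := by
    intro n
    induction n with
    | zero => simp
    | succ n ih =>
      intro g
      rw [pow_succ, pow_mul]
      simp only [ht, map_pow]
      rw [trace_sq]
      have h := ih g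
      simp only [ht, map_pow] at h
      rw [h]
      rcases ht01 g with h' | h' <;> simp only [ht] at h' <;> rw [h'] <;> norm_num
  have htconj : ∀ g h, t (h * g * h⁻¹) = t g := fun g h => by
    simp only [ht, map_mul]
    rw [Matrix.trace_mul_cycle, ← map_mul, inv_mul_cancel, map_one, Matrix.one_mul]
  have htinv : ∀ g, t g⁻¹ = t g := fun g => by
    obtain ⟨z, hz⟩ := hint g
    simp only [ht]
    rw [htr g z hz, htr g⁻¹ z (by rw [character_inv (isCharacter_of_isIrr χ.2), hz, map_intCast])]
  set π : G → G := fun g => g ^ 2 ^ 1980 with hπ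
  obtain ⟨idx, hidx⟩ : ∃ idx : ConjClasses G → ℕ, Function.Injective idx := by
    haveI := Fintype.ofFinite (ConjClasses G)
    exact ⟨fun c => (Fintype.equivFin _ c).val,
      Fin.val_injective.comp (Fintype.equivFin _).injective⟩
  have hππ : ∀ g, π (π g) = π g := fun g => by
    simp only [hπ]
    rw [← pow_mul, pow_eq_pow_iff_modEq]
    refine Nat.ModEq.of_dvd (orderOf_dvd_natCard g) ?_
    rw [hG]
    decide +kernel
  have hoddπ : ∀ g, Odd (orderOf (π g)) := fun g => by
    have hd : orderOf (π g) ∣ 2 ^ 1980 - 1 := by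
      refine orderOf_dvd_of_pow_eq_one ?_
      simp only [hπ]
      rw [← pow_mul, ← orderOf_dvd_iff_pow_eq_one]
      exact (orderOf_dvd_natCard g).trans (hG ▸ two_power_card24)
    exact (show Odd (2 ^ 1980 - 1) by decide +kernel).of_dvd_nat hd
  set f : G → IsLocalRing.ResidueField B := fun g =>
    if idx (ConjClasses.mk (π g)) < idx (ConjClasses.mk (π g)⁻¹) then t g + 1 else 0 with hf
  obtain ⟨rho, hrho⟩ : ∃ rho : G →* GL (Fin 11) (ZMod 2), rho a ≠ 1 := by
    refine exists_rho_of_three (fun φ => hom_eq_one hG φ) σ' hζ (a := a) (β := b⁻¹) hPa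
      (fun x q => hPs x q) (fun x hx => hPn x hx) (fun g => ?_) f (fun g h => ?_) (fun g => ?_)
      (N := 1980) (by norm_num) (fun g => ?_) (fun g => ?_) fun g => ?_
    · rw [htr', htr']; exact htinv g
    · simp only [hf]
      rw [show π (h * g * h⁻¹) = h * π g * h⁻¹ from conj_pow, htconj,
        show ConjClasses.mk (h * π g * h⁻¹) = ConjClasses.mk (π g) from
          ConjClasses.mk_eq_mk_iff_isConj.2 (isConj_iff.2 ⟨h, rfl⟩).symm,
        show ConjClasses.mk (h * π g * h⁻¹)⁻¹ = ConjClasses.mk (π g)⁻¹ from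
          ConjClasses.mk_eq_mk_iff_isConj.2 (isConj_iff.2 ⟨h, by group⟩).symm]
    · simp only [hf]
      split_ifs
      · rcases ht01 g with h | h <;> rw [h] <;> simp [CharTwo.add_self_eq_zero]
      · exact Or.inl rfl
    · simp only [hf]
      rw [show g ^ 2 ^ 1980 = π g from rfl, hππ, show t (π g) = t g from htpow 1980 g]
    · rw [htr']
      show t g = f g + f g⁻¹ + 1
      simp only [hf]
      rw [show π g⁻¹ = (π g)⁻¹ from inv_pow g _, inv_inv, htinv]
      by_cases he : idx (ConjClasses.mk (π g)) = idx (ConjClasses.mk (π g)⁻¹)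
      · rw [if_neg (by omega), if_neg (by omega), zero_add, zero_add]
        obtain ⟨z, hz⟩ := hodd _ (hoddπ g) (ConjClasses.mk_eq_mk_iff_isConj.1 (hidx he))
        rw [← htpow 1980 g]
        show (σ (π g)).trace = 1
        rw [htr (π g) (2 * z + 1) (by rw [hz]; push_cast; ring)]
        simp [CharTwo.two_eq_zero]
      · rcases lt_or_gt_of_ne he with h | h
        · rw [if_pos h, if_neg (by omega), add_zero, add_assoc, CharTwo.add_self_eq_zero, add_zero]
        · rw [if_neg (by omega), if_pos h, zero_add, add_assoc, CharTwo.add_self_eq_zero, add_zero]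
    · rw [htr']
      rcases ht01 g with h | h <;> simp only [ht] at h <;> rw [h] <;> norm_num
  refine ⟨rho, ?_⟩
  rw [← MonoidHom.ker_eq_bot_iff]
  exact (MonoidHom.normal_ker rho).eq_bot_or_eq_top.resolve_right fun h =>
    hrho (MonoidHom.mem_ker.1 (h ▸ Subgroup.mem_top a))

end CfsgLib.MTwentyFourUnique
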