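import Cfsg.Agent.MTwentyFourUnique.Parity
import Cfsg.Agent.MTwentyFourUnique.Reduction
import Cfsg.Agent.MTwentyFourUnique.Endgame
import Cfsg.Agent.MTwentyThreeUnique.Elements

/-!
A simple group with the order and the local data of the Mathieu group of degree 24 is that group.
-/

set_option autoImplicit false
set_option linter.style.haveILetI false
set_option linter.unusedSectionVars false

open Cfsg CfsgLib.Characters CfsgLib.DefectOne CfsgLib.BrauerOrderP
open CfsgLib.MTwentyThreeUnique (pNe mem_pNe card_pNe exponent_two conj_pow_iterate exists_exponent_conj)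

namespace CfsgLib.MTwentyFourUnique

universe u

variable {G : Type u} [Group G] [Fintype G] [IsSimpleGroup G] (hG : Nat.card G = 244823040)
  (hD : LocalData G)
include hG hD

/-- Elements of orders 23 and 11 and an element acting on the second as squaring. -/
theorem exists_elements : ∃ a b d : G, orderOf a = 23 ∧ orderOf b = 11 ∧ d ^ 10 = 1 ∧
    b * a * b⁻¹ = a ^ 2 ∧ d * b * d⁻¹ = b ^ 2 := by
  classical
  haveI : Fact (Nat.Prime 23) := ⟨by norm_num⟩
  haveI : Fact (Nat.Prime 11) := ⟨by norm_num⟩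
  obtain ⟨L⟩ := exists_local24 hG 23 (by norm_num) (by norm_num)
  obtain ⟨he23, hK23⟩ := hD.twenty_three L
  obtain ⟨a', ha'⟩ := exists_mem_ne_one L
  have ha1 : (a' : G) ≠ 1 := fun h => ha' (Subtype.ext h)
  have hao : orderOf (a' : G) = 23 := L.orderOf_of_mem a'.2 ha1
  have hK : Nat.card L.K = 1 := by rw [hK23, Subgroup.card_bot]
  obtain ⟨⟨b0, hb0⟩, hb0o⟩ := exists_prime_orderOf_dvd_card' (G := L.N) 11 (by
    rw [← card_N L, he23, hK]; norm_num)
  have hb0o' : orderOf b0 = 11 := by rw [← hb0o, ← Subgroup.orderOf_coe]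
  obtain ⟨r, hr⟩ := exists_exponent_conj L a'.2 ha1 hb0
  have hr1 : r.val ≠ 1 := fun h => by
    rw [h, pow_one] at hr
    have hmem : b0 ∈ Subgroup.centralizer ((L.P : Subgroup G) : Set G) := by
      rw [← L.centralizer_singleton a'.2 ha1, Subgroup.mem_centralizer_singleton_iff]
      exact mul_inv_eq_iff_eq_mul.1 hr
    have := Subgroup.orderOf_dvd_natCard _ hmem
    rw [L.card_centralizer, hK, hb0o'] at this
    norm_num at this
  have hr11 : r.val ^ 11 % 23 = 1 := by
    have h := conj_pow_iterate hr 11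
    rw [← hb0o', pow_orderOf_eq_one, one_mul, inv_one, mul_one, hb0o'] at h
    nth_rewrite 1 [← pow_one (a' : G)] at h
    rw [pow_eq_pow_iff_modEq, hao] at h
    exact h.symm
  obtain ⟨m, hm⟩ := exponent_two r hr11 hr1
  have hab : b0 ^ m.val * (a' : G) * (b0 ^ m.val)⁻¹ = (a' : G) ^ 2 := by
    rw [conj_pow_iterate hr m.val, pow_eq_pow_iff_modEq, hao]
    exact hm.trans (by norm_num)
  have hm0 : m.val ≠ 0 := fun h => by rw [h, pow_zero] at hm; norm_num at hm
  have hbo : orderOf (b0 ^ m.val) = 11 := by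
    rw [Nat.Coprime.orderOf_pow (by
      rw [hb0o']; exact ((by norm_num : Nat.Prime 11).coprime_iff_not_dvd).2 fun h => by
        have := Nat.le_of_dvd (Nat.pos_of_ne_zero hm0) h
        omega), hb0o']
  set b := b0 ^ m.val with hb
  -- the element squaring the second
  obtain ⟨Q, hQ⟩ : ∃ Q : Sylow 11 G, Subgroup.zpowers b ≤ Q :=
    (IsPGroup.of_card (n := 1) (by rw [Nat.card_zpowers, hbo, pow_one])).exists_le_sylow
  obtain ⟨L11, hL11⟩ := exists_local (G := G) (p := 11) (by rw [hG]; norm_num) (by rw [hG]; norm_num) Q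
  have hbP : b ∈ (L11.P : Subgroup G) := hL11 ▸ hQ (Subgroup.mem_zpowers b)
  have hb1 : b ≠ 1 := fun h => by rw [h, orderOf_one] at hbo; norm_num at hbo
  obtain ⟨he, hK11⟩ := hD.eleven L11
  have hbm : b ∈ pNe L11 := (mem_pNe L11).2 ⟨hbP, hb1⟩
  have hall : (pNe L11).filter (IsConj b) = pNe L11 := Finset.eq_of_subset_of_card_le
    (Finset.filter_subset _ _) (by rw [card_conj_pNe L11 hbm, card_pNe L11, he])
  have hb2 : b ^ 2 ∈ (pNe L11).filter (IsConj b) := by
    rw [hall]
    refine (mem_pNe L11).2 ⟨pow_mem hbP 2, fun h => ?_⟩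
    have := orderOf_dvd_of_pow_eq_one h
    rw [hbo] at this
    norm_num at this
  obtain ⟨n, hn⟩ := isConj_iff.1 (Finset.mem_filter.1 hb2).2
  have hnN : n ∈ L11.N := L11.mem_N_of_conj hbP hb1 (hn ▸ pow_mem hbP 2)
  have h11n : ¬ 11 ∣ orderOf n := fun h => by
    have hc := L11.mem_centralizer_of_mem_N hnN h
    rw [← L11.centralizer_singleton hbP hb1, Subgroup.mem_centralizer_singleton_iff] at hc
    rw [hc, mul_inv_cancel_right] at hn
    nth_rewrite 1 [← pow_one b] at hn
    rw [pow_eq_pow_iff_modEq, hbo] at hn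
    simp [Nat.ModEq] at hn
  refine ⟨a', b, n, hao, hbo, ?_, hab, hn⟩
  have hdvd : orderOf n ∣ 11 * 10 := by
    have h := Subgroup.orderOf_dvd_natCard L11.N hnN
    rw [← card_N L11, he, hK11, Subgroup.card_bot] at h
    simpa using h
  exact orderOf_dvd_iff_pow_eq_one.1 (((show Nat.Prime 11 by norm_num).coprime_iff_not_dvd.2
    h11n).symm.dvd_of_dvd_mul_left hdvd)

/-- The simple group with this order and these local data. -/
theorem isoM24_of_localData : Nonempty (G ≃* Cfsg.M24) := by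
  haveI : Fact (Nat.Prime 23) := ⟨by norm_num⟩
  haveI : Fact (Nat.Prime 11) := ⟨by norm_num⟩
  haveI : Fact (Nat.Prime 7) := ⟨by norm_num⟩
  haveI : Fact (Nat.Prime 5) := ⟨by norm_num⟩
  obtain ⟨L23⟩ := exists_local24 hG 23 (by norm_num) (by norm_num)
  obtain ⟨L11⟩ := exists_local24 hG 11 (by norm_num) (by norm_num)
  obtain ⟨L7⟩ := exists_local24 hG 7 (by norm_num) (by norm_num)
  obtain ⟨L5⟩ := exists_local24 hG 5 (by norm_num) (by norm_num)
  obtain ⟨B7⟩ := exists_sevenBlocks hG hD L7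
  obtain ⟨B5⟩ := exists_fiveBlocks hG hD L5
  obtain ⟨χ, hχ⟩ := exists_deg hG hD (d := 23) (by decide +kernel)
  obtain ⟨a, b, d, ha, hb, hd, hab, hdb⟩ := exists_elements hG hD
  obtain ⟨rho, hrho⟩ := exists_rho_of_odd hG hχ (exists_int_value hG hD hχ)
    (fun g hg hr => odd_value hG hD L23 L11 B7 B5 hχ hg hr) ha hb hab
  exact isoM24_of_rep hG rho hrho a b d ha hb hd hab hdb

end CfsgLib.MTwentyFourUnique
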