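import Cfsg.Agent.DefectOne.Family
import Cfsg.Agent.DefectOne.Canonical
import Cfsg.Agent.MTwentyThreeUnique.Profile

/-!
The characters over an arbitrary orbit of characters of the complement `K` at a Sylow subgroup of
prime order, each summarised by one integer: the sum of its coefficients.
-/

set_option autoImplicit false
set_option linter.style.haveILetI false
set_option linter.unusedSectionVars false
set_option maxHeartbeats 400000

open Cfsg CfsgLib.Characters CfsgLib.DefectOne CfsgLib.PConjOrbit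
open scoped ComplexConjugate

namespace CfsgLib.MTwentyFourUnique

universe u

variable {G : Type u} [Group G] [Fintype G] {p : ℕ} [Fact p.Prime] (L : Local p G) (O : L.Orb)

/-- The characters over an orbit. -/
noncomputable def ob : Finset (IrrCharacter G) :=
  letI : DecidablePred fun χ : IrrCharacter G => ∃ q : L.ColOver O, L.cint χ q.1 ≠ 0 :=
    fun _ => Classical.propDecidable _
  Finset.univ.filter fun χ => ∃ q : L.ColOver O, L.cint χ q.1 ≠ 0

theorem mem_ob {χ : IrrCharacter G} : χ ∈ ob L O ↔ ∃ q : L.ColOver O, L.cint χ q.1 ≠ 0 := by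
  simp [ob]

/-- The sum of the coefficients over an orbit. -/
noncomputable def osv (χ : IrrCharacter G) : ℤ :=
  haveI := L.finite_lam
  letI := Fintype.ofFinite L.Lam
  ∑ l, L.cint χ (L.colLam O l).1

theorem osv_eq [Fintype L.Lam] (χ : IrrCharacter G) :
    osv L O χ = ∑ l, L.cint χ (L.colLam O l).1 := by
  rw [osv]
  congr 1
  ext; simp

/-- The canonical degree of an orbit. -/
noncomputable def ophi : ℕ :=
  L.orbCard O * Cfsg.charDegree ((Quotient.out O : IrrCharacter L.K) : L.K → ℂ)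

theorem card_ob : (ob L O).card = L.eO O + Nat.card (L.ColOver O) := by
  classical
  rw [← L.counting.2.2.1 O, Nat.card_eq_fintype_card, Fintype.card_subtype]
  exact congrArg Finset.card (Finset.ext fun χ => by simp [mem_ob])

theorem ob_disjoint {O' : L.Orb} {χ : IrrCharacter G} (h : χ ∈ ob L O) (h' : χ ∈ ob L O') :
    O = O' := by
  obtain ⟨q, hq⟩ := (mem_ob L O).1 h
  obtain ⟨q', hq'⟩ := (mem_ob L O').1 h'
  rw [← q.2, ← q'.2]
  exact L.counting.2.2.2 χ _ _ hq hq'

theorem not_dvd_deg {χ : IrrCharacter G} (h : χ ∈ ob L O) :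
    ¬ p ∣ Cfsg.charDegree (χ : G → ℂ) := by
  obtain ⟨q, hq⟩ := (mem_ob L O).1 h
  exact (L.counting.2.1 χ).2 ⟨q.1, hq⟩

omit O in
theorem exists_mem_ob {χ : IrrCharacter G} (h : ¬ p ∣ Cfsg.charDegree (χ : G → ℂ)) :
    ∃ O : L.Orb, χ ∈ ob L O := by
  obtain ⟨q, hq⟩ := (L.counting.2.1 χ).1 h
  exact ⟨L.under q, (mem_ob L _).2 ⟨⟨q, rfl⟩, hq⟩⟩

/-- The degree modulo `p`. -/
theorem dvd_deg_add {χ : IrrCharacter G} (h : χ ∈ ob L O) :
    (p : ℤ) ∣ (Cfsg.charDegree (χ : G → ℂ) : ℤ) + (ophi L O : ℤ) * osv L O χ := by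
  haveI := L.finite_lam
  letI := Fintype.ofFinite L.Lam
  have h1 := Int.modEq_iff_dvd.1 (L.degree_congr O χ ((mem_ob L O).1 h)).symm
  rw [osv_eq, ophi]
  rwa [neg_mul, sub_neg_eq_add] at h1

theorem osv_eq_zero {χ : IrrCharacter G} (h : χ ∉ ob L O) : osv L O χ = 0 := by
  haveI := L.finite_lam
  letI := Fintype.ofFinite L.Lam
  rw [osv_eq]
  exact Finset.sum_eq_zero fun l _ => by_contra fun hne => h ((mem_ob L O).2 ⟨_, hne⟩)

/-- The relation between the values at a p-regular element. -/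
theorem relation {g : G} (hg : ¬ p ∣ orderOf g) :
    ∑ χ ∈ ob L O, (osv L O χ : ℂ) * (χ : G → ℂ) g = 0 := by
  haveI := L.finite_lam
  letI := Fintype.ofFinite L.Lam
  rw [Finset.sum_subset (Finset.subset_univ (ob L O))
    (fun χ _ hχ => by rw [osv_eq_zero L O hχ, Int.cast_zero, zero_mul])]
  simp only [osv_eq, Int.cast_sum, Finset.sum_mul]
  rw [Finset.sum_comm]
  exact Finset.sum_eq_zero fun l _ => L.sum_cint_mul_regular _ hg

/-- The degree relation. -/
theorem relation_deg :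
    ∑ χ ∈ ob L O, osv L O χ * (Cfsg.charDegree (χ : G → ℂ) : ℤ) = 0 := by
  have h := relation L O (g := 1)
    (by rw [orderOf_one, Nat.dvd_one]; exact (Fact.out : p.Prime).ne_one)
  simp only [← Blocks.charDegree_cast] at h
  exact_mod_cast h

/-- The characters over an orbit: the constant rows and the exceptional ones. -/
structure OShape where
  /-- The constant rows. -/
  C : Finset (IrrCharacter G)
  /-- The exceptional rows. -/
  E : Finset (IrrCharacter G)
  /-- The degree of the exceptional rows. -/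
  y : ℕ
  /-- The sign of the exceptional rows. -/
  a : ℤ
  a_unit : a = 1 ∨ a = -1
  disj : Disjoint C E
  ob_eq : ob L O = C.disjUnion E disj
  card_C : C.card = L.eO O + if Nat.card (L.ColOver O) = 1 then 1 else 0
  card_E : E.card = if Nat.card (L.ColOver O) = 1 then 0 else Nat.card (L.ColOver O)
  sv_C : ∀ χ ∈ C, osv L O χ = (p : ℤ) - 1 ∨ osv L O χ = -((p : ℤ) - 1)
  sv_E : ∀ χ ∈ E, osv L O χ = (L.eO O : ℤ) * a
  deg_E : ∀ χ ∈ E, Cfsg.charDegree (χ : G → ℂ) = y
  reg_E : ∀ χ ∈ E, ∀ ψ ∈ E, ∀ g : G, ¬ p ∣ orderOf g → (χ : G → ℂ) g = (ψ : G → ℂ) g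

theorem exists_oshape : Nonempty (OShape L O) := by
  classical
  haveI := L.finite_lam
  letI := Fintype.ofFinite L.Lam
  haveI := L.finite_col
  haveI := Fintype.ofFinite (L.ColOver O)
  have hlam : Fintype.card L.Lam = p - 1 := by rw [← Nat.card_eq_fintype_card, L.card_lam]
  have hconst : ∀ χ, ∀ a : ℤ, (∀ q : L.ColOver O, L.cint χ q.1 = a) →
      osv L O χ = ((p : ℤ) - 1) * a := by
    intro χ a h
    rw [osv_eq, Finset.sum_congr rfl (g := fun _ => a) fun l _ => h _, Finset.sum_const,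
      Finset.card_univ, hlam, nsmul_eq_mul, Nat.cast_sub (Fact.out : p.Prime).one_le, Nat.cast_one]
  have hC : ∀ χ, (∃ a : ℤ, (a = 1 ∨ a = -1) ∧ ∀ q : L.ColOver O, L.cint χ q.1 = a) →
      osv L O χ = (p : ℤ) - 1 ∨ osv L O χ = -((p : ℤ) - 1) := by
    rintro χ ⟨a, ha, hc⟩
    rw [hconst χ a hc]
    rcases ha with rfl | rfl
    · left; ring
    · right; ring
  by_cases ht : Nat.card (L.ColOver O) = 1
  · haveI : Subsingleton (L.ColOver O) := (Nat.card_eq_one_iff_unique.1 ht).1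
    refine ⟨⟨ob L O, ∅, 0, 1, Or.inl rfl, Finset.disjoint_empty_right _, by simp, ?_, by rw [if_pos ht, Finset.card_empty],
      fun χ hχ => hC χ ?_, by simp, by simp, by simp⟩⟩
    · rw [card_ob, ht, if_pos rfl]
    · rcases L.rows O χ ((mem_ob L O).1 hχ) with h | ⟨q₀, a, ha, hc⟩
      · exact h
      · exact ⟨a, ha, fun q => by rw [hc, if_pos (Subsingleton.elim _ _)]⟩
  have hpos : 0 < Nat.card (L.ColOver O) := Nat.pos_of_ne_zero fun h => by
    have h' := L.card_colOver_mul O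
    rw [h, zero_mul] at h'
    have := (Fact.out : p.Prime).two_le
    omega
  have ht1 : 1 < Fintype.card (L.ColOver O) := by rw [← Nat.card_eq_fintype_card]; omega
  have hex : ∀ q : L.ColOver O, ∃ θ, L.IsUnitRow O θ q := fun q => by
    obtain ⟨θ, hθ⟩ := Finset.card_pos.1
      (show 0 < _ by rw [L.card_unitRow O ht1 q]; exact one_pos)
    exact ⟨θ, (Finset.mem_filter.1 hθ).2⟩
  have huniq : ∀ (q : L.ColOver O) (θ θ' : IrrCharacter G),
      L.IsUnitRow O θ q → L.IsUnitRow O θ' q → θ = θ' := fun q θ θ' h h' =>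
    Finset.card_le_one.1 (L.card_unitRow O ht1 q).le θ
      (Finset.mem_filter.2 ⟨Finset.mem_univ _, h⟩) θ' (Finset.mem_filter.2 ⟨Finset.mem_univ _, h'⟩)
  choose f hf using hex
  have hfmem : ∀ q, f q ∈ ob L O := fun q => (mem_ob L O).2 ⟨q, (hf q).1⟩
  have hfinj : Function.Injective f := fun q q' h => by
    by_contra hne
    exact (hf q).1 (h ▸ (hf q').2 q hne)
  obtain ⟨q₀⟩ : Nonempty (L.ColOver O) := Fintype.card_pos_iff.1 (by omega)
  -- the conjugates of one exceptional row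
  have hconj : ∀ q, ∃ c : Local.Units1 p G,
      conjAt (f q₀) c = f q ∧ L.cint (f q) q.1 = L.cint (f q₀) q₀.1 := by
    intro q
    obtain ⟨l₀, hl₀⟩ := L.colLam_surjective O q₀
    obtain ⟨l, hl⟩ := L.colLam_surjective O q
    obtain ⟨c, hc⟩ := L.exists_powLam l₀ l
    have key : L.cint (conjAt (f q₀) c) q.1 = L.cint (f q₀) q₀.1 := by
      rw [← hl, ← hc, L.cint_conjAt, hl₀]
    rcases L.rows O (conjAt (f q₀) c) (L.conjAt_mem O _ c ((mem_ob L O).1 (hfmem q₀))) with
      ⟨a, ha, hconst'⟩ | ⟨q', a, ha, hu⟩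
    · exfalso
      obtain ⟨q₁, hq₁⟩ := Fintype.exists_ne_of_one_lt_card ht1 q₀
      obtain ⟨l₁, rfl⟩ := L.colLam_surjective O q₁
      have h1 := hconst' (L.colLam O (L.powLam c l₁))
      rw [L.cint_conjAt, (hf q₀).2 _ hq₁] at h1
      rcases ha with rfl | rfl <;> norm_num at h1
    · have hq' : q = q' := by
        by_contra h
        rw [hu, if_neg h] at key
        exact (hf q₀).1 key.symm
      subst hq'
      have e : conjAt (f q₀) c = f q := huniq q _ _ ⟨by rw [key]; exact (hf q₀).1,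
        fun q'' h'' => by rw [hu, if_neg h'']⟩ (hf q)
      exact ⟨c, e, e ▸ key⟩
  have ha0 : L.cint (f q₀) q₀.1 = 1 ∨ L.cint (f q₀) q₀.1 = -1 := by
    rcases L.rows O (f q₀) ((mem_ob L O).1 (hfmem q₀)) with ⟨a, ha, hc⟩ | ⟨q', a, ha, hc⟩
    · rwa [hc]
    · have : q₀ = q' := by by_contra h; exact (hf q₀).1 (by rw [hc, if_neg h])
      rwa [hc, if_pos this]
  have hE : Finset.univ.image f ⊆ ob L O := fun χ hχ => by
    obtain ⟨q, -, rfl⟩ := Finset.mem_image.1 hχ
    exact hfmem q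
  refine ⟨⟨ob L O \ Finset.univ.image f, Finset.univ.image f, Cfsg.charDegree (f q₀ : G → ℂ),
    L.cint (f q₀) q₀.1, ha0, Finset.sdiff_disjoint, ?_, ?_, ?_, fun χ hχ => hC χ ?_, ?_, ?_, ?_⟩⟩
  · rw [Finset.disjUnion_eq_union, Finset.sdiff_union_of_subset hE]
  · rw [Finset.card_sdiff_of_subset hE, card_ob, Finset.card_image_of_injective _ hfinj,
      Finset.card_univ, Nat.card_eq_fintype_card, if_neg (by omega)]
    omega
  · rw [Finset.card_image_of_injective _ hfinj, Finset.card_univ, Nat.card_eq_fintype_card,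
      if_neg (by omega)]
  · obtain ⟨h1, h2⟩ := Finset.mem_sdiff.1 hχ
    rcases L.rows O χ ((mem_ob L O).1 h1) with h | ⟨q, a, ha, hc⟩
    · exact h
    · refine absurd (Finset.mem_image.2 ⟨q, Finset.mem_univ _, ?_⟩) h2
      refine huniq q _ _ (hf q) ⟨?_, fun q' h' => by rw [hc, if_neg h']⟩
      rw [hc, if_pos rfl]
      rcases ha with h | h <;> rw [h] <;> norm_num
  · intro χ hχ
    obtain ⟨q, -, rfl⟩ := Finset.mem_image.1 hχ
    obtain ⟨c, -, he⟩ := hconj q
    rw [osv_eq, L.sum_unitRow O _ q (hf q), he]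
  · intro χ hχ
    obtain ⟨q, -, rfl⟩ := Finset.mem_image.1 hχ
    obtain ⟨c, hc, -⟩ := hconj q
    apply Nat.cast_injective (R := ℂ)
    rw [Blocks.charDegree_cast, Blocks.charDegree_cast, ← hc]
    exact L.conjAt_regular _ c (by rw [orderOf_one, Nat.dvd_one]; exact (Fact.out : p.Prime).ne_one)
  · intro χ hχ ψ hψ g hg
    obtain ⟨q, -, rfl⟩ := Finset.mem_image.1 hχ
    obtain ⟨q', -, rfl⟩ := Finset.mem_image.1 hψ
    obtain ⟨c, hc, -⟩ := hconj q
    obtain ⟨c', hc', -⟩ := hconj q'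
    rw [← hc, ← hc', L.conjAt_regular _ c hg, L.conjAt_regular _ c' hg]

end CfsgLib.MTwentyFourUnique
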