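import Cfsg.Agent.MTwentyFourUnique.OrbitShape
import Cfsg.Agent.MTwentyFourUnique.LocalData
import Cfsg.Agent.Characters.Linear
import Cfsg.Agent.LargePrime.Degrees

/-!
The orbits of the normalizer on the characters of the complement `K` when it has order six and is
not commutative, or order twelve with eight elements of order three.
-/

set_option autoImplicit false
set_option linter.style.haveILetI false
set_option linter.unusedSectionVars false
set_option maxHeartbeats 400000

open scoped commutatorElement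
open Cfsg CfsgLib.Characters CfsgLib.DefectOne CfsgLib.BrauerOrderP

namespace CfsgLib.MTwentyFourUnique

universe u

section Degrees

variable {H : Type u} [Group H] [Fintype H]

theorem degree_facts (χ : IrrCharacter H) :
    0 < Cfsg.charDegree (χ : H → ℂ) ∧ Cfsg.charDegree (χ : H → ℂ) ∣ Nat.card H ∧
      Cfsg.charDegree (χ : H → ℂ) ^ 2 ≤ Nat.card H :=
  ⟨Nat.pos_of_ne_zero (Blocks.charDegree_ne_zero χ), Blocks.charDegree_dvd_card χ,
    (Finset.single_le_sum (f := fun ψ : IrrCharacter H => Cfsg.charDegree (ψ : H → ℂ) ^ 2)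
      (fun _ _ => Nat.zero_le _) (Finset.mem_univ χ)).trans_eq (LargePrime.sum_charDegree_sq)⟩

theorem card_linear :
    (Finset.univ.filter fun χ : IrrCharacter H => Cfsg.charDegree (χ : H → ℂ) = 1).card =
      (commutator H).index := by
  classical
  rw [← Characters.card_linear_char, Nat.card_eq_fintype_card, Fintype.card_subtype]
  refine congrArg Finset.card (Finset.filter_congr fun χ _ => ?_)
  rw [← Blocks.charDegree_cast, Nat.cast_eq_one]

/-- The degrees of a non-commutative group of order six. -/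
theorem degrees_six (hc : Nat.card H = 6) (hnc : ¬ IsMulCommutative H) :
    (∀ χ : IrrCharacter H, Cfsg.charDegree (χ : H → ℂ) = 1 ∨ Cfsg.charDegree (χ : H → ℂ) = 2) ∧
    (Finset.univ.filter fun χ : IrrCharacter H => Cfsg.charDegree (χ : H → ℂ) = 1).card = 2 ∧
    (Finset.univ.filter fun χ : IrrCharacter H => Cfsg.charDegree (χ : H → ℂ) = 2).card = 1 := by
  classical
  have h12 : ∀ χ : IrrCharacter H,
      Cfsg.charDegree (χ : H → ℂ) = 1 ∨ Cfsg.charDegree (χ : H → ℂ) = 2 := fun χ => by
    obtain ⟨h1, -, h3⟩ := degree_facts χ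
    have : Cfsg.charDegree (χ : H → ℂ) ≤ 2 := by nlinarith
    omega
  refine ⟨h12, ?_⟩
  have hsum := LargePrime.sum_charDegree_sq (G := H)
  rw [← Finset.sum_filter_add_sum_filter_not Finset.univ
    (fun χ : IrrCharacter H => Cfsg.charDegree (χ : H → ℂ) = 1)] at hsum
  rw [Finset.sum_congr rfl (g := fun _ => 1) (fun χ hχ => by rw [(Finset.mem_filter.1 hχ).2]; rfl),
    Finset.sum_congr (s₁ := Finset.univ.filter fun χ : IrrCharacter H => ¬ Cfsg.charDegree (χ : H → ℂ) = 1)
      (s₂ := Finset.univ.filter fun χ : IrrCharacter H => Cfsg.charDegree (χ : H → ℂ) = 2) (g := fun _ => 4)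
      (Finset.filter_congr fun χ _ => by rcases h12 χ with h | h <;> simp [h])
      (fun χ hχ => by rw [(Finset.mem_filter.1 hχ).2]; rfl)] at hsum
  simp only [Finset.sum_const, smul_eq_mul, mul_one, hc] at hsum
  have hne : (Finset.univ.filter fun χ : IrrCharacter H =>
      Cfsg.charDegree (χ : H → ℂ) = 1).card ≠ 6 := by
    rw [card_linear]
    intro h
    have h' := (commutator H).index_mul_card
    rw [h, hc] at h'
    have hbot : commutator H = ⊥ := Subgroup.card_eq_one.1 (by omega)
    refine hnc ⟨⟨fun a b => ?_⟩⟩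
    have hab : ⁅a, b⁆ ∈ commutator H :=
      Subgroup.commutator_mem_commutator (Subgroup.mem_top a) (Subgroup.mem_top b)
    rw [hbot, Subgroup.mem_bot] at hab
    exact commutatorElement_eq_one_iff_mul_comm.1 hab
  omega

/-- The degrees of a group of order twelve with eight elements of order three. -/
theorem degrees_twelve (hc : Nat.card H = 12) (h3 : Nat.card {k : H // orderOf k = 3} = 8) :
    (∀ χ : IrrCharacter H, Cfsg.charDegree (χ : H → ℂ) = 1 ∨ Cfsg.charDegree (χ : H → ℂ) = 3) ∧
    (Finset.univ.filter fun χ : IrrCharacter H => Cfsg.charDegree (χ : H → ℂ) = 1).card = 3 ∧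
    (Finset.univ.filter fun χ : IrrCharacter H => Cfsg.charDegree (χ : H → ℂ) = 3).card = 1 := by
  classical
  have h123 : ∀ χ : IrrCharacter H, Cfsg.charDegree (χ : H → ℂ) = 1 ∨
      Cfsg.charDegree (χ : H → ℂ) = 2 ∨ Cfsg.charDegree (χ : H → ℂ) = 3 := fun χ => by
    obtain ⟨h1, -, h3'⟩ := degree_facts χ
    have : Cfsg.charDegree (χ : H → ℂ) ≤ 3 := by nlinarith
    omega
  have hsum := LargePrime.sum_charDegree_sq (G := H)
  set A := fun d : ℕ => (Finset.univ.filter fun χ : IrrCharacter H =>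
    Cfsg.charDegree (χ : H → ℂ) = d).card with hA
  have hs : A 1 + 4 * A 2 + 9 * A 3 = 12 := by
    rw [← hc, ← hsum, ← Finset.sum_fiberwise_of_maps_to (t := ({1, 2, 3} : Finset ℕ))
      (g := fun χ : IrrCharacter H => Cfsg.charDegree (χ : H → ℂ))
      (fun χ _ => by rcases h123 χ with h | h | h <;> simp [h])]
    have hf : ∀ d, ((Finset.univ.filter fun χ : IrrCharacter H => Cfsg.charDegree (χ : H → ℂ) = d).sum
        fun χ => Cfsg.charDegree (χ : H → ℂ) ^ 2) = A d * d ^ 2 := fun d => by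
      rw [Finset.sum_congr rfl (g := fun _ => d ^ 2) fun χ hχ => by rw [(Finset.mem_filter.1 hχ).2],
        Finset.sum_const, smul_eq_mul]
    rw [Finset.sum_congr rfl fun d _ => hf d]
    simp only [Finset.sum_insert, Finset.mem_insert, Finset.mem_singleton, Finset.sum_singleton,
      Nat.reduceEqDiff, or_self, not_false_eq_true]
    ring
  have h1 : A 1 = (commutator H).index := card_linear
  have h' := (commutator H).index_mul_card
  rw [hc, ← h1] at h'
  have hpos : 0 < A 1 := by rw [h1]; exact Nat.pos_of_ne_zero Subgroup.index_ne_zero_of_finite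
  have hne : ¬ (A 1 = 4 ∨ A 1 = 12) := by
    intro h4
    haveI := (inferInstance : (commutator H).Normal)
    have hmem : ∀ k : H, orderOf k = 3 → k ∈ commutator H := fun k hk => by
      have hq : (QuotientGroup.mk k : H ⧸ commutator H) ^ (3 : ℕ) = 1 := by
        rw [← QuotientGroup.mk_pow, ← hk, pow_orderOf_eq_one]; rfl
      rcases (Nat.dvd_prime (by norm_num : Nat.Prime 3)).1 (orderOf_dvd_of_pow_eq_one hq) with h | h
      · rwa [orderOf_eq_one_iff, QuotientGroup.eq_one_iff] at h
      · have hd := orderOf_dvd_natCard (QuotientGroup.mk k : H ⧸ commutator H)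
        rw [h, ← Subgroup.index_eq_card, ← h1] at hd
        rcases h4 with h4 | h4
        · rw [h4] at hd; norm_num at hd
        · exfalso
          have hbot : commutator H = ⊥ := Subgroup.card_eq_one.1 (by rw [h4] at h'; omega)
          haveI : IsMulCommutative H := ⟨⟨fun a b => by
            have hab : ⁅a, b⁆ ∈ commutator H :=
              Subgroup.commutator_mem_commutator (Subgroup.mem_top a) (Subgroup.mem_top b)
            rw [hbot, Subgroup.mem_bot] at hab
            exact commutatorElement_eq_one_iff_mul_comm.1 hab⟩⟩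
          haveI : Fact (Nat.Prime 3) := ⟨by norm_num⟩
          obtain ⟨P⟩ : Nonempty (Sylow 3 H) := inferInstance
          have hP : Nat.card (P : Subgroup H) = 3 :=
            DefectOne.card_sylow_of_sq_not_dvd (by rw [hc]; norm_num) (by rw [hc]; norm_num) P
          haveI : (P : Subgroup H).Normal := ⟨fun a ha g => by rwa [mul_comm' g a, mul_inv_cancel_right]⟩
          haveI := Sylow.unique_of_normal P inferInstance
          have hle : ∀ x : H, orderOf x = 3 → x ∈ (P : Subgroup H) := fun x hx => by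
            obtain ⟨Q, hQ⟩ := IsPGroup.exists_le_sylow (P := Subgroup.zpowers x)
              (IsPGroup.of_card (n := 1) (by rw [Nat.card_zpowers, hx, pow_one]))
            rw [Unique.eq_default P, ← Unique.eq_default Q]
            exact hQ (Subgroup.mem_zpowers x)
          have hcl : Nat.card {x : H // orderOf x = 3} ≤ Nat.card (P : Subgroup H) :=
            Nat.card_le_card_of_injective (fun x => ⟨x.1, hle x.1 x.2⟩) fun a b e =>
              Subtype.ext (congrArg (fun y : (P : Subgroup H) => (y : H)) e)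
          omega
    have hcl : Nat.card {x : H // orderOf x = 3} ≤ Nat.card (commutator H) :=
      Nat.card_le_card_of_injective (fun x => ⟨x.1, hmem x.1 x.2⟩) fun a b e =>
        Subtype.ext (congrArg (fun y : commutator H => (y : H)) e)
    rcases h4 with h4 | h4 <;> rw [h4] at h' <;> omega
  have hd : A 1 ∣ 12 := Dvd.intro _ h'
  have hA1 : A 1 = 3 ∧ A 2 = 0 ∧ A 3 = 1 := by
    have key : ∀ a ∈ Nat.divisors 12, a = 1 ∨ a = 2 ∨ a = 3 ∨ a = 4 ∨ a = 6 ∨ a = 12 := by
      decide +kernel
    have := key _ (Nat.mem_divisors.2 ⟨hd, by norm_num⟩)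
    generalize A 1 = a at *
    generalize A 2 = b at *
    generalize A 3 = c at *
    omega
  refine ⟨fun χ => ?_, hA1.1, hA1.2.2⟩
  rcases h123 χ with h | h | h
  · exact Or.inl h
  · exact absurd hA1.2.1 (Finset.card_ne_zero.2 ⟨χ, Finset.mem_filter.2 ⟨Finset.mem_univ _, h⟩⟩)
  · exact Or.inr h

end Degrees

variable {G : Type u} [Group G] [Fintype G] {p : ℕ} [Fact p.Prime] (L : Local p G)

theorem ophi_of_out {φ : IrrCharacter L.K} {O : L.Orb} (h : L.orb φ = O) :
    ophi L O = L.orbCard O * Cfsg.charDegree (φ : L.K → ℂ) := by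
  obtain ⟨n, hn⟩ := L.orb_eq_iff.1
    ((Quotient.out_eq O : L.orb (Quotient.out O) = O).trans h.symm)
  rw [ophi]
  congr 1
  haveI := Fintype.ofFinite L.K
  apply Nat.cast_injective (R := ℂ)
  rw [Blocks.charDegree_cast, Blocks.charDegree_cast, hn]
  exact (congrArg _ (map_one (L.autK n))).symm

theorem deg_orb {φ ψ : IrrCharacter L.K} (h : L.orb φ = L.orb ψ) :
    Cfsg.charDegree (φ : L.K → ℂ) = Cfsg.charDegree (ψ : L.K → ℂ) := by
  obtain ⟨n, hn⟩ := L.orb_eq_iff.1 h
  haveI := Fintype.ofFinite L.K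
  apply Nat.cast_injective (R := ℂ)
  rw [Blocks.charDegree_cast, Blocks.charDegree_cast, hn]
  exact (congrArg _ (map_one (L.autK n))).symm

theorem orbCard_mul_eO (O : L.Orb) : L.orbCard O * L.eO O = e L := by
  have h := (L.orbCard_mul O).trans (card_N L).symm
  rw [← mul_assoc] at h
  exact Nat.eq_of_mul_eq_mul_right (mul_pos (Fact.out : p.Prime).pos Nat.card_pos) h

theorem orbCard_eq [Fintype L.K] (φ : IrrCharacter L.K)
    [DecidablePred fun ψ : IrrCharacter L.K => L.orb ψ = L.orb φ] :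
    L.orbCard (L.orb φ) = (Finset.univ.filter fun ψ : IrrCharacter L.K => L.orb ψ = L.orb φ).card := by
  rw [Local.orbCard, Nat.card_eq_fintype_card, Fintype.card_subtype]

theorem ophi_one : ophi L (O0 L) = 1 := by
  haveI := Fintype.ofFinite L.K
  rw [ophi_of_out L (φ := oneK L) (O := O0 L) rfl, show L.orbCard (O0 L) = 1 from Nat.card_eq_one_iff_unique.2
    ⟨⟨fun a b => Subtype.ext ((eq_oneK_of_orb L a.2).trans (eq_oneK_of_orb L b.2).symm)⟩,
      ⟨⟨oneK L, rfl⟩⟩⟩, one_mul]
  exact Nat.cast_injective (R := ℂ) (by rw [Blocks.charDegree_cast, oneK_apply]; simp)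

/-- The orbits for a non-commutative complement of order six and inertial index three. -/
theorem orbits_six (he : e L = 3) (hc : Nat.card L.K = 6) (hnc : ¬ IsMulCommutative L.K) :
    ∃ S T : L.Orb, S ≠ O0 L ∧ T ≠ O0 L ∧ S ≠ T ∧ (∀ O, O = O0 L ∨ O = S ∨ O = T) ∧
      ophi L S = 1 ∧ L.eO S = 3 ∧ ophi L T = 2 ∧ L.eO T = 3 := by
  classical
  haveI := Fintype.ofFinite L.K
  obtain ⟨h12, hone, htwo⟩ := degrees_six hc hnc
  obtain ⟨τ, hτ⟩ := Finset.card_eq_one.1 htwo
  have hd1 : Cfsg.charDegree (oneK L : L.K → ℂ) = 1 :=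
    Nat.cast_injective (R := ℂ) (by rw [Blocks.charDegree_cast, oneK_apply]; simp)
  obtain ⟨σ, hσ, hσ1⟩ := Finset.exists_mem_ne (by omega : 1 < (Finset.univ.filter
    fun χ : IrrCharacter L.K => Cfsg.charDegree (χ : L.K → ℂ) = 1).card) (oneK L)
  have hσd := (Finset.mem_filter.1 hσ).2
  have hτd : Cfsg.charDegree (τ : L.K → ℂ) = 2 := (Finset.mem_filter.1 (show τ ∈
    (Finset.univ.filter fun χ : IrrCharacter L.K => Cfsg.charDegree (χ : L.K → ℂ) = 2) by
      rw [hτ]; exact Finset.mem_singleton_self τ)).2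
  have hlin : Finset.univ.filter (fun χ : IrrCharacter L.K => Cfsg.charDegree (χ : L.K → ℂ) = 1) =
      {oneK L, σ} := (Finset.eq_of_subset_of_card_le (fun χ hχ => Finset.mem_filter.2 ⟨Finset.mem_univ _, by
      rcases Finset.mem_insert.1 hχ with rfl | h
      · exact hd1
      · rw [Finset.mem_singleton.1 h]; exact hσd⟩) (by rw [hone, Finset.card_pair hσ1.symm])).symm
  have hS : L.orb σ ≠ O0 L := fun h => hσ1 (eq_oneK_of_orb L h)
  have hT : L.orb τ ≠ O0 L := fun h => by rw [eq_oneK_of_orb L h, hd1] at hτd; omega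
  have hST : L.orb σ ≠ L.orb τ := fun h => by rw [deg_orb L h] at hσd; omega
  have cS : L.orbCard (L.orb σ) = 1 := by
    rw [orbCard_eq, Finset.card_eq_one]
    refine ⟨σ, Finset.ext fun ψ => ?_⟩
    simp only [Finset.mem_filter, Finset.mem_univ, true_and, Finset.mem_singleton]
    refine ⟨fun h => ?_, fun h => h ▸ rfl⟩
    have hψ : ψ ∈ ({oneK L, σ} : Finset _) :=
      hlin ▸ Finset.mem_filter.2 ⟨Finset.mem_univ _, (deg_orb L h).trans hσd⟩
    rcases Finset.mem_insert.1 hψ with rfl | h'
    · exact absurd h.symm hS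
    · exact Finset.mem_singleton.1 h'
  have cT : L.orbCard (L.orb τ) = 1 := by
    rw [orbCard_eq, Finset.card_eq_one]
    refine ⟨τ, Finset.ext fun ψ => ?_⟩
    simp only [Finset.mem_filter, Finset.mem_univ, true_and, Finset.mem_singleton]
    refine ⟨fun h => ?_, fun h => h ▸ rfl⟩
    exact Finset.mem_singleton.1 (hτ ▸ Finset.mem_filter.2 ⟨Finset.mem_univ _, (deg_orb L h).trans hτd⟩)
  refine ⟨L.orb σ, L.orb τ, hS, hT, hST, fun O => ?_, by rw [ophi_of_out L rfl, cS, hσd],
    ?_, by rw [ophi_of_out L rfl, cT, hτd], ?_⟩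
  · obtain ⟨φ, rfl⟩ : ∃ φ, L.orb φ = O := ⟨_, Quotient.out_eq O⟩
    rcases h12 φ with h | h
    · have hφ : φ ∈ ({oneK L, σ} : Finset _) := hlin ▸ Finset.mem_filter.2 ⟨Finset.mem_univ _, h⟩
      rcases Finset.mem_insert.1 hφ with rfl | h'
      · exact Or.inl rfl
      · rw [Finset.mem_singleton.1 h']; exact Or.inr (Or.inl rfl)
    · have hφ : φ ∈ ({τ} : Finset _) := by
        rw [← hτ]; exact Finset.mem_filter.2 ⟨Finset.mem_univ _, h⟩
      rw [Finset.mem_singleton.1 hφ]
      exact Or.inr (Or.inr rfl)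
  · have := orbCard_mul_eO L (L.orb σ); rw [cS, he] at this; omega
  · have := orbCard_mul_eO L (L.orb τ); rw [cT, he] at this; omega

/-- The orbits for a complement of order twelve with eight elements of order three and inertial
index four: the two faithful linear characters form one orbit or two. -/
theorem orbits_twelve (he : e L = 4) (hc : Nat.card L.K = 12)
    (h3 : Nat.card {k : L.K // orderOf k = 3} = 8) :
    ∃ T : L.Orb, T ≠ O0 L ∧ ophi L T = 3 ∧ L.eO T = 4 ∧
      ((∃ A : L.Orb, A ≠ O0 L ∧ A ≠ T ∧ (∀ O, O = O0 L ∨ O = T ∨ O = A) ∧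
          ophi L A = 2 ∧ L.eO A = 2) ∨
        ∃ A A' : L.Orb, A ≠ O0 L ∧ A' ≠ O0 L ∧ A ≠ T ∧ A' ≠ T ∧ A ≠ A' ∧
          (∀ O, O = O0 L ∨ O = T ∨ O = A ∨ O = A') ∧
          ophi L A = 1 ∧ L.eO A = 4 ∧ ophi L A' = 1 ∧ L.eO A' = 4) := by
  classical
  haveI := Fintype.ofFinite L.K
  obtain ⟨h13, hone, hthree⟩ := degrees_twelve hc h3
  obtain ⟨τ, hτ⟩ := Finset.card_eq_one.1 hthree
  have hd1 : Cfsg.charDegree (oneK L : L.K → ℂ) = 1 :=
    Nat.cast_injective (R := ℂ) (by rw [Blocks.charDegree_cast, oneK_apply]; simp)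
  have hτd : Cfsg.charDegree (τ : L.K → ℂ) = 3 := (Finset.mem_filter.1 (show τ ∈
    (Finset.univ.filter fun χ : IrrCharacter L.K => Cfsg.charDegree (χ : L.K → ℂ) = 3) by
      rw [hτ]; exact Finset.mem_singleton_self τ)).2
  set lin := Finset.univ.filter fun χ : IrrCharacter L.K => Cfsg.charDegree (χ : L.K → ℂ) = 1 with hlindef
  have hmem1 : oneK L ∈ lin := Finset.mem_filter.2 ⟨Finset.mem_univ _, hd1⟩
  obtain ⟨a, b, hab, hrest⟩ := Finset.card_eq_two.1
    (show (lin.erase (oneK L)).card = 2 by rw [Finset.card_erase_of_mem hmem1, hone])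
  have ha : a ∈ lin.erase (oneK L) := hrest ▸ Finset.mem_insert_self _ _
  have hb : b ∈ lin.erase (oneK L) := hrest ▸ Finset.mem_insert_of_mem (Finset.mem_singleton_self _)
  have had := (Finset.mem_filter.1 (Finset.mem_of_mem_erase ha)).2
  have hbd := (Finset.mem_filter.1 (Finset.mem_of_mem_erase hb)).2
  have hT : L.orb τ ≠ O0 L := fun h => by rw [eq_oneK_of_orb L h, hd1] at hτd; omega
  have hA : ∀ φ ∈ lin.erase (oneK L), L.orb φ ≠ O0 L ∧ L.orb φ ≠ L.orb τ := fun φ hφ =>
    ⟨fun h => (Finset.mem_erase.1 hφ).1 (eq_oneK_of_orb L h), fun h => by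
      have := (Finset.mem_filter.1 (Finset.mem_of_mem_erase hφ)).2
      rw [deg_orb L h] at this; omega⟩
  have cT : L.orbCard (L.orb τ) = 1 := by
    rw [orbCard_eq, Finset.card_eq_one]
    refine ⟨τ, Finset.ext fun ψ => ?_⟩
    simp only [Finset.mem_filter, Finset.mem_univ, true_and, Finset.mem_singleton]
    exact ⟨fun h => Finset.mem_singleton.1
      (hτ ▸ Finset.mem_filter.2 ⟨Finset.mem_univ _, (deg_orb L h).trans hτd⟩), fun h => h ▸ rfl⟩
  have hall : ∀ O, O = O0 L ∨ O = L.orb τ ∨ O = L.orb a ∨ O = L.orb b := fun O => by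
    obtain ⟨φ, rfl⟩ : ∃ φ, L.orb φ = O := ⟨_, Quotient.out_eq O⟩
    rcases h13 φ with h | h
    · by_cases h1 : φ = oneK L
      · exact Or.inl (h1 ▸ rfl)
      · have hφ : φ ∈ ({a, b} : Finset _) :=
          hrest ▸ Finset.mem_erase.2 ⟨h1, Finset.mem_filter.2 ⟨Finset.mem_univ _, h⟩⟩
        rcases Finset.mem_insert.1 hφ with rfl | h'
        · exact Or.inr (Or.inr (Or.inl rfl))
        · rw [Finset.mem_singleton.1 h']; exact Or.inr (Or.inr (Or.inr rfl))
    · have hφ : φ ∈ ({τ} : Finset _) := by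
        rw [← hτ]; exact Finset.mem_filter.2 ⟨Finset.mem_univ _, h⟩
      rw [Finset.mem_singleton.1 hφ]
      exact Or.inr (Or.inl rfl)
  refine ⟨L.orb τ, hT, by rw [ophi_of_out L rfl, cT, hτd], ?_, ?_⟩
  · have := orbCard_mul_eO L (L.orb τ); rw [cT, he] at this; omega
  -- the orbit of a linear character stays among the two
  have horb : ∀ φ ∈ lin.erase (oneK L), ∀ ψ, L.orb ψ = L.orb φ → ψ ∈ lin.erase (oneK L) := fun φ hφ ψ h =>
    Finset.mem_erase.2 ⟨fun e => (hA φ hφ).1 (by rw [← h, e]; rfl), Finset.mem_filter.2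
      ⟨Finset.mem_univ _, (deg_orb L h).trans (Finset.mem_filter.1 (Finset.mem_of_mem_erase hφ)).2⟩⟩
  by_cases hsame : L.orb a = L.orb b
  · have hcA : L.orbCard (L.orb a) = 2 := by
      rw [orbCard_eq, ← Finset.card_pair hab]
      refine congrArg Finset.card (Finset.ext fun ψ => ?_)
      simp only [Finset.mem_filter, Finset.mem_univ, true_and]
      refine ⟨fun h => hrest ▸ horb a ha ψ h, fun h => ?_⟩
      rcases Finset.mem_insert.1 h with rfl | h'
      · rfl
      · rw [Finset.mem_singleton.1 h', hsame]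
    refine Or.inl ⟨L.orb a, (hA a ha).1, (hA a ha).2, fun O => ?_, by rw [ophi_of_out L rfl, hcA, had], ?_⟩
    · rcases hall O with h | h | h | h
      exacts [Or.inl h, Or.inr (Or.inl h), Or.inr (Or.inr h), Or.inr (Or.inr (h.trans hsame.symm))]
    · have := orbCard_mul_eO L (L.orb a); rw [hcA, he] at this; omega
  · have hc1 : ∀ φ φ', φ ∈ lin.erase (oneK L) → lin.erase (oneK L) = {φ, φ'} →
        L.orb φ ≠ L.orb φ' → L.orbCard (L.orb φ) = 1 := fun φ φ' hφ hpair hne => by
      rw [orbCard_eq, Finset.card_eq_one]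
      refine ⟨φ, Finset.ext fun ψ => ?_⟩
      simp only [Finset.mem_filter, Finset.mem_univ, true_and, Finset.mem_singleton]
      refine ⟨fun h => ?_, fun h => h ▸ rfl⟩
      have := hpair ▸ horb φ hφ ψ h
      rcases Finset.mem_insert.1 this with h' | h'
      · exact h'
      · rw [Finset.mem_singleton.1 h'] at h; exact absurd h.symm hne
    have ca := hc1 a b ha hrest hsame
    have cb := hc1 b a hb (hrest.trans (Finset.pair_comm a b)) (Ne.symm hsame)
    refine Or.inr ⟨L.orb a, L.orb b, (hA a ha).1, (hA b hb).1, (hA a ha).2, (hA b hb).2, hsame, hall,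
      by rw [ophi_of_out L rfl, ca, had], ?_, by rw [ophi_of_out L rfl, cb, hbd], ?_⟩
    · have := orbCard_mul_eO L (L.orb a); rw [ca, he] at this; omega
    · have := orbCard_mul_eO L (L.orb b); rw [cb, he] at this; omega

end CfsgLib.MTwentyFourUnique
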