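import Cfsg.Agent.MTwentyFourUnique.Three
import Cfsg.Agent.MTwentyThreeUnique.Parity

/-!
The character of degree 23 is rational, with odd values at the real elements of odd order.
-/

set_option autoImplicit false
set_option linter.style.haveILetI false
set_option linter.unusedSectionVars false
set_option maxHeartbeats 800000
set_option synthInstance.maxSize 1024
set_option synthInstance.maxHeartbeats 100000

open Cfsg CfsgLib.Characters CfsgLib.DefectOne CfsgLib.BrauerOrderP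
open CfsgLib.MTwentyThreeUnique (pNe mem_pNe card_pNe)
open scoped ComplexConjugate

namespace CfsgLib.MTwentyFourUnique

universe u

variable {G : Type u} [Group G] [Fintype G]

/-- A real product of an element of order 5 and an element of odd order of its centralizer part has
trivial second part. -/
theorem real_five [Fact (Nat.Prime 5)] (L : Local 5 G) (he : e L = 4) (hK : Nat.card L.K = 12)
    (h3 : Nat.card {k : L.K // orderOf k = 3} = 8) {A : L.Orb} (hA : A ≠ O0 L)
    (hphi : ophi L A = 2) (heA : L.eO A = 2) {u : G} (hu : u ∈ pNe L) {k : L.K}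
    (hk : orderOf k = 3) : ¬ IsConj (u * (k : G)) (u * (k : G))⁻¹ := by
  classical
  intro hr
  haveI := Fintype.ofFinite L.K
  obtain ⟨hu', hu1⟩ := (mem_pNe L).1 hu
  have hc2 : L.orbCard A = 2 := by
    have := orbCard_mul_eO L A
    rw [heA, he] at this
    omega
  set φ : IrrCharacter L.K := Quotient.out A with hφdef
  have horb : L.orb φ = A := Quotient.out_eq A
  have hd : Cfsg.charDegree (φ : L.K → ℂ) = 1 := by
    have h := hphi
    rw [ophi_of_out L horb, hc2] at h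
    omega
  have hne1 : φ ≠ oneK L := fun h => hA (horb.symm.trans (congrArg L.orb h))
  obtain ⟨f, hf⟩ := exists_hom_of_degree_one (isCharacter_of_isIrr φ.2)
    (show (φ : L.K → ℂ) 1 = 1 by rw [← Blocks.charDegree_cast, hd, Nat.cast_one])
  have hfk : f k ≠ 1 := lin_ne_one hK h3 (fun e => hne1 (Subtype.ext (funext fun j => by
    rw [hf, oneK_apply]
    simp only
    rw [e]; rfl))) hk
  have hsq : ∀ m : L.N, L.phiBy (m * m) φ = φ := by
    intro m
    by_contra hne
    set φ₁ := L.phiBy m φ with hφ₁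
    have h21 : L.phiBy (m * m) φ = L.phiBy m φ₁ := L.phiBy_mul m m φ
    have h1 : φ₁ ≠ φ := fun h => hne (by rw [h21, h]; exact h)
    have h2 : L.phiBy m φ₁ ≠ φ₁ := fun h => h1 (by
      have h' := congrArg (L.phiBy m⁻¹) h
      rw [hφ₁, ← L.phiBy_mul m (m⁻¹), mul_inv_cancel, L.phiBy_one, ← L.phiBy_mul m (m⁻¹),
        mul_inv_cancel, L.phiBy_one] at h'
      exact h')
    have hsub : ({φ, φ₁, L.phiBy m φ₁} : Finset (IrrCharacter L.K)) ⊆
        Finset.univ.filter fun χ => L.orb χ = L.orb φ := by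
      intro x hx
      refine Finset.mem_filter.2 ⟨Finset.mem_univ _, ?_⟩
      simp only [Finset.mem_insert, Finset.mem_singleton] at hx
      rcases hx with rfl | rfl | rfl
      · rfl
      · exact (L.orb_eq_iff.2 ⟨m, rfl⟩).symm
      · exact (L.orb_eq_iff.2 ⟨m * m, h21.symm⟩).symm
    have h := Finset.card_le_card hsub
    rw [← orbCard_eq, horb, hc2,
      Finset.card_insert_of_notMem (by simp [Ne.symm h1, Ne.symm (h21 ▸ hne : L.phiBy m φ₁ ≠ φ)]),
      Finset.card_pair (Ne.symm h2)] at h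
    omega
  obtain ⟨x, hx⟩ := isConj_iff.1 hr
  obtain ⟨a, ha, ha'⟩ := L.exists_exponent
  have hxu : x * u * x⁻¹ = u⁻¹ := by
    have h1 := congrArg (· ^ a) hx
    simpa only [conj_pow, inv_pow, L.pow_exponent ha ha' hu' k.2] using h1
  have hxN : x ∈ L.N := L.mem_N_of_conj hu' hu1 (hxu ▸ inv_mem hu')
  have hxk : x * (k : G) * x⁻¹ = (k : G)⁻¹ := by
    have h2 : u⁻¹ * (x * (k : G) * x⁻¹) = u⁻¹ * (k : G)⁻¹ := by
      rw [← hxu]
      calc x * u * x⁻¹ * (x * (k : G) * x⁻¹) = x * (u * k) * x⁻¹ := by group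
        _ = (u * k)⁻¹ := hx
        _ = x * u * x⁻¹ * (k : G)⁻¹ := by rw [hxu, ← mul_inv_rev, (L.commute hu' k.2).eq]
    exact mul_left_cancel h2
  have hu2 : u ^ 2 ∈ pNe L := (mem_pNe L).2 ⟨pow_mem hu' 2, fun e => hu1 (by
    have h5 := L.pow_p hu'
    rwa [show 5 = 2 + 2 + 1 by norm_num, pow_succ, pow_add, e, one_mul, one_mul] at h5)⟩
  obtain ⟨n, hn⟩ := isConj_iff.1 (MTwentyThreeUnique.isConj_of_full L he hu hu2)
  have hnN : n ∈ L.N := L.mem_N_of_conj hu' hu1 (hn ▸ pow_mem hu' 2)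
  have hn2 : n * n * u * (n * n)⁻¹ = u⁻¹ := by
    calc n * n * u * (n * n)⁻¹ = n * (n * u * n⁻¹) * n⁻¹ := by group
      _ = (n * u * n⁻¹) ^ 2 := by rw [hn, ← conj_pow (a := n) (b := u) (i := 2), hn]
      _ = u⁻¹ := by
        rw [hn, ← pow_mul]
        refine eq_inv_of_mul_eq_one_left ?_
        rw [← pow_succ]
        exact L.pow_p hu'
  have hz : (n * n)⁻¹ * x ∈ Subgroup.centralizer ((L.P : Subgroup G) : Set G) := by
    rw [← L.centralizer_singleton hu' hu1, Subgroup.mem_centralizer_singleton_iff]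
    calc (n * n)⁻¹ * x * u = (n * n)⁻¹ * (x * u * x⁻¹) * x := by group
      _ = (n * n)⁻¹ * (n * n * u * (n * n)⁻¹) * x := by rw [hxu, hn2]
      _ = u * ((n * n)⁻¹ * x) := by group
  obtain ⟨v, hv, k', hk', hd'⟩ := L.decomp _ hz
  set nN : L.N := ⟨n, hnN⟩ with hnN'
  set kK : L.K := ⟨k', hk'⟩ with hkK
  have hkey : (k⁻¹ : L.K) = L.autK (nN * nN) (kK * k * kK⁻¹) := by
    refine Subtype.ext ?_
    rw [L.coe_autK]
    simp only [hnN', hkK, Subgroup.coe_mul, InvMemClass.coe_inv]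
    rw [← hxk]
    have hxe : x = n * n * (v * k') := by rw [← hd']; group
    rw [hxe]
    have hvc : Commute v (k' * (k : G) * k'⁻¹) :=
      L.commute hv (L.K.mul_mem (L.K.mul_mem hk' k.2) (L.K.inv_mem hk'))
    calc n * n * (v * k') * (k : G) * (n * n * (v * k'))⁻¹
        = n * n * (v * (k' * (k : G) * k'⁻¹) * v⁻¹) * (n * n)⁻¹ := by group
      _ = _ := by rw [hvc.eq, mul_inv_cancel_right]
  have hval := congrFun (congrArg Subtype.val (hsq nN)) (kK * k * kK⁻¹)
  rw [L.phiBy_apply, ← hkey, hf] at hval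
  simp only at hval
  have hval' : f k⁻¹ = f k := by
    rw [Units.val_inj] at hval
    rw [hval, map_mul, map_mul, map_inv, mul_right_comm, mul_inv_cancel, one_mul]
  rw [map_inv] at hval'
  have h2 : f k ^ 2 = 1 := by rw [pow_two]; nth_rewrite 2 [← hval']; exact mul_inv_cancel _
  have h33 : f k ^ 3 = 1 := by rw [← map_pow, ← hk, pow_orderOf_eq_one, map_one]
  rw [pow_succ, h2, one_mul] at h33
  exact hfk h33

variable [IsSimpleGroup G] (hG : Nat.card G = 244823040) (hD : LocalData G)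
include hG hD

theorem pow_value {χ : IrrCharacter G} (hχ : deg χ = 23) {k : ℕ} (hk : k.Coprime (Nat.card G))
    (g : G) : (χ : G → ℂ) (g ^ k) = (χ : G → ℂ) g := by
  have h : (⟨_, GaloisConj.isIrrCharacter_pow χ.2 hk⟩ : IrrCharacter G) = χ := by
    refine eq_of_deg hG hD (d := 23) (by decide +kernel) ?_ hχ
    rw [← hχ]
    apply Nat.cast_injective (R := ℂ)
    rw [Blocks.charDegree_cast, Blocks.charDegree_cast]
    exact congrArg (χ : G → ℂ) (one_pow k)
  exact congrFun (congrArg Subtype.val h) g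

theorem exists_int_value {χ : IrrCharacter G} (hχ : deg χ = 23) (g : G) :
    ∃ z : ℤ, (χ : G → ℂ) g = z := by
  obtain ⟨q, hq⟩ := rat_of_pow_invariant (isCharacter_of_isIrr χ.2) g
    (fun k hk => pow_value hG hD hχ hk g)
  obtain ⟨z, hz⟩ := GaloisAverage.exists_int_of_isIntegral_ratCast (q := q)
    (hq ▸ character_isIntegral (isCharacter_of_isIrr χ.2) g)
  exact ⟨z, hq.trans hz⟩

variable [Fact (Nat.Prime 23)] [Fact (Nat.Prime 11)] [Fact (Nat.Prime 7)] [Fact (Nat.Prime 5)]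
  (L23 : Local 23 G) (L11 : Local 11 G) {L7 : Local 7 G} {L5 : Local 5 G}
  (B7 : SevenBlocks L7) (B5 : FiveBlocks L5)
include L23 L11 B7 B5

/-- The exterior square is irreducible, or irreducible plus one. -/
theorem alt_twenty_three {χ : IrrCharacter G} (hχ : deg χ = 23) :
    ∃ (ψ : IrrCharacter G) (d : ℤ), (d = 0 ∨ d = 1) ∧ ∀ g, thAlt χ g = (ψ : G → ℂ) g + d := by
  classical
  haveI := Fintype.ofFinite L23.K
  haveI := Fintype.ofFinite L11.K
  obtain ⟨e23, K23⟩ := hD.twenty_three L23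
  obtain ⟨e11, K11⟩ := hD.eleven L11
  obtain ⟨m, hm, -⟩ := expand (thAlt_char χ)
  have h1 : (χ : G → ℂ) 1 = 23 := by
    rw [← Blocks.charDegree_cast, show Cfsg.charDegree (χ : G → ℂ) = 23 from hχ, Nat.cast_ofNat]
  have hdeg : ∑ φ : IrrCharacter G, m φ * deg φ = 253 := by
    have h := congrFun hm 1
    rw [show thAlt χ 1 = 253 by simp only [thAlt, mul_one, h1]; norm_num] at h
    apply Nat.cast_injective (R := ℂ)
    push_cast
    rw [h]
    exact Finset.sum_congr rfl fun φ _ => by rw [← Blocks.charDegree_cast]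
  have h23 : secSum L23 (O0 L23) (thAlt χ) = (Nat.card L23.K : ℂ) * ((0 : ℤ) : ℂ) := by
    rw [secSum_const L23 (c := 0) fun u hu k => by
      have h0 : ∀ w ∈ pNe L23, ∀ j ∈ L23.K, (χ : G → ℂ) (w * j) = 0 := fun w hw j hj =>
        value_zero L23 (by rw [show Cfsg.charDegree (χ : G → ℂ) = 23 from hχ]) hw hj
      simp only [thAlt, sq_section L23 hu k.2, h0 u hu k k.2,
        h0 _ (sq_mem_pNe L23 (by norm_num) hu) _ (Subgroup.mul_mem _ k.2 k.2)]
      norm_num]
    norm_num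
  have h11 : secSum L11 (O0 L11) (thAlt χ) = (Nat.card L11.K : ℂ) * ((0 : ℤ) : ℂ) := by
    have v11 : ∀ u ∈ pNe L11, (χ : G → ℂ) u = (1 : ℤ) := fun u hu => by
      refine value_bot L11 K11 (by rw [hχ]; norm_num) ?_ (by rw [e11]; norm_num) hu
      rw [osv_eleven hG hD, hχ]; rfl
    rw [secSum_const L11 (c := 0) fun u hu k => by
      have hk1 : (k : G) = 1 := Subgroup.mem_bot.1 (K11 ▸ k.2 : (k : G) ∈ (⊥ : Subgroup G))
      simp [thAlt, hk1, v11 u hu, v11 _ (sq_mem_pNe L11 (by norm_num) hu)]]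
    norm_num
  set key : IrrCharacter G → ℕ × ℤ × ℤ := fun φ =>
    (deg φ, osv L23 (O0 L23) φ, osv L11 (O0 L11) φ) with hkey
  set s := bag m key with hs
  have hle : ∀ φ, m φ ≠ 0 → deg φ ≤ 253 := fun φ h => by
    rw [← hdeg]
    exact le_trans (Nat.le_mul_of_pos_left _ (Nat.pos_of_ne_zero h))
      (Finset.single_le_sum (f := fun ψ => m ψ * deg ψ) (fun _ _ => Nat.zero_le _) (Finset.mem_univ φ))
  have hmem : ∀ x ∈ s, x ∈ [(253, ((0 : ℤ), (0 : ℤ))), (252, -22, -10), (231, 22, 0), (45, -22, 10),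
      (23, 0, 10), (1, 22, 10)] := by
    intro x hx
    obtain ⟨φ, hφ, rfl⟩ := mem_bag.1 hx
    have hd := List.all_eq_true.1 rows23_check _ (deg_mem_trueDegs hG hD φ)
    simp only [Bool.or_eq_true, decide_eq_true_eq, List.contains_iff_mem] at hd
    have h := hd.resolve_left (not_lt.2 (hle φ hφ))
    simp only [hkey, osv_twenty_three hG hD, osv_eleven hG hD]
    exact h
  have hfst : (s.map Prod.fst).sum = 253 := by
    rw [hs, sum_map_bag, ← hdeg]
    exact Finset.sum_congr rfl fun φ _ => rfl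
  have hsnd : (s.map Prod.snd).sum = ((0 : ℤ), (0 : ℤ)) := by
    rw [hs, sum_map_bag]
    ext <;> simp only [hkey, Prod.fst_sum, Prod.snd_sum, nsmul_eq_mul, Prod.fst_mul, Prod.snd_mul,
      Prod.fst_natCast, Prod.snd_natCast]
    · rw [sum_coef_of_secSum L23 _ hm h23]
    · rw [sum_coef_of_secSum L11 _ hm h11]
  obtain ⟨z, hz, hzs⟩ := combos_complete _ s (by decide) hmem
  rw [hfst, hsnd, combos_alt23] at hz
  have hsupp : ∀ φ, m φ ≠ 0 → key φ ∈ z := fun φ h => by
    have : key φ ∈ s := mem_bag.2 ⟨φ, h, rfl⟩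
    rwa [← hzs, Multiset.mem_coe] at this
  have hcases : ∀ φ, m φ ≠ 0 → (deg φ = 253 ∧ z = [(253, 0, 0)]) ∨
      ((deg φ = 252 ∨ deg φ = 1) ∧ z = [(252, -22, -10), (1, 22, 10)]) := by
    intro φ h
    have h' := hsupp φ h
    simp only [List.mem_cons, List.not_mem_nil, or_false] at hz
    rcases hz with rfl | rfl <;>
      simp only [hkey, List.mem_cons, List.not_mem_nil, or_false, Prod.mk.injEq] at h'
    · rcases h' with h' | h'
      · exact Or.inr ⟨Or.inl h'.1, rfl⟩
      · exact Or.inr ⟨Or.inr h'.1, rfl⟩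
    · exact Or.inl ⟨h'.1, rfl⟩
  simp only [List.mem_cons, List.not_mem_nil, or_false] at hz
  rcases hz with rfl | rfl
  · obtain ⟨ψ, hψ⟩ := exists_deg hG hD (d := 252) (by decide +kernel)
    obtain ⟨one, hone⟩ := exists_deg hG hD (d := 1) (by decide +kernel)
    have hne : ψ ≠ one := fun e => by rw [e] at hψ; omega
    have hz0 : ∀ φ, φ ≠ ψ ∧ φ ≠ one → m φ = 0 := fun φ hφ => by
      by_contra h
      rcases hcases φ h with ⟨-, h'⟩ | ⟨h' | h', -⟩
      · simp at h'
      · exact hφ.1 (eq_of_deg hG hD (by decide +kernel) h' hψ)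
      · exact hφ.2 (eq_of_deg hG hD (by decide +kernel) h' hone)
    have hd2 : m ψ * 252 + m one * 1 = 253 := by
      rw [← hdeg, Finset.sum_eq_add ψ one hne (fun φ _ hφ => by rw [hz0 φ hφ, zero_mul])
        (fun h => absurd (Finset.mem_univ _) h) (fun h => absurd (Finset.mem_univ _) h), hψ, hone]
    have hcard : m ψ + m one = 2 := by
      have := card_bag m key
      rw [← hs, ← hzs, Finset.sum_eq_add ψ one hne (fun φ _ hφ => hz0 φ hφ)
        (fun h => absurd (Finset.mem_univ _) h) (fun h => absurd (Finset.mem_univ _) h)] at this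
      simpa using this.symm
    refine ⟨ψ, 1, Or.inr rfl, fun g => ?_⟩
    rw [congrFun hm g, Finset.sum_eq_add ψ one hne (fun φ _ hφ => by rw [hz0 φ hφ, Nat.cast_zero, zero_mul])
      (fun h => absurd (Finset.mem_univ _) h) (fun h => absurd (Finset.mem_univ _) h),
      show m ψ = 1 by omega, show m one = 1 by omega, congrFun (eq_one_of_deg hG hone) g]
    simp
  · obtain ⟨ψ, hψ⟩ := exists_deg hG hD (d := 253) (by decide +kernel)
    have hz0 : ∀ φ, φ ≠ ψ → m φ = 0 := fun φ hφ => by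
      by_contra h
      rcases hcases φ h with ⟨h', -⟩ | ⟨-, h'⟩
      · exact hφ (eq_of_deg hG hD (by decide +kernel) h' hψ)
      · simp at h'
    have hd1 : m ψ * 253 = 253 := by
      conv_rhs => rw [← hdeg, Finset.sum_eq_single ψ (fun φ _ hφ => by rw [hz0 φ hφ, zero_mul])
        (fun h => absurd (Finset.mem_univ _) h), hψ]
    refine ⟨ψ, 0, Or.inl rfl, fun g => ?_⟩
    rw [congrFun hm g, Finset.sum_eq_single ψ (fun φ _ hφ => by rw [hz0 φ hφ, Nat.cast_zero, zero_mul])
      (fun h => absurd (Finset.mem_univ _) h), show m ψ = 1 by omega]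
    simp

/-- The values on the sections at five and at seven. -/
theorem twenty_three_sections {χ : IrrCharacter G} (hχ : deg χ = 23) :
    (∀ u ∈ pNe L5, (χ : G → ℂ) u = 3) ∧
      (∀ u ∈ pNe L5, ∀ k : L5.K, orderOf k = 3 → (χ : G → ℂ) (u * k) = 0) ∧
      (∀ u ∈ pNe L7, (χ : G → ℂ) u = 2) ∧
      ∀ u ∈ pNe L7, ∀ k : L7.K, orderOf k = 3 → (χ : G → ℂ) (u * k) = -1 := by
  classical
  haveI := Fintype.ofFinite L5.K
  haveI := Fintype.ofFinite L7.K
  obtain ⟨he5, hK5, -, h35⟩ := hD.five L5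
  obtain ⟨he7, hK7, hnc⟩ := hD.seven L7
  have hc5 : L5.orbCard B5.T = 1 := by
    have := orbCard_mul_eO L5 B5.T
    rw [B5.eO_T, he5] at this
    omega
  have hc7 : L7.orbCard B7.T = 1 := by
    have := orbCard_mul_eO L7 B7.T
    rw [B7.eO_T, he7] at this
    omega
  have hd5 : Cfsg.charDegree ((Quotient.out B5.T : IrrCharacter L5.K) : L5.K → ℂ) = 3 := by
    have h := B5.phi_T
    rwa [ophi, hc5, one_mul] at h
  have hd7 : Cfsg.charDegree ((Quotient.out B7.T : IrrCharacter L7.K) : L7.K → ℂ) = 2 := by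
    have h := B7.phi_T
    rwa [ophi, hc7, one_mul] at h
  have hC5 : χ ∈ B5.WT.C := C_of_deg hG hD B5.WT B5.CT (by simp) (by decide +kernel) hχ
  have hC7 : χ ∈ B7.WT.C := C_of_deg hG hD B7.WT B7.CT (by simp) (by decide +kernel) hχ
  have v5 : ∀ u ∈ pNe L5, ∀ k : L5.K, (χ : G → ℂ) (u * k) =
      ((Quotient.out B5.T : IrrCharacter L5.K) : L5.K → ℂ) k := fun u hu k => by
    obtain ⟨a, ha, hv⟩ := value_const L5 hc5 B5.WT hC5 hu k
    have h := (B5.WT.res_C B5.phi_T (by norm_num) hC5).1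
    rw [ha, hχ, show rsgn 5 3 23 = 1 by decide] at h
    rw [hv, show a = 1 by norm_num at h; linarith, Int.cast_one, mul_one]
  have v7 : ∀ u ∈ pNe L7, ∀ k : L7.K, (χ : G → ℂ) (u * k) =
      ((Quotient.out B7.T : IrrCharacter L7.K) : L7.K → ℂ) k := fun u hu k => by
    obtain ⟨a, ha, hv⟩ := value_const L7 hc7 B7.WT hC7 hu k
    have h := (B7.WT.res_C B7.phi_T (by norm_num) hC7).1
    rw [ha, hχ, show rsgn 7 2 23 = 1 by decide] at h
    rw [hv, show a = 1 by norm_num at h; linarith, Int.cast_one, mul_one]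
  have hK5z : ∀ k : L5.K, orderOf k = 3 →
      ((Quotient.out B5.T : IrrCharacter L5.K) : L5.K → ℂ) k = 0 := fun k hk => by
    haveI : Fact (Nat.Prime 3) := ⟨by norm_num⟩
    refine InvolutionCount.char_eq_zero_of_dvd_orderOf _ (p := 3) ?_ (by rw [hk])
    rw [hd5, hK5, show (12 : ℕ).factorization 3 = 1 by
      rw [show (12 : ℕ) = 3 ^ 1 * 4 by norm_num, Nat.factorization_mul (by norm_num) (by norm_num),
        Finsupp.add_apply, Nat.Prime.factorization_pow (by norm_num), Finsupp.single_eq_same,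
        Nat.factorization_eq_zero_of_not_dvd (show ¬ 3 ∣ 4 by norm_num)], pow_one]
  have hK7z : ∀ k : L7.K, orderOf k = 3 →
      ((Quotient.out B7.T : IrrCharacter L7.K) : L7.K → ℂ) k = -1 := by
    intro k hk
    obtain ⟨h12, hone, htwo⟩ := degrees_six hK7 hnc
    have hk1 : k ≠ 1 := fun e => by rw [e, orderOf_one] at hk; omega
    have h := sum_degree_mul k
    rw [if_neg hk1, ← Finset.sum_filter_add_sum_filter_not Finset.univ
      (fun ψ : IrrCharacter L7.K => Cfsg.charDegree (ψ : L7.K → ℂ) = 1)] at h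
    have hlin : ∀ ψ : IrrCharacter L7.K, Cfsg.charDegree (ψ : L7.K → ℂ) = 1 →
        (ψ : L7.K → ℂ) 1 * (ψ : L7.K → ℂ) k = 1 := fun ψ hψ => by
      rw [← Blocks.charDegree_cast, hψ, Nat.cast_one, one_mul]
      by_cases he : ψ = oneK L7
      · rw [he, oneK_apply]
      · exact fixed_cube hG hD L23 L11 B7 B5 (fun j => (sign_facts L7 hK7 hnc hψ he j).1) hk
    have hT : Finset.univ.filter (fun ψ : IrrCharacter L7.K => ¬ Cfsg.charDegree (ψ : L7.K → ℂ) = 1) =
        {Quotient.out B7.T} := by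
      obtain ⟨τ, hτ⟩ := Finset.card_eq_one.1 htwo
      have hmem : (Quotient.out B7.T : IrrCharacter L7.K) ∈
          Finset.univ.filter fun ψ : IrrCharacter L7.K => Cfsg.charDegree (ψ : L7.K → ℂ) = 2 :=
        Finset.mem_filter.2 ⟨Finset.mem_univ _, hd7⟩
      rw [hτ, Finset.mem_singleton] at hmem
      rw [hmem, ← hτ]
      refine Finset.filter_congr fun ψ _ => ?_
      rcases h12 ψ with e | e <;> simp [e]
    rw [Finset.sum_congr rfl fun ψ hψ => hlin ψ (Finset.mem_filter.1 hψ).2, hT, Finset.sum_singleton,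
      Finset.sum_const, hone, ← Blocks.charDegree_cast, hd7, nsmul_eq_mul] at h
    push_cast at h
    linear_combination h / 2
  refine ⟨fun u hu => ?_, fun u hu k hk => by rw [v5 u hu k, hK5z k hk], fun u hu => ?_,
    fun u hu k hk => by rw [v7 u hu k, hK7z k hk]⟩
  · have h := v5 u hu 1
    rw [OneMemClass.coe_one, mul_one, ← Blocks.charDegree_cast, hd5] at h
    rw [h]; norm_num
  · have h := v7 u hu 1
    rw [OneMemClass.coe_one, mul_one, ← Blocks.charDegree_cast, hd7] at h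
    rw [h]; norm_num

/-- The value at the elements of order three is five or minus one. -/
theorem three_value {χ : IrrCharacter G} (hχ : deg χ = 23) {g : G} (hg : orderOf g = 3) :
    (χ : G → ℂ) g = 5 ∨ (χ : G → ℂ) g = -1 := by
  classical
  obtain ⟨z₅, z₇, hz5, hz7, hr5, hr7, c5, c7, hall⟩ := three_classes hG hD L23 L11 B7 B5
  obtain ⟨hu5, hk5, hu7, hk7⟩ := twenty_three_sections hG hD L23 L11 B7 B5 hχ
  obtain ⟨ψ, d, hd, halt⟩ := alt_twenty_three hG hD L23 L11 B7 B5 hχ
  have hbound : ∀ z : G, orderOf z = 3 → IsConj z z⁻¹ → ∀ x : ℤ, (χ : G → ℂ) z = x →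
      ∃ v : ℤ, 2 * v = x * x - x - 2 * d ∧
        v * v ≤ (Nat.card (Subgroup.centralizer ({z} : Set G)) : ℤ) := by
    intro z hz hr x hx
    have hzz : z * z = z⁻¹ := eq_inv_of_mul_eq_one_left (by
      rw [← pow_two, ← pow_succ]; exact orderOf_dvd_iff_pow_eq_one.1 (by rw [hz]))
    have h := halt z
    simp only [thAlt, hzz, hx, (classFunction_isConj (isClassFunction_of_isIrr χ.2) hr).symm.trans hx] at h
    obtain ⟨v, hv⟩ := exists_int_three (isCharacter_of_isIrr ψ.2) hz hr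
    refine ⟨v, ?_, sq_le_centralizer hv⟩
    rw [hv] at h
    apply Int.cast_injective (α := ℂ)
    push_cast
    linear_combination -2 * h
  obtain ⟨x5, hx5⟩ := exists_int_value hG hD hχ (z₅ : G)
  obtain ⟨x7, hx7⟩ := exists_int_value hG hD hχ (z₇ : G)
  have hx5' : (χ : G → ℂ) (z₅ : G)⁻¹ = x5 :=
    (classFunction_isConj (isClassFunction_of_isIrr χ.2) hr5).symm.trans hx5
  have hx7' : (χ : G → ℂ) (z₇ : G)⁻¹ = x7 :=
    (classFunction_isConj (isClassFunction_of_isIrr χ.2) hr7).symm.trans hx7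
  have h15 : (3 * 5 : ℤ) ∣ 23 + 2 * x5 + 12 + 2 * 0 := by
    have h := three_congr L5 hz5 (A := 12) (B := 0) hx5 hx5'
      (by rw [Finset.sum_congr rfl hu5, Finset.sum_const, card_pNe L5]; norm_num)
      (by rw [Int.cast_zero]; exact Finset.sum_eq_zero fun u hu => hk5 u hu z₅ hz5)
      (by
        rw [Int.cast_zero]
        refine Finset.sum_eq_zero fun u hu => ?_
        rw [← InvMemClass.coe_inv]
        exact hk5 u hu _ (by rw [orderOf_inv, hz5]))
    rwa [show Cfsg.charDegree (χ : G → ℂ) = 23 from hχ] at h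
  have h21 : (3 * 7 : ℤ) ∣ 23 + 2 * x7 + 12 + 2 * -6 := by
    have hB : ∀ k : L7.K, orderOf k = 3 → ∑ u ∈ pNe L7, (χ : G → ℂ) (u * k) = ((-6 : ℤ) : ℂ) :=
      fun k hk => by
        rw [Finset.sum_congr rfl fun u hu => hk7 u hu k hk, Finset.sum_const, card_pNe L7]
        norm_num
    have hB' := hB z₇⁻¹ (by rw [orderOf_inv, hz7])
    rw [InvMemClass.coe_inv] at hB'
    have h := three_congr L7 hz7 (A := 12) hx7 hx7'
      (by rw [Finset.sum_congr rfl hu7, Finset.sum_const, card_pNe L7]; norm_num) (hB z₇ hz7) hB'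
    rwa [show Cfsg.charDegree (χ : G → ℂ) = 23 from hχ] at h
  have o5 : orderOf (z₅ : G) = 3 := by rw [Subgroup.orderOf_coe, hz5]
  have o7 : orderOf (z₇ : G) = 3 := by rw [Subgroup.orderOf_coe, hz7]
  obtain ⟨v5, hv5, hb5⟩ := hbound _ o5 hr5 x5 hx5
  obtain ⟨v7, hv7, hb7⟩ := hbound _ o7 hr7 x7 hx7
  rw [c5] at hb5
  rw [c7] at hb7
  norm_num at hb5 hb7
  have hx5v : x5 = 5 := by
    have h1 : v5 ≤ 32 := by nlinarith [sq_nonneg (v5 - 33)]
    have h2 : -9 < x5 := by
      by_contra hcon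
      rcases hd with rfl | rfl <;>
        nlinarith [mul_nonneg (show (0 : ℤ) ≤ -9 - x5 by omega) (show (0 : ℤ) ≤ -x5 by omega)]
    have h3 : x5 < 10 := by
      by_contra hcon
      rcases hd with rfl | rfl <;>
        nlinarith [mul_nonneg (show (0 : ℤ) ≤ x5 - 10 by omega) (show (0 : ℤ) ≤ x5 by omega)]
    omega
  have hx7v : x7 = -1 := by
    have h1 : v7 ≤ 22 := by nlinarith [sq_nonneg (v7 - 23)]
    have h2 : -9 < x7 := by
      by_contra hcon
      rcases hd with rfl | rfl <;>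
        nlinarith [mul_nonneg (show (0 : ℤ) ≤ -9 - x7 by omega) (show (0 : ℤ) ≤ -x7 by omega)]
    have h3 : x7 < 10 := by
      by_contra hcon
      rcases hd with rfl | rfl <;>
        nlinarith [mul_nonneg (show (0 : ℤ) ≤ x7 - 10 by omega) (show (0 : ℤ) ≤ x7 by omega)]
    omega
  rcases hall g hg with h | h
  · exact Or.inl (by rw [classFunction_isConj (isClassFunction_of_isIrr χ.2) h, hx5, hx5v]; norm_num)
  · exact Or.inr (by rw [classFunction_isConj (isClassFunction_of_isIrr χ.2) h, hx7, hx7v]; norm_num)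

/-- The odd values. -/
theorem odd_value {χ : IrrCharacter G} (hχ : deg χ = 23) {g : G} (hodd : Odd (orderOf g))
    (hr : IsConj g g⁻¹) : ∃ z : ℤ, (χ : G → ℂ) g = 2 * (z : ℂ) + 1 := by
  classical
  obtain ⟨e23, -⟩ := hD.twenty_three L23
  obtain ⟨e11, K11⟩ := hD.eleven L11
  obtain ⟨he7, -, -⟩ := hD.seven L7
  obtain ⟨he5, hK5, -, h35⟩ := hD.five L5
  have h23 : ¬ 23 ∣ orderOf g := fun h =>
    MTwentyThreeUnique.not_real_of_odd L23 (by norm_num) (by rw [e23]) h hr
  have h7 : ¬ 7 ∣ orderOf g := fun h =>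
    MTwentyThreeUnique.not_real_of_odd L7 (by norm_num) (by rw [he7]) h hr
  by_cases h11 : 11 ∣ orderOf g
  · obtain ⟨c, hc⟩ := L11.exists_conj_centralizer h11
    obtain ⟨u, hu, k, hk, huk⟩ := L11.decomp _ hc
    have hk1 : k = 1 := Subgroup.mem_bot.1 (K11 ▸ hk : k ∈ (⊥ : Subgroup G))
    have hgc : IsConj g u := isConj_iff.2 ⟨c, by rw [huk, hk1, mul_one]⟩
    have hu1 : u ≠ 1 := fun e => by
      rw [e] at hgc
      have hg1 : g = 1 := isConj_one_left.1 hgc
      rw [hg1, orderOf_one] at h11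
      norm_num at h11
    refine ⟨0, ?_⟩
    rw [classFunction_isConj (isClassFunction_of_isIrr χ.2) hgc,
      value_bot L11 K11 (χ := χ) (v := 1) (by rw [hχ]; norm_num)
        (by rw [osv_eleven hG hD, hχ]; rfl) (by rw [e11]; norm_num) ((mem_pNe L11).2 ⟨hu, hu1⟩)]
    norm_num
  have hdvd : orderOf g ∣ 5 * 27 := by
    have h := orderOf_dvd_natCard g
    rw [hG, show (244823040 : ℕ) = 2 ^ 10 * (7 * (11 * (23 * (5 * 27)))) by norm_num] at h
    have c2 : Nat.Coprime (orderOf g) (2 ^ 10) := ((Nat.coprime_two_right).2 hodd).pow_right 10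
    have hc : ∀ p : ℕ, p.Prime → ¬ p ∣ orderOf g → Nat.Coprime (orderOf g) p := fun p hp hn =>
      (hp.coprime_iff_not_dvd.2 hn).symm
    exact (hc 23 (by norm_num) h23).dvd_of_dvd_mul_left
      ((hc 11 (by norm_num) h11).dvd_of_dvd_mul_left
        ((hc 7 (by norm_num) h7).dvd_of_dvd_mul_left (c2.dvd_of_dvd_mul_left h)))
  have h9 : ¬ 9 ∣ orderOf g := fun h => by
    refine hD.orderOf_ne_nine (g ^ (orderOf g / 9)) ?_
    rw [orderOf_pow_of_dvd (Nat.div_pos (Nat.le_of_dvd (orderOf_pos g) h) (by norm_num)).ne'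
      (Nat.div_dvd_of_dvd h), Nat.div_div_self h (orderOf_pos g).ne']
  have hlist : ∀ d ∈ Nat.divisors (5 * 27), d = 1 ∨ d = 3 ∨ d = 5 ∨ d = 15 ∨ 9 ∣ d := by decide
  rcases hlist _ (Nat.mem_divisors.2 ⟨hdvd, by norm_num⟩) with h | h | h | h | h
  · refine ⟨11, ?_⟩
    rw [orderOf_eq_one_iff.1 h, ← Blocks.charDegree_cast,
      show Cfsg.charDegree (χ : G → ℂ) = 23 from hχ]
    norm_num
  · rcases three_value hG hD L23 L11 B7 B5 hχ h with e | e
    · exact ⟨2, by rw [e]; norm_num⟩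
    · exact ⟨-1, by rw [e]; norm_num⟩
  all_goals try exact absurd h h9
  all_goals
    obtain ⟨c, hc⟩ := L5.exists_conj_centralizer (g := g) (by rw [h] <;> norm_num)
    obtain ⟨u, hu, k, hk, huk⟩ := L5.decomp _ hc
    have hgc : IsConj g (u * k) := huk ▸ isConj_iff.2 ⟨c, rfl⟩
    have hgc' : IsConj g⁻¹ (u * k)⁻¹ := huk ▸ isConj_iff.2 ⟨c, by group⟩
    have hgo : orderOf (u * k) = orderOf g := by
      rw [← huk]; exact (MulAut.conj c).orderOf_eq g
    have hu1 : u ≠ 1 := (L5.dvd_orderOf_iff hu hk).1 (by rw [hgo, h] <;> norm_num)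
    have hu' : u ∈ pNe L5 := (mem_pNe L5).2 ⟨hu, hu1⟩
    have hk3 : k ^ 3 = 1 := by
      have hcop : Nat.Coprime (orderOf u) (orderOf k) := by
        rw [L5.orderOf_of_mem hu hu1]
        exact (show Nat.Prime 5 by norm_num).coprime_iff_not_dvd.2 (L5.not_dvd_orderOf hk)
      rw [(L5.commute hu hk).orderOf_mul_eq_mul_orderOf_of_coprime hcop, L5.orderOf_of_mem hu hu1,
        h] at hgo
      have h13 : orderOf k = 1 ∨ orderOf k = 3 := by omega
      refine orderOf_dvd_iff_pow_eq_one.1 ?_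
      rcases h13 with e | e <;> rw [e]; norm_num
    have hk1 : k = 1 := by
      by_contra hne
      have ho : orderOf (⟨k, hk⟩ : L5.K) = 3 := by
        rw [Subgroup.orderOf_mk]
        exact ((Nat.dvd_prime (by norm_num)).1 (orderOf_dvd_of_pow_eq_one hk3)).resolve_left
          fun e => hne (orderOf_eq_one_iff.1 e)
      exact real_five L5 he5 hK5 h35 B5.ne_A B5.phi_A B5.eO_A hu' ho
        ((hgc.symm.trans hr).trans hgc')
    refine ⟨1, ?_⟩
    rw [classFunction_isConj (isClassFunction_of_isIrr χ.2) hgc, hk1, mul_one,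
      (twenty_three_sections hG hD L23 L11 B7 B5 hχ).1 u hu']
    norm_num

end CfsgLib.MTwentyFourUnique
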