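import Cfsg.Agent.MTwentyFourUnique.Values
import Cfsg.Agent.MTwentyFourUnique.Conjugate

/-!
The values on the sections of a Sylow subgroup of prime order, and the pairing of class functions
with the chosen characters of the orbits.
-/

set_option autoImplicit false
set_option linter.style.haveILetI false
set_option linter.unusedSectionVars false
set_option maxHeartbeats 400000

open Cfsg CfsgLib.Characters CfsgLib.DefectOne CfsgLib.BrauerOrderP
open CfsgLib.MTwentyThreeUnique (pNe mem_pNe card_pNe)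
open scoped ComplexConjugate

namespace CfsgLib.MTwentyFourUnique

universe u

variable {G : Type u} [Group G] [Fintype G] {p : ℕ} [Fact p.Prime] (L : Local p G)

/-- The pairing of a function with the chosen character of an orbit on the sections. -/
noncomputable def secSum [Fintype L.K] (O : L.Orb) (θ : G → ℂ) : ℂ :=
  ∑ u ∈ pNe L, ∑ k : L.K, θ (u * k) * conj (((Quotient.out O : IrrCharacter L.K) : L.K → ℂ) k)

theorem secSum_irr [Fintype L.K] (O : L.Orb) (χ : IrrCharacter G) :
    secSum L O (χ : G → ℂ) = (Nat.card L.K : ℂ) * (osv L O χ : ℂ) := proj L O χ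

theorem secSum_sum [Fintype L.K] (O : L.Orb) (m : IrrCharacter G → ℕ) :
    secSum L O (fun g => ∑ χ : IrrCharacter G, (m χ : ℂ) * (χ : G → ℂ) g) =
      (Nat.card L.K : ℂ) * ((∑ χ : IrrCharacter G, (m χ : ℤ) * osv L O χ : ℤ) : ℂ) := by
  simp only [secSum, Finset.sum_mul]
  rw [Int.cast_sum, Finset.mul_sum, Finset.sum_congr rfl fun u _ => Finset.sum_comm, Finset.sum_comm]
  refine Finset.sum_congr rfl fun χ _ => ?_
  rw [Int.cast_mul, Int.cast_natCast, mul_left_comm, ← secSum_irr L O χ, secSum, Finset.mul_sum]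
  refine Finset.sum_congr rfl fun u _ => ?_
  rw [Finset.mul_sum]
  exact Finset.sum_congr rfl fun k _ => mul_assoc _ _ _

/-- A function which does not depend on the coordinate in `K`. -/
theorem secSum_indep [Fintype L.K] (O : L.Orb) [Decidable (O = O0 L)] {θ : G → ℂ} (F : G → ℂ)
    (h : ∀ u ∈ pNe L, ∀ k : L.K, θ (u * k) = F u) :
    secSum L O θ = if O = O0 L then (Nat.card L.K : ℂ) * ∑ u ∈ pNe L, F u else 0 := by
  classical
  rw [secSum, Finset.sum_congr rfl (g := fun u => F u *
    ∑ k : L.K, conj (((Quotient.out O : IrrCharacter L.K) : L.K → ℂ) k))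
    fun u hu => by rw [Finset.mul_sum]; exact Finset.sum_congr rfl fun k _ => by rw [h u hu k],
    ← Finset.sum_mul]
  split_ifs with hO
  · subst hO
    have h3 : ∑ k : L.K, conj (((Quotient.out (O0 L) : IrrCharacter L.K) : L.K → ℂ) k) =
        (Nat.card L.K : ℂ) := by
      rw [out_O0]
      simp [oneK_apply, Nat.card_eq_fintype_card]
    rw [h3, mul_comm]
  · have h2 := classInner_isIrr_ne (oneK L).2 (Quotient.out O : IrrCharacter L.K).2 fun e => hO ((Quotient.out_eq O).symm.trans
      (congrArg L.orb (Subtype.ext e).symm))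
    rw [Cfsg.classInner] at h2
    simp only [oneK_apply, one_mul] at h2
    rw [(mul_eq_zero.1 h2).resolve_left (inv_ne_zero natCard_ne_zero), mul_zero]

/-- The value when the orbit is a single character. -/
theorem value_single [Fintype L.Lam] {O : L.Orb} (h1 : L.orbCard O = 1) {χ : IrrCharacter G}
    (hχ : χ ∈ ob L O) {u : ↥(L.P : Subgroup G)} (hu : u ≠ 1) (k : L.K) :
    (χ : G → ℂ) ((u : G) * k) = ((Quotient.out O : IrrCharacter L.K) : L.K → ℂ) k *
      -∑ l : L.Lam, (L.cint χ (L.colLam O l).1 : ℂ) * (l.1 u : ℂ) := by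
  classical
  haveI := Fintype.ofFinite L.K
  rw [value_general L χ hu k, Finset.sum_eq_single (Quotient.out O : IrrCharacter L.K), mul_neg]
  · congr 2
    exact Finset.sum_congr rfl fun l _ => by rw [L.cint_colLam]
  · intro φ _ hne
    refine mul_eq_zero_of_right _ (Finset.sum_eq_zero fun l _ => mul_eq_zero_of_left ?_ _)
    rw [← L.cint_col]
    obtain ⟨q, hq⟩ := (mem_ob L O).1 hχ
    by_contra hne0
    have horb : L.orb φ = O :=
      (L.counting.2.2.2 χ (L.col (l, φ)) _ (fun e => hne0 (by rw [e, Int.cast_zero])) hq).trans q.2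
    haveI := (Nat.card_eq_one_iff_unique.1 h1).1
    exact hne (congrArg Subtype.val
      (Subsingleton.elim (⟨φ, horb⟩ : {ψ // L.orb ψ = O}) ⟨_, Quotient.out_eq O⟩))
  · exact fun h => absurd (Finset.mem_univ _) h

/-- The values vanish on the sections for a degree divisible by `p`. -/
theorem value_zero {χ : IrrCharacter G} (h : p ∣ Cfsg.charDegree (χ : G → ℂ)) {u : G}
    (hu : u ∈ pNe L) {k : G} (hk : k ∈ L.K) : (χ : G → ℂ) (u * k) = 0 := by
  classical
  haveI := L.finite_lam
  letI := Fintype.ofFinite L.Lam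
  haveI := Fintype.ofFinite L.K
  obtain ⟨hu', hu1⟩ := (mem_pNe L).1 hu
  have hv : (⟨u, hu'⟩ : (L.P : Subgroup G)) ≠ 1 := fun e => hu1 (congrArg Subtype.val e)
  refine (value_general L χ hv ⟨k, hk⟩).trans (neg_eq_zero.2 ?_)
  refine Finset.sum_eq_zero fun φ _ => mul_eq_zero_of_right _
    (Finset.sum_eq_zero fun l _ => mul_eq_zero_of_left ?_ _)
  rw [← L.cint_col]
  by_contra hne
  exact (L.counting.2.1 χ).2 ⟨_, fun e => hne (by rw [e, Int.cast_zero])⟩ h

/-- The value at `u * k` is the character of `K` times the value at `u`. -/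
theorem value_mul [Fintype L.Lam] {O : L.Orb} (h1 : L.orbCard O = 1)
    (hd : ((Quotient.out O : IrrCharacter L.K) : L.K → ℂ) 1 = 1) {χ : IrrCharacter G}
    (hχ : χ ∈ ob L O) {u : G} (hu : u ∈ pNe L) (k : L.K) :
    (χ : G → ℂ) (u * k) = ((Quotient.out O : IrrCharacter L.K) : L.K → ℂ) k * (χ : G → ℂ) u := by
  obtain ⟨hu', hu1⟩ := (mem_pNe L).1 hu
  have hv : (⟨u, hu'⟩ : (L.P : Subgroup G)) ≠ 1 := fun e => hu1 (congrArg Subtype.val e)
  have h2 := value_single L h1 hχ hv (1 : L.K)
  rw [hd, one_mul, OneMemClass.coe_one, mul_one] at h2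
  rw [show u = ((⟨u, hu'⟩ : (L.P : Subgroup G)) : G) from rfl, value_single L h1 hχ hv k, h2]

/-- A constant row. -/
theorem exists_const {O : L.Orb} (S : OShape L O) {χ : IrrCharacter G} (h : χ ∈ S.C) :
    ∃ a : ℤ, (∀ q : L.ColOver O, L.cint χ q.1 = a) ∧ osv L O χ = ((p : ℤ) - 1) * a := by
  classical
  haveI := L.finite_lam
  letI := Fintype.ofFinite L.Lam
  haveI := L.finite_col
  haveI := Fintype.ofFinite (L.ColOver O)
  have hob : χ ∈ ob L O := by rw [S.ob_eq]; exact Finset.mem_disjUnion.2 (Or.inl h)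
  have key : ∀ a : ℤ, (∀ q : L.ColOver O, L.cint χ q.1 = a) → osv L O χ = ((p : ℤ) - 1) * a := fun a ha => by
    rw [osv_eq, Finset.sum_congr rfl (g := fun _ => a) fun l _ => ha _, Finset.sum_const,
      Finset.card_univ, ← Nat.card_eq_fintype_card, L.card_lam, nsmul_eq_mul,
      Nat.cast_sub (Fact.out : p.Prime).one_le, Nat.cast_one]
  rcases L.rows O χ ((mem_ob L O).1 hob) with ⟨a, -, hc⟩ | ⟨q₀, a, ha, hc⟩
  · exact ⟨a, hc, key a hc⟩
  by_cases ht : ∀ q, q = q₀
  · exact ⟨a, fun q => by rw [hc, if_pos (ht q)], key a fun q => by rw [hc, if_pos (ht q)]⟩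
  exfalso
  push Not at ht
  obtain ⟨q₁, hq₁⟩ := ht
  have hunit : L.IsUnitRow O χ q₀ := ⟨by
    rw [hc, if_pos rfl]; rcases ha with r | r <;> rw [r] <;> norm_num, fun q hq => by rw [hc, if_neg hq]⟩
  have hv : osv L O χ = (L.eO O : ℤ) * a := by
    rw [osv_eq, L.sum_unitRow O χ q₀ hunit, hc, if_pos rfl]
  have h2 : 2 ≤ Nat.card (L.ColOver O) := by
    rw [Nat.card_eq_fintype_card]
    exact Fintype.one_lt_card_iff.2 ⟨q₁, q₀, hq₁⟩
  have h3 := L.card_colOver_mul O
  have h4 := L.eO_pos O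
  have h5 : 2 * L.eO O ≤ p - 1 := h3 ▸ Nat.mul_le_mul_right _ h2
  have := S.sv_C χ h
  rw [hv] at this
  rcases ha with r | r <;> rw [r] at this <;> omega

/-- The value of a constant row. -/
theorem value_const [Fintype L.K] {O : L.Orb} (h1 : L.orbCard O = 1) (S : OShape L O)
    {χ : IrrCharacter G} (h : χ ∈ S.C) {u : G} (hu : u ∈ pNe L) (k : L.K) :
    ∃ a : ℤ, osv L O χ = ((p : ℤ) - 1) * a ∧
      (χ : G → ℂ) (u * k) = ((Quotient.out O : IrrCharacter L.K) : L.K → ℂ) k * a := by
  classical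
  haveI := L.finite_lam
  letI := Fintype.ofFinite L.Lam
  obtain ⟨hu', hu1⟩ := (mem_pNe L).1 hu
  have hv : (⟨u, hu'⟩ : (L.P : Subgroup G)) ≠ 1 := fun e => hu1 (congrArg Subtype.val e)
  obtain ⟨a, ha, hs⟩ := exists_const L S h
  refine ⟨a, hs, ?_⟩
  have hob : χ ∈ ob L O := by rw [S.ob_eq]; exact Finset.mem_disjUnion.2 (Or.inl h)
  refine (value_single L h1 hob hv k).trans (congrArg _ ?_)
  simp only [ha]
  rw [← Finset.mul_sum, sum_lam L hv]
  simp

/-- The squares of the absolute values of an exceptional row on the Sylow subgroup. -/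
theorem norm_sum_exc [Fintype L.Lam] {O : L.Orb} (h1 : L.orbCard O = 1)
    (hd : ((Quotient.out O : IrrCharacter L.K) : L.K → ℂ) 1 = 1) (S : OShape L O)
    (ht : 1 < Nat.card (L.ColOver O)) {χ : IrrCharacter G} (h : χ ∈ S.E) :
    ∑ u ∈ pNe L, (χ : G → ℂ) u * conj ((χ : G → ℂ) u) =
      ((p * L.eO O : ℕ) : ℂ) - ((L.eO O * L.eO O : ℕ) : ℂ) := by
  classical
  haveI := L.finite_col
  haveI := Fintype.ofFinite (L.ColOver O)
  haveI := L.isMulCommutative
  haveI := Fintype.ofFinite (L.P : Subgroup G)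
  haveI : Finite (↥(L.P : Subgroup G) →* ℂˣ) := BlocksFrobenius.finite_dual
  have hob : χ ∈ ob L O := by rw [S.ob_eq]; exact Finset.mem_disjUnion.2 (Or.inr h)
  obtain ⟨q₀, a, ha, hc⟩ : ∃ q₀ : L.ColOver O, ∃ a : ℤ, (a = 1 ∨ a = -1) ∧
      ∀ q, L.cint χ q.1 = if q = q₀ then a else 0 := by
    rcases L.rows O χ ((mem_ob L O).1 hob) with ⟨a, ha, hc⟩ | h'
    · exfalso
      have hv : osv L O χ = ((p : ℤ) - 1) * a := by
        rw [osv_eq, Finset.sum_congr rfl (g := fun _ => a) fun l _ => hc _, Finset.sum_const,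
          Finset.card_univ, ← Nat.card_eq_fintype_card, L.card_lam, nsmul_eq_mul,
          Nat.cast_sub (Fact.out : p.Prime).one_le, Nat.cast_one]
      rw [S.sv_E χ h] at hv
      have h3 := L.card_colOver_mul O
      have h4 := L.eO_pos O
      have h5 : 2 * L.eO O ≤ p - 1 := h3 ▸ Nat.mul_le_mul_right _ ht
      rcases S.a_unit with r | r <;> rw [r] at hv <;> rcases ha with r' | r' <;> rw [r'] at hv <;> omega
    · exact h'
  have hsum : osv L O χ = (L.eO O : ℤ) * a := by
    rw [osv_eq, L.sum_unitRow O χ q₀ ⟨by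
      rw [hc, if_pos rfl]; rcases ha with r | r <;> rw [r] <;> norm_num, fun q hq => by rw [hc, if_neg hq]⟩,
      hc, if_pos rfl]
  set c : L.Lam → ℤ := fun l => L.cint χ (L.colLam O l).1 with hcdef
  have haa : (a : ℤ) * a = 1 := by rcases ha with r | r <;> rw [r] <;> norm_num
  have hcc : ∑ l, c l * c l = L.eO O := by
    have hterm : ∀ l, c l * c l = a * c l := fun l => by
      simp only [hcdef, hc]; split_ifs <;> simp
    rw [Finset.sum_congr rfl fun l _ => hterm l, ← Finset.mul_sum, ← osv_eq, hsum, mul_left_comm, haa,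
      mul_one]
  set F : ↥(L.P : Subgroup G) → ℂ := fun u => ∑ l : L.Lam, (c l : ℂ) * (l.1 u : ℂ) with hF
  have horth : ∀ l l' : L.Lam, ∑ u : (L.P : Subgroup G), (l.1 u : ℂ) * conj (l'.1 u : ℂ) =
      if l = l' then (p : ℂ) else 0 := by
    intro l l'
    simp only [BlocksFrobenius.conj_apply]
    split_ifs with hll
    · subst hll
      simp only [← Units.val_mul, ← MonoidHom.mul_apply, mul_inv_cancel, MonoidHom.one_apply,
        Units.val_one, Finset.sum_const, Finset.card_univ, ← Nat.card_eq_fintype_card, L.card_P,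
        nsmul_eq_mul, mul_one]
    · have h5 := sum_hom_units_eq_zero ((Units.coeHom ℂ).comp (l.1 * l'.1⁻¹)) fun he => hll
        (Subtype.ext (mul_inv_eq_one.1 (MonoidHom.ext fun v => Units.ext (DFunLike.congr_fun he v))))
      simpa using h5
  have htot : ∑ u : (L.P : Subgroup G), F u * conj (F u) = ((p * L.eO O : ℕ) : ℂ) := by
    simp only [hF, map_sum, map_mul, map_intCast, Finset.sum_mul, Finset.mul_sum]
    rw [Finset.sum_comm, Finset.sum_congr rfl fun l _ => Finset.sum_comm]
    rw [Finset.sum_congr rfl (g := fun l => (p : ℂ) * ((c l * c l : ℤ) : ℂ)) fun l _ => ?_]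
    · rw [← Finset.mul_sum, ← Int.cast_sum, hcc]; push_cast; ring
    · rw [Finset.sum_eq_single l]
      · rw [Finset.sum_congr rfl (g := fun u => ((c l : ℂ) * c l) * ((l.1 u : ℂ) * conj (l.1 u : ℂ)))
          fun u _ => by ring, ← Finset.mul_sum, horth, if_pos rfl]
        push_cast; ring
      · intro l' _ hne
        rw [Finset.sum_congr rfl (g := fun u => ((c l : ℂ) * c l') * ((l'.1 u : ℂ) * conj (l.1 u : ℂ)))
          fun u _ => by ring, ← Finset.mul_sum, horth, if_neg hne, mul_zero]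
      · exact fun hh => absurd (Finset.mem_univ _) hh
  rw [sum_pNe_eq L (fun u => (χ : G → ℂ) u * conj ((χ : G → ℂ) u)),
    Finset.sum_congr rfl (g := fun v => F v * conj (F v)) fun v hv => ?_,
    Finset.sum_erase_eq_sub (Finset.mem_univ _), htot]
  · congr 1
    have h1' : F 1 = ((L.eO O : ℤ) * a : ℤ) := by
      simp only [hF, map_one, Units.val_one, mul_one]
      rw [← Int.cast_sum, ← osv_eq, hsum]
    have haa' : (a : ℂ) * a = 1 := by exact_mod_cast haa
    rw [h1', map_intCast]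
    push_cast
    linear_combination ((L.eO O : ℂ) * (L.eO O : ℂ)) * haa'
  · have h2 := value_single L h1 hob (Finset.ne_of_mem_erase hv) (1 : L.K)
    rw [hd, one_mul, OneMemClass.coe_one, mul_one] at h2
    rw [h2]
    simp [hF, hcdef]

end CfsgLib.MTwentyFourUnique
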