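import Cfsg.Agent.MTwentyFourUnique.Blocks
import Cfsg.Agent.MTwentyFourUnique.Sections
import Cfsg.Agent.MTwentyFourUnique.Combos

/-!
The rows of invariants of the characters of degree at most 2024, and the uniqueness of some
combinations of them.
-/

set_option autoImplicit false
set_option linter.style.haveILetI false
set_option linter.unusedSectionVars false
set_option maxHeartbeats 400000
set_option synthInstance.maxSize 1024
set_option synthInstance.maxHeartbeats 100000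

open Cfsg CfsgLib.Characters CfsgLib.DefectOne CfsgLib.BrauerOrderP

namespace CfsgLib.MTwentyFourUnique

universe u

/-- The six invariants. -/
abbrev V6 : Type := ℤ × ℤ × ℤ × ℤ × ℤ × ℤ

/-- The sums at the principal orbit at 5. -/
def fFive (d : ℕ) : ℤ := if [1, 1771, 2024, 5544, 5796].contains d then 4 * rsgn 5 1 d else 0

/-- The possible sums at the three orbits at 7. -/
def sevenTab : List (ℕ × ℤ × ℤ × ℤ) :=
  [(1, 6, 0, 0), (1035, -6, 0, 0), (2024, 6, 0, 0), (990, -3, 0, 0), (253, 0, 6, 0),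
    (3312, 0, 6, 0), (3520, 0, -6, 0), (45, 0, -3, 0), (23, 0, 0, 6), (1265, 0, 0, -6),
    (2277, 0, 0, 6), (1035, 0, 0, -3)]

/-- The rows of degree between 2 and 2024, largest first. -/
def rowTab : List (ℕ × V6) :=
  [(2024, 0, 0, 6, 0, 0, -4), (1771, 0, 0, 0, 0, 0, 4), (1265, 0, 0, 0, 0, -6, 0),
    (1035, 0, 10, -6, 0, 0, 0), (1035, 0, 10, 0, 0, -3, 0), (990, 22, 0, -3, 0, 0, 0),
    (770, -11, 0, 0, 0, 0, 0), (483, 0, -10, 0, 0, 0, 0), (253, 0, 0, 0, 6, 0, 0),
    (252, -22, -10, 0, 0, 0, 0), (231, 22, 0, 0, 0, 0, 0), (45, -22, 10, 0, -3, 0, 0),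
    (23, 0, 10, 0, 0, 6, 0)]

/-- The options at 7 for a degree. -/
def sevenOpts (d : ℕ) : List (ℤ × ℤ × ℤ) :=
  (if d % 7 == 0 then [(0, 0, 0)] else []) ++ ((sevenTab.filter fun x => x.1 == d).map Prod.snd)

theorem rows_check : (trueDegs.all fun d => decide (d < 2) || decide (2024 < d) ||
    (sevenOpts d).all fun o =>
      rowTab.contains (d, fTwentyThree d, 10 * sgnEleven d, o.1, o.2.1, o.2.2, fFive d)) = true := by
  decide +kernel

theorem combos_bar : combos rowTab 2024 ((0, 0, 6, 0, 0, -4) : V6) =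
    [[(2024, ((0, 0, 6, 0, 0, -4) : V6))]] := by
  decide +kernel

theorem combos_alt : combos (rowTab.filter fun x => x.1 ≤ 990) 990 ((22, 0, -3, 0, 0, 0) : V6) =
    [[(990, ((22, 0, -3, 0, 0, 0) : V6))]] := by
  decide +kernel

theorem combos_alt23 :
    combos [(253, ((0 : ℤ), (0 : ℤ))), (252, -22, -10), (231, 22, 0), (45, -22, 10), (23, 0, 10), (1, 22, 10)]
      253 ((0 : ℤ), (0 : ℤ)) = [[(252, -22, -10), (1, 22, 10)], [(253, 0, 0)]] := by
  decide +kernel

theorem rows23_check : (trueDegs.all fun d => decide (253 < d) ||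
    [(253, ((0 : ℤ), (0 : ℤ))), (252, -22, -10), (231, 22, 0), (45, -22, 10), (23, 0, 10), (1, 22, 10)].contains
      (d, fTwentyThree d, 10 * sgnEleven d)) = true := by
  decide +kernel

variable {G : Type u} [Group G] [Fintype G] [IsSimpleGroup G] (hG : Nat.card G = 244823040)
  (hD : LocalData G)
include hG hD

theorem deg_mem_trueDegs (χ : IrrCharacter G) : deg χ ∈ trueDegs := by
  have h : deg χ ∈ degs G := Multiset.mem_map_of_mem _ (Finset.mem_univ_val χ)
  rwa [degs_eq hG hD, Multiset.mem_coe] at h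

variable [Fact (Nat.Prime 7)] [Fact (Nat.Prime 5)] {L7 : Local 7 G} {L5 : Local 5 G}
  (B7 : SevenBlocks L7) (B5 : FiveBlocks L5)

/-- The row of a character. -/
noncomputable def rowOf [Fact (Nat.Prime 23)] [Fact (Nat.Prime 11)] (L23 : Local 23 G)
    (L11 : Local 11 G) (χ : IrrCharacter G) : ℕ × V6 :=
  (deg χ, osv L23 (O0 L23) χ, osv L11 (O0 L11) χ, osv L7 (O0 L7) χ, osv L7 B7.S χ, osv L7 B7.T χ,
    osv L5 (O0 L5) χ)

theorem seven_options (χ : IrrCharacter G) :
    (osv L7 (O0 L7) χ, osv L7 B7.S χ, osv L7 B7.T χ) ∈ sevenOpts (deg χ) := by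
  by_cases h : 7 ∣ deg χ
  · have hz : ∀ O, osv L7 O χ = 0 := fun O => osv_eq_zero L7 O fun hm => not_dvd_deg L7 O hm h
    rw [hz, hz, hz, sevenOpts, if_pos (by simp [Nat.mod_eq_zero_of_dvd h])]
    exact List.mem_append_left _ (List.mem_singleton_self _)
  obtain ⟨O, hO⟩ := exists_mem_ob L7 h
  have hz : ∀ O', O' ≠ O → osv L7 O' χ = 0 := fun O' hne =>
    osv_eq_zero L7 O' fun hm => hne (ob_disjoint L7 O' hm hO)
  have key : ∀ {O : L7.Orb} (W : OShape L7 O) {φ r : ℕ} {l : List ℕ} {y : ℕ}, ophi L7 O = φ →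
      2 * φ % 7 ≠ 0 → 2 * r % 7 ≠ 0 → 7 ∣ r + φ * L7.eO O → L7.eO O = 3 →
      W.C.val.map deg = (l : Multiset ℕ) → W.y = y → χ ∈ ob L7 O →
      (deg χ ∈ l ∧ osv L7 O χ = 6 * rsgn 7 φ (deg χ)) ∨ (deg χ = y ∧ osv L7 O χ = 3 * rsgn 7 r y) := by
    intro O W φ r l y hφ hp hr' hr he hl hy hχ
    rcases W.mem_cases hχ with h' | h'
    · exact Or.inl ⟨mem_C_deg hG W hl h', by rw [(W.res_C hφ hp h').1]; norm_num⟩
    · refine Or.inr ⟨(W.deg_E χ h').trans hy, ?_⟩
      rw [W.sv_E χ h', he, ← (W.res_E hφ hr' hr h').1, hy]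
      norm_num
  have he : L7.eO (O0 L7) = 3 := (hD.seven L7).1
  refine List.mem_append_right _ (List.mem_map.2
    ⟨(deg χ, osv L7 (O0 L7) χ, osv L7 B7.S χ, osv L7 B7.T χ), List.mem_filter.2 ⟨?_, by simp⟩, rfl⟩)
  rcases B7.all O with rfl | rfl | rfl
  · rw [hz B7.S B7.ne_S, hz B7.T B7.ne_T]
    rcases key B7.W0 (r := 4) (ophi_one L7) (by norm_num) (by norm_num) (by rw [he]) he B7.C0 B7.y0 hO with
      ⟨hd, hv⟩ | ⟨hd, hv⟩
    · simp only [List.mem_cons, List.not_mem_nil, or_false] at hd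
      rw [hv]
      rcases hd with hd | hd | hd <;> rw [hd] <;> decide
    · rw [hv, hd]; decide
  · rw [hz (O0 L7) B7.ne_S.symm, hz B7.T B7.ne_ST.symm]
    rcases key B7.WS (r := 4) B7.phi_S (by norm_num) (by norm_num) (by rw [B7.eO_S]) B7.eO_S B7.CS B7.yS hO with
      ⟨hd, hv⟩ | ⟨hd, hv⟩
    · simp only [List.mem_cons, List.not_mem_nil, or_false] at hd
      rw [hv]
      rcases hd with hd | hd | hd <;> rw [hd] <;> decide
    · rw [hv, hd]; decide
  · rw [hz (O0 L7) B7.ne_T.symm, hz B7.S B7.ne_ST]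
    rcases key B7.WT (r := 1) B7.phi_T (by norm_num) (by norm_num) (by rw [B7.eO_T]) B7.eO_T B7.CT B7.yT hO with
      ⟨hd, hv⟩ | ⟨hd, hv⟩
    · simp only [List.mem_cons, List.not_mem_nil, or_false] at hd
      rw [hv]
      rcases hd with hd | hd | hd <;> rw [hd] <;> decide
    · rw [hv, hd]; decide

include B5

theorem five_value (χ : IrrCharacter G) : osv L5 (O0 L5) χ = fFive (deg χ) := by
  by_cases h : χ ∈ B5.W0.C
  · rw [(B5.W0.res_C (ophi_one L5) (by norm_num) h).1, fFive, if_pos (by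
      simpa [List.contains_iff_mem] using mem_C_deg hG B5.W0 B5.C0 h)]
    norm_num
  · rw [osv_eq_zero L5 _ (fun hm => by
      rcases B5.W0.mem_cases hm with h' | h'
      · exact h h'
      · rw [B5.E0] at h'; simp at h'), fFive, if_neg]
    intro hc
    simp only [List.contains_iff_mem] at hc
    refine h (C_of_deg hG hD B5.W0 B5.C0 hc ?_ rfl)
    simp only [List.mem_cons, List.not_mem_nil, or_false] at hc
    rcases hc with hd | hd | hd | hd | hd <;> rw [hd] <;> decide +kernel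

theorem row_mem [Fact (Nat.Prime 23)] [Fact (Nat.Prime 11)] (L23 : Local 23 G) (L11 : Local 11 G)
    {χ : IrrCharacter G} (h1 : deg χ ≠ 1) (h2 : deg χ ≤ 2024) :
    rowOf B7 (L5 := L5) L23 L11 χ ∈ rowTab := by
  have hd := List.all_eq_true.1 rows_check _ (deg_mem_trueDegs hG hD χ)
  simp only [Bool.or_eq_true, decide_eq_true_eq, List.all_eq_true, List.contains_iff_mem] at hd
  have hpos : deg χ ≠ 0 := Blocks.charDegree_ne_zero χ
  have h := hd.resolve_left (by omega) _ (seven_options hG hD B7 χ)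
  rw [rowOf, osv_twenty_three hG hD, osv_eleven hG hD, five_value hG hD B5]
  exact h

end CfsgLib.MTwentyFourUnique
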