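import Cfsg.Agent.MTwentyFourUnique.Search

/-!
The kernel checks that the six families of pieces are complete.
-/

set_option autoImplicit false
set_option maxRecDepth 8000
set_option Elab.async false

namespace CfsgLib.MTwentyFourUnique

theorem complete_seven_one : complete 7 1 2 2 4 1 pSevenOne = true := by decide +kernel
theorem complete_seven_sign : complete 7 1 3 2 4 0 pSevenSign = true := by decide +kernel
theorem complete_seven_two : complete 7 2 3 2 1 0 pSevenTwo = true := by decide +kernel
theorem complete_five_one : complete 5 1 4 0 0 1 pFiveOne = true := by decide +kernel
theorem complete_five_three : complete 5 3 5 0 0 0 pFiveThree = true := by decide +kernel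
theorem complete_five_pair : complete 5 2 2 2 1 0 pFivePair = true := by decide +kernel

end CfsgLib.MTwentyFourUnique
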