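import Cfsg.Agent.MTwentyFourUnique.Found
import Cfsg.Agent.MTwentyFourUnique.SearchComplete

import Cfsg.Agent.MTwentyFourUnique.Conjugate

/-!
The families at 7 and at 5 as pieces, with the degrees and the values at elements of order seven.
-/

set_option autoImplicit false
set_option linter.style.haveILetI false
set_option linter.unusedSectionVars false
set_option maxHeartbeats 800000

open Cfsg CfsgLib.Characters CfsgLib.DefectOne CfsgLib.BrauerOrderP
open CfsgLib.MTwentyThreeUnique (pNe)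

namespace CfsgLib.MTwentyFourUnique

universe u

/-- With no exceptional row the residue of the exceptional degree plays no role. -/
theorem complete_any {p φ k r : ℕ} {c : ℤ} {L : List Piece} (r' : ℕ) (h : complete p φ k 0 r c L = true) :
    complete p φ k 0 r' c L = true := by
  simpa [complete] using h

variable {G : Type u} [Group G] [Fintype G] [IsSimpleGroup G] (hG : Nat.card G = 244823040)
  (hD : LocalData G)
include hG

theorem exists_trivial {p : ℕ} [Fact p.Prime] (L : Local p G) :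
    ∃ χ₁ : IrrCharacter G, deg χ₁ = 1 ∧ χ₁ ∈ ob L (O0 L) ∧ ∀ χ, deg χ = 1 → χ = χ₁ := by
  obtain ⟨χ₁, h1, h2⟩ := one_isConst L
  refine ⟨χ₁, Nat.cast_injective (R := ℂ) ?_, (mem_ob L _).2 h2.inB, fun χ hχ =>
    Subtype.ext ((eq_one_of_deg hG hχ).trans h1.symm)⟩
  rw [Blocks.charDegree_cast, h1, Nat.cast_one]

theorem deg_E_ne_one {p : ℕ} [Fact p.Prime] {L : Local p G} {O : L.Orb} (S : OShape L O)
    {χ : IrrCharacter G} (hχ : χ ∈ S.E) : deg χ ≠ 1 := by
  obtain ⟨χ₁, -, -, h⟩ := exists_trivial hG L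
  intro h1
  have hy : S.y = 1 := (S.deg_E χ hχ).symm.trans h1
  have hcard := S.card_E
  split_ifs at hcard with ht
  · exact Finset.notMem_empty χ (Finset.card_eq_zero.1 hcard ▸ hχ)
  · have hle : S.E.card ≤ 1 := Finset.card_le_one.2 fun a ha b hb =>
      (h a ((S.deg_E a ha).trans hy)).trans (h b ((S.deg_E b hb).trans hy)).symm
    have := L.card_colOver_mul O
    have := Finset.card_pos.2 ⟨χ, hχ⟩
    omega

/-- The trivial character is constant in the principal family, and lies in no other. -/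
theorem deg_C_ne_one {p : ℕ} [Fact p.Prime] {L : Local p G} {O : L.Orb} (hO : O ≠ O0 L)
    {χ : IrrCharacter G} (hχ : χ ∈ ob L O) : deg χ ≠ 1 := by
  obtain ⟨χ₁, -, h1, h⟩ := exists_trivial hG L
  intro hd
  exact hO (ob_disjoint L O (h χ hd ▸ hχ) h1)

theorem principal_one {p : ℕ} [Fact p.Prime] {L : Local p G} (S : OShape L (O0 L)) :
    ∃ s : Finset (IrrCharacter G), s ⊆ S.C ∧ s.card = 1 ∧ s.val.map deg = (([1] : List ℕ) : Multiset ℕ) ∧
      ∀ χ ∈ S.C, χ ∉ s → deg χ ≠ 1 := by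
  obtain ⟨χ₁, h1, h2, h⟩ := exists_trivial hG L
  refine ⟨{χ₁}, Finset.singleton_subset_iff.2 ?_, rfl, by simp [h1], fun χ _ hn hd =>
    hn (Finset.mem_singleton.2 (h χ hd))⟩
  rcases S.mem_cases h2 with h3 | h3
  · exact h3
  · exact absurd h1 (deg_E_ne_one hG S h3)

include hD

/-- The values at 7: twice the sum over an element and its inverse. -/
theorem exists_seven_values [Fact (Nat.Prime 7)] (L : Local 7 G) :
    ∃ w : IrrCharacter G → ℤ, (∀ χ : IrrCharacter G, ∑ u ∈ pNe L, (χ : G → ℂ) u = (e L : ℂ) * w χ) ∧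
      (∀ χ : IrrCharacter G, 7 ∣ deg χ → w χ = 0) ∧
      ∀ O, ∀ χ ∈ ob L O, 3 * w χ = (ophi L O : ℤ) * osv L O χ := by
  classical
  obtain ⟨he, hK, hnc⟩ := hD.seven L
  obtain ⟨S, T, -, -, -, hall, hS, hSe, hT, hTe⟩ := orbits_six L he hK hnc
  have key : ∀ χ : IrrCharacter G, ∃ w : ℤ, ∑ u ∈ pNe L, (χ : G → ℂ) u = (e L : ℂ) * w ∧
      (7 ∣ deg χ → w = 0) := by
    intro χ
    by_cases h : 7 ∣ deg χ
    · exact ⟨0, by rw [sum_pNe_zero L h, Int.cast_zero, mul_zero], fun _ => rfl⟩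
    obtain ⟨O, hO⟩ := exists_mem_ob L h
    obtain ⟨W⟩ := exists_oshape L O
    have heO : L.eO O = 3 := by
      rcases hall O with r | r | r <;> subst r
      exacts [he, hSe, hTe]
    obtain ⟨m, hm⟩ : (3 : ℤ) ∣ osv L O χ := by
      rcases W.mem_cases hO with h' | h'
      · rcases W.sv_C χ h' with r | r <;> rw [r] <;> norm_num
      · rw [W.sv_E χ h', heO]; exact dvd_mul_right 3 _
    exact ⟨ophi L O * m, by rw [sum_pNe_ob L hO, he, hm]; push_cast; ring, fun h' => absurd h' h⟩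
  choose w hw hw0 using key
  refine ⟨w, hw, hw0, fun O χ hχ => Int.cast_injective (α := ℂ) ?_⟩
  push_cast
  rw [← sum_pNe_ob L hχ, hw, he]
  norm_num

omit hD in
/-- A family at 7 as a piece. -/
theorem seven_piece [Fact (Nat.Prime 7)] {L : Local 7 G} (hcl : ∀ χ : IrrCharacter G, deg χ ∈ cands)
    {O : L.Orb} {φ r : ℕ} {one : List ℕ} {c : ℤ} {L' : List Piece} (hφ : ophi L O = φ)
    (heO : L.eO O = 3) (hp : 2 * φ % 7 ≠ 0) (hr' : 2 * r % 7 ≠ 0) (hr : 7 ∣ r + φ * 3)
    (hone : ∀ S : OShape L O, ∃ s : Finset (IrrCharacter G), s ⊆ S.C ∧ s.card = one.length ∧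
      s.val.map deg = (one : Multiset ℕ) ∧ ∀ χ ∈ S.C, χ ∉ s → deg χ ≠ 1)
    (hc : c = (one.map fun d => rsgn 7 φ d * (d : ℤ)).sum)
    (hchk : complete 7 φ (3 - one.length) 2 r c L' = true) (h1 : one.length ≤ 3)
    {f : ℕ → Bool} (hwf : wellFormed f one 2 L' = true) (hev : L'.all (evals φ r one) = true)
    (w : IrrCharacter G → ℤ) (hw : ∀ χ ∈ ob L O, 3 * w χ = (ophi L O : ℤ) * osv L O χ) :
    ∃ P ∈ L', (ob L O).val.map deg = (P.l : Multiset ℕ) ∧
      (ob L O).val.map (fun χ => (deg χ, w χ)) = (P.e : Multiset (ℕ × ℤ)) := by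
  classical
  obtain ⟨S⟩ := exists_oshape L O
  have hcol := L.card_colOver_mul O
  rw [heO] at hcol
  have ht : S.E.card = 2 := by rw [S.card_E, if_neg (by omega)]; omega
  have hC : S.C.card = 3 := by rw [S.card_C, if_neg (by omega), heO]
  obtain ⟨s, hs, hsc, hsm, hsne⟩ := hone S
  obtain ⟨P, hP, hCm, hy⟩ := S.exists_piece hG hcl hchk hφ hp hr' (by rwa [heO]) ht hs (by omega) hsm hc hsne
    (fun χ hχ => deg_E_ne_one hG S hχ)
  have hy := hy (by norm_num)
  have hwfP := List.all_eq_true.1 hwf P hP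
  simp only [Bool.and_eq_true, beq_iff_eq] at hwfP
  have hevP := List.all_eq_true.1 hev P hP
  simp only [evals, beq_iff_eq] at hevP
  refine ⟨P, hP, ?_, ?_⟩
  · rw [S.degs_ob, hCm, ht, hy, hwfP.1.1, ← Multiset.coe_replicate, Multiset.coe_add]
  · rw [S.ob_eq, Finset.disjUnion_val, Multiset.map_add, hevP, ← Multiset.coe_add,
      ← Multiset.map_coe, ← hCm, Multiset.map_map, Multiset.coe_replicate]
    congr 1
    · refine Multiset.map_congr rfl fun χ hχ => Prod.ext rfl ?_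
      have h3 := hw χ (S.mem_C hχ)
      rw [hφ, (S.res_C hφ hp hχ).1] at h3
      show w χ = 2 * (φ : ℤ) * rsgn 7 φ (deg χ)
      push_cast at h3
      linarith
    · refine Multiset.eq_replicate.2 ⟨by rw [Multiset.card_map, ← Finset.card_def, ht], fun x hx => ?_⟩
      obtain ⟨χ, hχ, rfl⟩ := Multiset.mem_map.1 hx
      have hyχ : deg χ = P.y := (S.deg_E χ hχ).trans hy
      refine Prod.ext hyχ ?_
      have h3 := hw χ (S.mem_E hχ)
      rw [hφ, S.sv_E χ hχ, heO, ← (S.res_E hφ hr' (by rwa [heO]) hχ).1, hy] at h3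
      show w χ = (φ : ℤ) * rsgn 7 r P.y
      push_cast at h3
      linarith

omit hD in
/-- A family at 5 as a piece. -/
theorem five_piece [Fact (Nat.Prime 5)] {L : Local 5 G} (hcl : ∀ χ : IrrCharacter G, deg χ ∈ cands)
    {O : L.Orb} {φ eo t r k : ℕ} {one : List ℕ} {c : ℤ} {L' : List Piece} (hφ : ophi L O = φ)
    (heO : L.eO O = eo) (hte : t * eo = 4 ∨ t = 0 ∧ eo = 4) (ht1 : t ≠ 1)
    (hp : 2 * φ % 5 ≠ 0) (hr' : 2 * r % 5 ≠ 0) (hr : 5 ∣ r + φ * eo)
    (hone : ∀ S : OShape L O, ∃ s : Finset (IrrCharacter G), s ⊆ S.C ∧ s.card = one.length ∧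
      s.val.map deg = (one : Multiset ℕ) ∧ ∀ χ ∈ S.C, χ ∉ s → deg χ ≠ 1)
    (hc : c = (one.map fun d => rsgn 5 φ d * (d : ℤ)).sum)
    (hk : one.length + k = eo + if t = 0 then 1 else 0)
    (hchk : complete 5 φ k t r c L' = true)
    {f : ℕ → Bool} (hwf : wellFormed f one t L' = true) :
    ∃ P ∈ L', (ob L O).val.map deg = (P.l : Multiset ℕ) := by
  classical
  obtain ⟨S⟩ := exists_oshape L O
  have hcol := L.card_colOver_mul O
  rw [heO] at hcol
  have heo : 0 < eo := heO ▸ L.eO_pos O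
  have hcases : (Nat.card (L.ColOver O) = 1 ↔ t = 0) ∧ (t ≠ 0 → Nat.card (L.ColOver O) = t) := by
    rcases hte with h | ⟨h, h'⟩
    · have : Nat.card (L.ColOver O) = t := Nat.eq_of_mul_eq_mul_right heo (hcol.trans h.symm)
      exact ⟨⟨fun h1 => absurd (this ▸ h1) ht1, fun h1 => by rw [h1, zero_mul] at h; omega⟩, fun _ => this⟩
    · subst h' h
      exact ⟨⟨fun _ => rfl, fun _ => by omega⟩, fun h1 => absurd rfl h1⟩
  have ht : S.E.card = t := by
    rw [S.card_E]
    split_ifs with h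
    · exact (hcases.1.1 h).symm
    · exact hcases.2 fun h0 => h (hcases.1.2 h0)
  have hC : S.C.card = eo + if t = 0 then 1 else 0 := by
    rw [S.card_C, heO]
    simp only [hcases.1]
  obtain ⟨s, hs, hsc, hsm, hsne⟩ := hone S
  obtain ⟨P, hP, hCm, hy⟩ := S.exists_piece hG hcl hchk hφ hp hr' (by rwa [heO]) ht hs (by omega) hsm hc hsne
    (fun χ hχ => deg_E_ne_one hG S hχ)
  have hwfP := List.all_eq_true.1 hwf P hP
  simp only [Bool.and_eq_true, beq_iff_eq] at hwfP
  refine ⟨P, hP, ?_⟩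
  rw [S.degs_ob, hCm, ht, hwfP.1.1, ← Multiset.coe_replicate, Multiset.coe_add]
  by_cases h0 : t = 0
  · simp [h0]
  · rw [hy h0]

omit hD in
theorem no_one {p : ℕ} [Fact p.Prime] {L : Local p G} {O : L.Orb} (hO : O ≠ O0 L) (S : OShape L O) :
    ∃ s : Finset (IrrCharacter G), s ⊆ S.C ∧ s.card = ([] : List ℕ).length ∧
      s.val.map deg = (([] : List ℕ) : Multiset ℕ) ∧ ∀ χ ∈ S.C, χ ∉ s → deg χ ≠ 1 :=
  ⟨∅, Finset.empty_subset _, rfl, rfl, fun _ hχ _ => deg_C_ne_one hG hO (S.mem_C hχ)⟩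

end CfsgLib.MTwentyFourUnique
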