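import Cfsg.Agent.MTwentyFourUnique.Rows
import Cfsg.Agent.SmallValue.Tools

/-!
The products of the characters of degree 45 and 23 with their conjugates and the exterior squares.
-/

set_option autoImplicit false
set_option linter.style.haveILetI false
set_option linter.unusedSectionVars false
set_option maxHeartbeats 800000
set_option synthInstance.maxSize 1024
set_option synthInstance.maxHeartbeats 100000

open Cfsg CfsgLib.Characters CfsgLib.DefectOne CfsgLib.BrauerOrderP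
open CfsgLib.MTwentyThreeUnique (pNe mem_pNe card_pNe)
open scoped ComplexConjugate

namespace CfsgLib.MTwentyFourUnique

universe u

variable {G : Type u} [Group G] [Fintype G]

/-- The product with the conjugate. -/
noncomputable def thBar (χ : IrrCharacter G) : G → ℂ :=
  fun g => (χ : G → ℂ) g * conj ((χ : G → ℂ) g)

/-- The exterior square. -/
noncomputable def thAlt (χ : IrrCharacter G) : G → ℂ :=
  fun g => ((χ : G → ℂ) g * (χ : G → ℂ) g - (χ : G → ℂ) (g * g)) / 2

theorem thBar_char (χ : IrrCharacter G) : Cfsg.IsCharacter G (thBar χ) :=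
  isCharacter_mul (isCharacter_of_isIrr χ.2) (isCharacter_conj (isCharacter_of_isIrr χ.2))

theorem thAlt_char (χ : IrrCharacter G) : Cfsg.IsCharacter G (thAlt χ) :=
  SmallValue.isCharacter_alt (isCharacter_of_isIrr χ.2)

theorem thBar_inner_one (χ : IrrCharacter G) : Cfsg.classInner (thBar χ) (fun _ => 1) = 1 := by
  conv_rhs => rw [← classInner_isIrr_self χ.2]
  simp [Cfsg.classInner, thBar]

theorem thAlt_inner_one (χ : IrrCharacter G) (h : bar χ ≠ χ) :
    Cfsg.classInner (thAlt χ) (fun _ => 1) = 0 := by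
  obtain ⟨a, ha⟩ := classInner_character_irr (thAlt_char χ) (isIrr_one (G := G))
  obtain ⟨b, hb⟩ := classInner_character_irr
    (SmallValue.isCharacter_sym (isCharacter_of_isIrr χ.2)) (isIrr_one (G := G))
  have h0 : Cfsg.classInner (χ : G → ℂ) (bar χ : G → ℂ) = 0 :=
    classInner_isIrr_ne χ.2 (bar χ).2 fun e => h (Subtype.ext e).symm
  have hsum : Cfsg.classInner (thAlt χ) (fun _ => 1) + Cfsg.classInner
      (fun g => ((χ : G → ℂ) g * (χ : G → ℂ) g + (χ : G → ℂ) (g * g)) / 2) (fun _ => 1) = 0 := by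
    rw [← h0, Cfsg.classInner, Cfsg.classInner, Cfsg.classInner, ← mul_add, ← Finset.sum_add_distrib]
    congr 1
    refine Finset.sum_congr rfl fun g _ => ?_
    rw [bar_apply, Complex.conj_conj, map_one, mul_one, mul_one]
    simp only [thAlt]
    ring
  rw [ha, hb, ← Nat.cast_add, Nat.cast_eq_zero] at hsum
  rw [ha, Nat.eq_zero_of_add_eq_zero_right hsum, Nat.cast_zero]

/-- An expansion with the multiplicity of the trivial character. -/
theorem expand {θ : G → ℂ} (hθ : Cfsg.IsCharacter G θ) :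
    ∃ m : IrrCharacter G → ℕ, (θ = fun g => ∑ χ : IrrCharacter G, (m χ : ℂ) * (χ : G → ℂ) g) ∧
      ∀ one : IrrCharacter G, (one : G → ℂ) = (fun _ => 1) →
        Cfsg.classInner θ (fun _ => 1) = (m one : ℂ) := by
  obtain ⟨m, hm⟩ := exists_nat_coeff hθ
  refine ⟨m, hm.trans (funext fun g => by simp [Finset.sum_apply]), fun one h1 => ?_⟩
  rw [← h1, hm]
  exact classInner_irr_coeff (fun χ => (m χ : ℂ)) one

/-- The sums of the coefficients from the pairing. -/
theorem sum_coef_of_secSum {p : ℕ} [Fact p.Prime] (L : Local p G) [Fintype L.K] (O : L.Orb)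
    {θ : G → ℂ} {m : IrrCharacter G → ℕ} {T : ℤ}
    (hm : θ = fun g => ∑ χ : IrrCharacter G, (m χ : ℂ) * (χ : G → ℂ) g)
    (h : secSum L O θ = (Nat.card L.K : ℂ) * (T : ℂ)) :
    ∑ χ : IrrCharacter G, (m χ : ℤ) * osv L O χ = T := by
  rw [hm, secSum_sum] at h
  exact Int.cast_injective (α := ℂ) (mul_left_cancel₀ natCard_ne_zero h)

section Values

variable {p : ℕ} [Fact p.Prime] (L : Local p G)

theorem orbCard_O0 : L.orbCard (O0 L) = 1 :=
  Nat.card_eq_one_iff_unique.2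
    ⟨⟨fun a b => Subtype.ext ((eq_oneK_of_orb L a.2).trans (eq_oneK_of_orb L b.2).symm)⟩,
      ⟨⟨oneK L, rfl⟩⟩⟩

/-- The value of a constant row of the principal orbit at every section. -/
theorem value_O0 [Fintype L.K] (W : OShape L (O0 L)) {χ : IrrCharacter G} (h : χ ∈ W.C) {v : ℤ}
    (hv : osv L (O0 L) χ = ((p : ℤ) - 1) * v) {u : G} (hu : u ∈ pNe L) (k : L.K) :
    (χ : G → ℂ) (u * k) = v := by
  obtain ⟨a, ha, hval⟩ := value_const L (orbCard_O0 L) W h hu k
  rw [hval, out_O0, oneK_apply, one_mul]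
  congr 1
  have := (Fact.out : p.Prime).two_le
  exact mul_left_cancel₀ (show ((p : ℤ) - 1) ≠ 0 by omega) (ha.symm.trans hv)

theorem sq_mem_pNe (hp : p ≠ 2) {u : G} (hu : u ∈ pNe L) : u * u ∈ pNe L := by
  obtain ⟨hu', hu1⟩ := (mem_pNe L).1 hu
  refine (mem_pNe L).2 ⟨Subgroup.mul_mem _ hu' hu', fun h => hp ?_⟩
  have h3 := orderOf_dvd_of_pow_eq_one (x := u) (n := 2) (by rw [pow_two, h])
  rw [L.orderOf_of_mem hu' hu1] at h3
  exact (Nat.prime_dvd_prime_iff_eq (Fact.out : p.Prime) Nat.prime_two).1 h3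

theorem sq_section {u k : G} (hu : u ∈ pNe L) (hk : k ∈ L.K) :
    u * k * (u * k) = u * u * (k * k) :=
  Commute.mul_mul_mul_comm (L.commute ((mem_pNe L).1 hu).1 hk).symm _ _

end Values

/-- At 7: the two sums of a character over an orbit of one linear character with squares one. -/
theorem seven_sums [Fact (Nat.Prime 7)] (L : Local 7 G) [Fintype L.K] {O : L.Orb} (he : e L = 3)
    (hφ : ophi L O = 1) (heO : L.eO O = 3)
    (hsq : ∀ k, ((Quotient.out O : IrrCharacter L.K) : L.K → ℂ) (k * k) = 1 ∧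
      ((Quotient.out O : IrrCharacter L.K) : L.K → ℂ) k * ((Quotient.out O : IrrCharacter L.K) : L.K → ℂ) k = 1 ∧
      conj (((Quotient.out O : IrrCharacter L.K) : L.K → ℂ) k) = ((Quotient.out O : IrrCharacter L.K) : L.K → ℂ) k)
    (W : OShape L O) {χ : IrrCharacter G} (hχ : χ ∈ W.E) (ha : W.a = -1) :
    (∀ u ∈ pNe L, ∀ k : L.K, thBar χ (u * k) = (χ : G → ℂ) u * conj ((χ : G → ℂ) u)) ∧
    (∀ u ∈ pNe L, ∀ k : L.K, thAlt χ (u * k) =
      ((χ : G → ℂ) u * (χ : G → ℂ) u - (χ : G → ℂ) (u * u)) / 2) ∧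
    (∑ u ∈ pNe L, (χ : G → ℂ) u * conj ((χ : G → ℂ) u) = 12) ∧
    (∑ u ∈ pNe L, ((χ : G → ℂ) u * (χ : G → ℂ) u - (χ : G → ℂ) (u * u)) / 2 = -3) ∧ bar χ ≠ χ := by
  classical
  haveI := L.finite_lam
  letI := Fintype.ofFinite L.Lam
  have h1 : L.orbCard O = 1 := by
    have := orbCard_mul_eO L O
    rw [heO, he] at this
    omega
  have hd : ((Quotient.out O : IrrCharacter L.K) : L.K → ℂ) 1 = 1 := by
    have h := hφ
    rw [ophi, h1, one_mul] at h
    rw [← Blocks.charDegree_cast, h, Nat.cast_one]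
  have hob : χ ∈ ob L O := W.mem_E hχ
  have hbar : ∀ u ∈ pNe L, ∀ k : L.K, thBar χ (u * k) = (χ : G → ℂ) u * conj ((χ : G → ℂ) u) := by
    intro u hu k
    obtain ⟨-, h2, h3⟩ := hsq k
    simp only [thBar, value_mul L h1 hd hob hu k, map_mul, h3]
    linear_combination ((χ : G → ℂ) u * conj ((χ : G → ℂ) u)) * h2
  have halt : ∀ u ∈ pNe L, ∀ k : L.K, thAlt χ (u * k) =
      ((χ : G → ℂ) u * (χ : G → ℂ) u - (χ : G → ℂ) (u * u)) / 2 := by
    intro u hu k
    obtain ⟨h4, h2, -⟩ := hsq k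
    have hk2 := value_mul L h1 hd hob (sq_mem_pNe L (by norm_num) hu) (k * k)
    rw [h4, one_mul, Subgroup.coe_mul] at hk2
    simp only [thAlt, sq_section L hu k.2, hk2, value_mul L h1 hd hob hu k]
    linear_combination ((χ : G → ℂ) u * (χ : G → ℂ) u / 2) * h2
  have hS : ∑ u ∈ pNe L, (χ : G → ℂ) u = -3 := by
    rw [sum_pNe_ob L hob, hφ, W.sv_E χ hχ, heO, ha]
    norm_num
  have hN : ∑ u ∈ pNe L, (χ : G → ℂ) u * conj ((χ : G → ℂ) u) = 12 := by
    have hcol := L.card_colOver_mul O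
    rw [heO] at hcol
    rw [norm_sum_exc L h1 hd W (by omega) hχ, heO]
    norm_num
  have hwhole : ∀ u ∈ pNe L, (χ : G → ℂ) u + conj ((χ : G → ℂ) u) = -1 := by
    intro u hu
    have h := sum_pNe_half L (by rw [he]) (by rw [he]) hu χ
    rw [hS, he, character_inv (isCharacter_of_isIrr χ.2)] at h
    push_cast at h
    linear_combination (-1 / 3 : ℂ) * h
  have hQ : ∑ u ∈ pNe L, (χ : G → ℂ) u * (χ : G → ℂ) u = -9 := by
    have hrw : ∀ u ∈ pNe L, (χ : G → ℂ) u * (χ : G → ℂ) u =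
        -(χ : G → ℂ) u - (χ : G → ℂ) u * conj ((χ : G → ℂ) u) := fun u hu => by
      linear_combination ((χ : G → ℂ) u) * hwhole u hu
    rw [Finset.sum_congr rfl hrw, Finset.sum_sub_distrib, Finset.sum_neg_distrib, hS, hN]
    norm_num
  have hperm : ∑ u ∈ pNe L, (χ : G → ℂ) (u * u) = ∑ u ∈ pNe L, (χ : G → ℂ) u := by
    have h8 : ∀ u ∈ pNe L, u ^ 8 = u := fun u hu => by
      rw [pow_succ, L.pow_p ((mem_pNe L).1 hu).1, one_mul]
    have h4 : ∀ u ∈ pNe L, u ^ 4 ∈ pNe L := fun u hu => by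
      rw [show 4 = 2 * 2 by norm_num, pow_mul, pow_two u, pow_two]
      exact sq_mem_pNe L (by norm_num) (sq_mem_pNe L (by norm_num) hu)
    refine Finset.sum_nbij' (fun u => u * u) (fun u => u ^ 4) (fun u hu => sq_mem_pNe L (by norm_num) hu)
      (fun u hu => h4 u hu) (fun u hu => ?_) (fun u hu => ?_) fun u hu => rfl
    · show (u * u) ^ 4 = u
      rw [← pow_two, ← pow_mul]; exact h8 u hu
    · show u ^ 4 * u ^ 4 = u
      rw [← pow_add]; exact h8 u hu
  refine ⟨hbar, halt, hN, ?_, fun hb => ?_⟩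
  · rw [← Finset.sum_div, Finset.sum_sub_distrib, hQ, hperm, hS]
    norm_num
  · rw [Finset.sum_congr rfl (g := fun u => (χ : G → ℂ) u * conj ((χ : G → ℂ) u)) fun u _ => by
      rw [show conj ((χ : G → ℂ) u) = (χ : G → ℂ) u from congrFun (congrArg Subtype.val hb) u], hN] at hQ
    norm_num at hQ

/-- The character of `K` of the second orbit at 7 is the sign. -/
theorem sign_facts [Fact (Nat.Prime 7)] (L : Local 7 G) [Fintype L.K] (hK : Nat.card L.K = 6)
    (hnc : ¬ IsMulCommutative L.K) {φ : IrrCharacter L.K}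
    (hd : Cfsg.charDegree (φ : L.K → ℂ) = 1) (hne : φ ≠ oneK L) :
    ∀ k : L.K, (φ : L.K → ℂ) (k * k) = 1 ∧ (φ : L.K → ℂ) k * (φ : L.K → ℂ) k = 1 ∧
      conj ((φ : L.K → ℂ) k) = (φ : L.K → ℂ) k := by
  classical
  obtain ⟨-, hone, -⟩ := degrees_six hK hnc
  have hd1 : Cfsg.charDegree (oneK L : L.K → ℂ) = 1 :=
    Nat.cast_injective (R := ℂ) (by rw [Blocks.charDegree_cast, oneK_apply]; simp)
  have hbar : bar φ = φ := by
    by_contra hb
    have hb1 : bar φ ≠ oneK L := fun e => hne (by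
      rw [← bar_bar φ, e]
      exact Subtype.ext (funext fun k => map_one (starRingEnd ℂ)))
    have hle : ({oneK L, φ, bar φ} : Finset (IrrCharacter L.K)).card ≤
        (Finset.univ.filter fun χ : IrrCharacter L.K => Cfsg.charDegree (χ : L.K → ℂ) = 1).card := by
      refine Finset.card_le_card fun x hx => Finset.mem_filter.2 ⟨Finset.mem_univ _, ?_⟩
      simp only [Finset.mem_insert, Finset.mem_singleton] at hx
      rcases hx with rfl | rfl | rfl
      exacts [hd1, hd, (charDegree_bar φ).trans hd]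
    rw [hone, Finset.card_insert_of_notMem (by simp [Ne.symm hne, Ne.symm hb1]),
      Finset.card_pair (Ne.symm hb)] at hle
    omega
  obtain ⟨f, hf⟩ := exists_hom_of_degree_one (isCharacter_of_isIrr φ.2)
    (show (φ : L.K → ℂ) 1 = 1 by rw [← Blocks.charDegree_cast, hd, Nat.cast_one])
  intro k
  have hreal : conj ((φ : L.K → ℂ) k) = (φ : L.K → ℂ) k := congrFun (congrArg Subtype.val hbar) k
  have hfin : IsOfFinOrder ((f k : ℂˣ) : ℂ) :=
    (Units.coeHom ℂ).isOfFinOrder (f.isOfFinOrder (isOfFinOrder_of_finite k))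
  have h2 : (φ : L.K → ℂ) k * (φ : L.K → ℂ) k = 1 := by
    nth_rewrite 2 [← hreal]
    rw [Complex.mul_conj, Complex.normSq_eq_norm_sq, hf, hfin.norm_eq_one]
    norm_num
  refine ⟨?_, h2, hreal⟩
  have h := h2
  rw [hf] at h ⊢
  show ((f (k * k) : ℂˣ) : ℂ) = 1
  rwa [map_mul, Units.val_mul]

section Constituents

variable [IsSimpleGroup G] (hG : Nat.card G = 244823040) (hD : LocalData G)
  [Fact (Nat.Prime 23)] [Fact (Nat.Prime 11)] [Fact (Nat.Prime 7)] [Fact (Nat.Prime 5)]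
  {L23 : Local 23 G} {L11 : Local 11 G} {L7 : Local 7 G} {L5 : Local 5 G}
  (B7 : SevenBlocks L7) (B5 : FiveBlocks L5)
include hG hD B5

/-- A character whose combination of rows is forced. -/
theorem constituent [Fintype L23.K] [Fintype L11.K] [Fintype L7.K] [Fintype L5.K]
    {θ : G → ℂ} (hθ : Cfsg.IsCharacter G θ) {c : ℕ} (hc : Cfsg.classInner θ (fun _ => 1) = (c : ℂ))
    {D : ℕ} (hD0 : θ 1 = ((D + c : ℕ) : ℂ)) (hD' : D ≤ 2024) {v : V6} {rows : List (ℕ × V6)}
    (hsub : ∀ r ∈ rowTab, r.1 ≤ D → r ∈ rows) (hpos : ∀ r ∈ rows, 0 < r.1)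
    (hcomb : combos rows D v = [[(D, v)]])
    (h23 : secSum L23 (O0 L23) θ = (Nat.card L23.K : ℂ) * ((v.1 + 22 * c : ℤ) : ℂ))
    (h11 : secSum L11 (O0 L11) θ = (Nat.card L11.K : ℂ) * ((v.2.1 + 10 * c : ℤ) : ℂ))
    (h70 : secSum L7 (O0 L7) θ = (Nat.card L7.K : ℂ) * ((v.2.2.1 + 6 * c : ℤ) : ℂ))
    (h7S : secSum L7 B7.S θ = (Nat.card L7.K : ℂ) * ((v.2.2.2.1 : ℤ) : ℂ))
    (h7T : secSum L7 B7.T θ = (Nat.card L7.K : ℂ) * ((v.2.2.2.2.1 : ℤ) : ℂ))
    (h5 : secSum L5 (O0 L5) θ = (Nat.card L5.K : ℂ) * ((v.2.2.2.2.2 + 4 * c : ℤ) : ℂ)) :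
    ∃ χ : IrrCharacter G, rowOf B7 (L5 := L5) L23 L11 χ = (D, v) ∧ ∀ g, θ g = c + (χ : G → ℂ) g := by
  classical
  obtain ⟨m, hm, hm1⟩ := expand hθ
  obtain ⟨one, hone1, honeB, huniq⟩ := exists_trivial hG L7
  have honef : (one : G → ℂ) = fun _ => 1 := eq_one_of_deg hG hone1
  have hmc : m one = c := Nat.cast_injective (R := ℂ) ((hm1 one honef).symm.trans hc)
  have o23 : osv L23 (O0 L23) one = 22 := by rw [osv_twenty_three hG hD, hone1]; rfl
  have o11 : osv L11 (O0 L11) one = 10 := by rw [osv_eleven hG hD, hone1]; rfl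
  have o5 : osv L5 (O0 L5) one = 4 := by rw [five_value hG hD B5, hone1]; rfl
  have hopt := seven_options hG hD B7 one
  rw [hone1, show sevenOpts 1 = [((6 : ℤ), (0 : ℤ), (0 : ℤ))] from rfl, List.mem_singleton] at hopt
  simp only [Prod.mk.injEq] at hopt
  set m' : IrrCharacter G → ℕ := fun χ => if χ = one then 0 else m χ with hm'
  have hsplit : ∀ f : IrrCharacter G → ℤ, ∑ χ : IrrCharacter G, (m' χ : ℤ) * f χ =
      ∑ χ : IrrCharacter G, (m χ : ℤ) * f χ - (c : ℤ) * f one := by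
    intro f
    rw [← Finset.add_sum_erase _ _ (Finset.mem_univ one), ← Finset.add_sum_erase _ _ (Finset.mem_univ one),
      show m' one = 0 by simp [hm'], hmc,
      Finset.sum_congr rfl (g := fun χ => (m χ : ℤ) * f χ) fun χ hχ => by
        simp [hm', Finset.ne_of_mem_erase hχ]]
    push_cast
    ring
  have hdeg : (∑ χ : IrrCharacter G, m' χ * deg χ) = D := by
    have h := congrFun hm 1
    rw [hD0] at h
    have h' : (((D + c : ℕ)) : ℤ) = ∑ χ : IrrCharacter G, (m χ : ℤ) * (deg χ : ℤ) := by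
      apply Int.cast_injective (α := ℂ)
      push_cast
      rw [Finset.sum_congr rfl fun χ _ => by rw [Blocks.charDegree_cast]]
      exact_mod_cast h
    have h2 := hsplit fun χ => (deg χ : ℤ)
    rw [← h', hone1] at h2
    push_cast at h2
    apply Int.natCast_inj.1
    push_cast
    linarith
  set key : IrrCharacter G → ℕ × V6 := fun χ => rowOf B7 (L5 := L5) L23 L11 χ with hkey
  set s := bag m' key with hs
  have hmem : ∀ x ∈ s, x ∈ rows := by
    intro x hx
    obtain ⟨χ, hχm, rfl⟩ := mem_bag.1 hx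
    have hne : χ ≠ one := fun e => hχm (by simp [hm', e])
    have hle : deg χ ≤ D := by
      rw [← hdeg]
      exact le_trans (Nat.le_mul_of_pos_left _ (Nat.pos_of_ne_zero hχm))
        (Finset.single_le_sum (f := fun ψ => m' ψ * deg ψ) (fun _ _ => Nat.zero_le _) (Finset.mem_univ χ))
    exact hsub _ (row_mem hG hD B7 B5 L23 L11 (fun h => hne (huniq χ h)) (hle.trans hD')) hle
  have hfst : (s.map Prod.fst).sum = D := by
    rw [hs, sum_map_bag, ← hdeg]
    exact Finset.sum_congr rfl fun χ _ => rfl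
  have hsnd : (s.map Prod.snd).sum = v := by
    rw [hs, sum_map_bag]
    simp only [hkey, rowOf]
    ext <;> simp only [Prod.fst_sum, Prod.snd_sum, Prod.smul_fst, Prod.smul_snd, nsmul_eq_mul, Prod.fst_mul, Prod.snd_mul, Prod.fst_natCast, Prod.snd_natCast]
    · rw [hsplit fun χ => osv L23 (O0 L23) χ, sum_coef_of_secSum L23 _ hm h23, o23]; ring
    · rw [hsplit fun χ => osv L11 (O0 L11) χ, sum_coef_of_secSum L11 _ hm h11, o11]; ring
    · rw [hsplit fun χ => osv L7 (O0 L7) χ, sum_coef_of_secSum L7 _ hm h70, hopt.1]; ring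
    · rw [hsplit fun χ => osv L7 B7.S χ, sum_coef_of_secSum L7 _ hm h7S, hopt.2.1]; ring
    · rw [hsplit fun χ => osv L7 B7.T χ, sum_coef_of_secSum L7 _ hm h7T, hopt.2.2]; ring
    · rw [hsplit fun χ => osv L5 (O0 L5) χ, sum_coef_of_secSum L5 _ hm h5, o5]; ring
  obtain ⟨z, hz, hzs⟩ := combos_complete rows s hpos hmem
  rw [hfst, hsnd, hcomb, List.mem_singleton] at hz
  subst hz
  have hcard : ∑ χ : IrrCharacter G, m' χ = 1 := by rw [← card_bag m' key, ← hs, ← hzs]; rfl
  obtain ⟨χ, hχm⟩ : ∃ χ, m' χ ≠ 0 := by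
    by_contra! h
    rw [Finset.sum_eq_zero fun χ _ => h χ] at hcard
    omega
  have hrow : key χ = (D, v) := by
    have : key χ ∈ s := mem_bag.2 ⟨χ, hχm, rfl⟩
    rw [← hzs] at this
    simpa using this
  rw [← Finset.add_sum_erase _ _ (Finset.mem_univ χ)] at hcard
  have hm1' : m' χ = 1 := by omega
  have hrest : ∀ ψ ∈ Finset.univ.erase χ, m' ψ = 0 := fun ψ hψ => by
    have := Finset.single_le_sum (f := m') (fun _ _ => Nat.zero_le _) hψ
    omega
  refine ⟨χ, hrow, fun g => ?_⟩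
  have hne : χ ≠ one := fun e => hχm (by simp [hm', e])
  rw [congrFun hm g, Finset.sum_eq_add one χ (Ne.symm hne) (fun ψ _ hψ => ?_)
    (fun h => absurd (Finset.mem_univ _) h) (fun h => absurd (Finset.mem_univ _) h), hmc,
    show m χ = 1 by simpa [hm', hne] using hm1', congrFun honef g]
  · simp
  · have := hrest ψ (Finset.mem_erase.2 ⟨hψ.2, Finset.mem_univ _⟩)
    simp [hm', hψ.1] at this
    simp [this]

end Constituents

/-- The value at the non-trivial elements when the centralizer is the Sylow subgroup. -/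
theorem value_bot {p : ℕ} [Fact p.Prime] (L : Local p G) (hK : L.K = ⊥) {χ : IrrCharacter G}
    {v : ℤ} (hd : ¬ p ∣ deg χ) (hv : osv L (O0 L) χ = ((p : ℤ) - 1) * v)
    (hne : e L + 1 = p ∨ (((p : ℤ) - 1) * v ≠ e L ∧ ((p : ℤ) - 1) * v ≠ -(e L : ℤ)))
    {u : G} (hu : u ∈ pNe L) : (χ : G → ℂ) u = v := by
  classical
  haveI := Fintype.ofFinite L.K
  obtain ⟨W⟩ := exists_oshape L (O0 L)
  obtain ⟨O, hO⟩ := exists_mem_ob L hd
  rw [orb_eq_O0 L hK O] at hO
  have he : L.eO (O0 L) = e L := by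
    have h := orbCard_mul_eO L (O0 L)
    rwa [orbCard_O0, one_mul] at h
  have hC : χ ∈ W.C := by
    refine (W.mem_cases hO).resolve_right fun h => ?_
    rcases hne with hne | hne
    · have hcol := L.card_colOver_mul (O0 L)
      rw [he, show p - 1 = e L by omega] at hcol
      have h0 : W.E.card = 0 := by
        rw [W.card_E, if_pos]
        exact mul_right_cancel₀ (e_pos L).ne' (by rwa [one_mul])
      rw [Finset.card_eq_zero.1 h0] at h
      simp at h
    have h' := W.sv_E χ h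
    rw [hv, he] at h'
    rcases W.a_unit with r | r <;> rw [r] at h' <;> simp at h'
    exacts [hne.1 h', hne.2 h']
  have h := value_O0 L W hC hv hu (1 : L.K)
  rwa [OneMemClass.coe_one, mul_one] at h

theorem secSum_const {p : ℕ} [Fact p.Prime] (L : Local p G) [Fintype L.K] {θ : G → ℂ} {c : ℤ}
    (h : ∀ u ∈ pNe L, ∀ k : L.K, θ (u * k) = c) :
    secSum L (O0 L) θ = (Nat.card L.K : ℂ) * ((((p : ℤ) - 1) * c : ℤ) : ℂ) := by
  classical
  rw [secSum_indep L (O0 L) (fun _ => (c : ℂ)) h, if_pos rfl, Finset.sum_const, card_pNe L,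
    nsmul_eq_mul, Nat.cast_sub (Fact.out : p.Prime).one_le]
  push_cast
  ring

section Applications

variable [IsSimpleGroup G] (hG : Nat.card G = 244823040) (hD : LocalData G)
  [Fact (Nat.Prime 23)] [Fact (Nat.Prime 11)] [Fact (Nat.Prime 7)] [Fact (Nat.Prime 5)]
  (L23 : Local 23 G) (L11 : Local 11 G) {L7 : Local 7 G} {L5 : Local 5 G}
  (B7 : SevenBlocks L7) (B5 : FiveBlocks L5)
include hG hD L23 L11 B7 B5

/-- The sign character of the second orbit at 7. -/
theorem sign_S [Fintype L7.K] :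
    ∀ k : L7.K, ((Quotient.out B7.S : IrrCharacter L7.K) : L7.K → ℂ) (k * k) = 1 ∧
      ((Quotient.out B7.S : IrrCharacter L7.K) : L7.K → ℂ) k * ((Quotient.out B7.S : IrrCharacter L7.K) : L7.K → ℂ) k = 1 ∧
      conj (((Quotient.out B7.S : IrrCharacter L7.K) : L7.K → ℂ) k) = ((Quotient.out B7.S : IrrCharacter L7.K) : L7.K → ℂ) k := by
  obtain ⟨he, hK, hnc⟩ := hD.seven L7
  refine sign_facts L7 hK hnc ?_ fun e => B7.ne_S ?_
  · have h1 : L7.orbCard B7.S = 1 := by
      have := orbCard_mul_eO L7 B7.S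
      rw [B7.eO_S, he] at this
      omega
    have h := B7.phi_S
    rwa [ophi, h1, one_mul] at h
  · exact (Quotient.out_eq B7.S).symm.trans (congrArg L7.orb e)

/-- The exceptional characters of degree 45. -/
theorem mem_S {χ : IrrCharacter G} (hχ : deg χ = 45) : χ ∈ B7.WS.E ∧ B7.WS.a = -1 := by
  have hE : χ ∈ B7.WS.E := E_of_deg hG hD B7.WS B7.yS (by rw [B7.ES]; decide +kernel) hχ
  refine ⟨hE, ?_⟩
  have h := seven_options hG hD B7 χ
  rw [hχ, show sevenOpts 45 = [((0 : ℤ), (-3 : ℤ), (0 : ℤ))] by decide, List.mem_singleton] at h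
  simp only [Prod.mk.injEq] at h
  have h' := B7.WS.sv_E χ hE
  rw [h.2.1, B7.eO_S] at h'
  omega

/-- The product of the character of degree 45 with its conjugate, and its exterior square. -/
theorem forty_five_products {χ : IrrCharacter G} (hχ : deg χ = 45) :
    (∃ ψ : IrrCharacter G, deg ψ = 2024 ∧ ∀ g, thBar χ g = 1 + (ψ : G → ℂ) g) ∧
      ∃ ψ : IrrCharacter G, deg ψ = 990 ∧ ∀ g, thAlt χ g = (ψ : G → ℂ) g := by
  classical
  haveI := Fintype.ofFinite L23.K
  haveI := Fintype.ofFinite L11.K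
  haveI := Fintype.ofFinite L7.K
  haveI := Fintype.ofFinite L5.K
  obtain ⟨hE, ha⟩ := mem_S hG hD L23 L11 B7 B5 hχ
  obtain ⟨he7, -, -⟩ := hD.seven L7
  obtain ⟨hb, hal, hN, hA, hbar⟩ := seven_sums L7 he7 B7.phi_S B7.eO_S
    (sign_S hG hD L23 L11 B7 B5) B7.WS hE ha
  obtain ⟨e23, K23⟩ := hD.twenty_three L23
  obtain ⟨e11, K11⟩ := hD.eleven L11
  have v23 : ∀ u ∈ pNe L23, (χ : G → ℂ) u = (-1 : ℤ) := fun u hu => by
    refine value_bot L23 K23 (by rw [hχ]; norm_num) ?_ (by rw [e23]; norm_num) hu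
    rw [osv_twenty_three hG hD, hχ]; rfl
  have v11 : ∀ u ∈ pNe L11, (χ : G → ℂ) u = (1 : ℤ) := fun u hu => by
    refine value_bot L11 K11 (by rw [hχ]; norm_num) ?_ (by rw [e11]; norm_num) hu
    rw [osv_eleven hG hD, hχ]; rfl
  have b23 : ∀ u ∈ pNe L23, ∀ k : L23.K, u * (k : G) = u := fun u _ k => by
    rw [show (k : G) = 1 from Subgroup.mem_bot.1 (K23 ▸ k.2 : (k : G) ∈ (⊥ : Subgroup G)), mul_one]
  have b11 : ∀ u ∈ pNe L11, ∀ k : L11.K, u * (k : G) = u := fun u _ k => by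
    rw [show (k : G) = 1 from Subgroup.mem_bot.1 (K11 ▸ k.2 : (k : G) ∈ (⊥ : Subgroup G)), mul_one]
  have v5 : ∀ u ∈ pNe L5, ∀ k ∈ L5.K, (χ : G → ℂ) (u * k) = 0 := fun u hu k hk =>
    value_zero L5 (by rw [show Cfsg.charDegree (χ : G → ℂ) = 45 from hχ]; norm_num) hu hk
  have h1 : (χ : G → ℂ) 1 = 45 := by
    rw [← Blocks.charDegree_cast, show Cfsg.charDegree (χ : G → ℂ) = 45 from hχ, Nat.cast_ofNat]
  refine ⟨?_, ?_⟩
  · refine Exists.elim (constituent hG hD B7 B5 (L23 := L23) (L11 := L11) (thBar_char χ) (c := 1)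
      (by rw [thBar_inner_one, Nat.cast_one]) (D := 2024) (by simp only [thBar, h1, map_ofNat]; norm_num) le_rfl
      (rows := rowTab) (fun r hr _ => hr) (by decide) combos_bar ?_ ?_ ?_ ?_ ?_ ?_)
      fun ψ h => ⟨ψ, congrArg Prod.fst h.1, fun g => by rw [h.2 g, Nat.cast_one]⟩
    · rw [secSum_const L23 (c := 1) fun u hu k => by simp [thBar, b23 u hu k, v23 u hu]]
      norm_num
    · rw [secSum_const L11 (c := 1) fun u hu k => by simp [thBar, b11 u hu k, v11 u hu]]
      norm_num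
    · rw [secSum_indep L7 (O0 L7) _ hb, if_pos rfl, hN]; simp
    · rw [secSum_indep L7 B7.S _ hb, if_neg B7.ne_S]; simp
    · rw [secSum_indep L7 B7.T _ hb, if_neg B7.ne_T]; simp
    · rw [secSum_const L5 (c := 0) fun u hu k => by simp [thBar, v5 u hu k k.2]]
      norm_num
  · refine Exists.elim (constituent hG hD B7 B5 (L23 := L23) (L11 := L11) (thAlt_char χ) (c := 0)
      (by rw [thAlt_inner_one χ hbar, Nat.cast_zero]) (D := 990) (by simp [thAlt, h1]; norm_num) (by norm_num)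
      (rows := rowTab.filter fun x => x.1 ≤ 990) (fun r hr h => by simp [List.mem_filter, hr, h])
      (by decide) combos_alt ?_ ?_ ?_ ?_ ?_ ?_)
      fun ψ h => ⟨ψ, congrArg Prod.fst h.1, fun g => by rw [h.2 g, Nat.cast_zero, zero_add]⟩
    · rw [secSum_const L23 (c := 1) fun u hu k => by
        simp [thAlt, b23 u hu k, v23 u hu, v23 _ (sq_mem_pNe L23 (by norm_num) hu)]]
      norm_num
    · rw [secSum_const L11 (c := 0) fun u hu k => by
        simp [thAlt, b11 u hu k, v11 u hu, v11 _ (sq_mem_pNe L11 (by norm_num) hu)]]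
      norm_num
    · rw [secSum_indep L7 (O0 L7) _ hal, if_pos rfl, hA]; norm_num
    · rw [secSum_indep L7 B7.S _ hal, if_neg B7.ne_S]; simp
    · rw [secSum_indep L7 B7.T _ hal, if_neg B7.ne_T]; simp
    · rw [secSum_const L5 (c := 0) fun u hu k => by
        simp only [thAlt, sq_section L5 hu k.2, v5 u hu k k.2,
          v5 _ (sq_mem_pNe L5 (by norm_num) hu) _ (Subgroup.mul_mem _ k.2 k.2)]
        norm_num]
      norm_num

end Applications

end CfsgLib.MTwentyFourUnique
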