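import Cfsg.Agent.MTwentyFourUnique.Tensor
import Cfsg.Agent.MTwentyFourUnique.LocalThree
import Cfsg.Agent.ClassPairs.Basic
import Cfsg.Agent.GaloisAverage.Basic

/-!
There are exactly two classes of elements of order three, with centralizers of orders 1080 and 504.
-/

set_option autoImplicit false
set_option linter.style.haveILetI false
set_option linter.unusedSectionVars false
set_option maxHeartbeats 800000
set_option synthInstance.maxSize 1024
set_option synthInstance.maxHeartbeats 100000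

open Cfsg CfsgLib.Characters CfsgLib.DefectOne CfsgLib.BrauerOrderP
open CfsgLib.MTwentyThreeUnique (pNe mem_pNe card_pNe)
open scoped ComplexConjugate

namespace CfsgLib.MTwentyFourUnique

universe u

/-- Four times the class sum, with the value `t` of a character of degree 45. -/
def fourF (t : ℤ) : ℤ :=
  4 * 244823040 - 236544 * (t ^ 2 + t) ^ 2 + 4 * 120960 * (t ^ 2 - 1) ^ 2 - 247296 * (t ^ 2 - t) ^ 2

/-- The conditions on the order of the centralizer and on the value. -/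
def threeOk (p base : ℕ) (S : ℤ) (cGood : ℕ) (tGood : ℤ) (c : ℕ) (t : ℤ) : Bool :=
  c % base != 0 || (c / base) % p != 1 || decide (c * 712448 < 244823040) ||
    (45 + 2 * t + S) % (3 * p : ℤ) != 0 ||
    decide ((4 * c : ℤ) < 4 + 8 * t ^ 2 + (t ^ 2 + t) ^ 2 + 4 * (t ^ 2 - 1) ^ 2 + 2 * (t ^ 2 - t) ^ 2) ||
    decide (fourF t < 0) || (9 * fourF t) % ((c : ℤ) ^ 2) != 0 || (c == cGood && t == tGood)

theorem three_check :
    ∀ d₁ ∈ Nat.divisors 1024, ∀ d₂ ∈ Nat.divisors 945, ∀ i ∈ List.range 63,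
      (threeOk 5 30 0 1080 0 (d₁ * d₂) ((i : ℤ) - 31) &&
        threeOk 7 63 (-9) 504 3 (d₁ * d₂) ((i : ℤ) - 31)) = true := by
  decide +kernel

theorem eval_three {c : ℕ} {t : ℤ} (hc : c ∣ 1024 * 945) (ht : t ^ 2 ≤ 985) :
    threeOk 5 30 0 1080 0 c t = true ∧ threeOk 7 63 (-9) 504 3 c t = true := by
  obtain ⟨d₁, d₂, h₁, h₂, rfl⟩ := Nat.dvd_mul.1 hc
  have h1 : -31 ≤ t := by nlinarith
  have h2 : t ≤ 31 := by nlinarith
  have h := three_check d₁ (Nat.mem_divisors.2 ⟨h₁, by norm_num⟩) d₂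
    (Nat.mem_divisors.2 ⟨h₂, by norm_num⟩) (t + 31).toNat (List.mem_range.2 (by omega))
  rw [show (((t + 31).toNat : ℕ) : ℤ) - 31 = t by omega] at h
  simpa using h

variable {G : Type u} [Group G] [Fintype G]

/-- The value at a real element of order three is an integer. -/
theorem exists_int_three {χ : G → ℂ} (hχ : Cfsg.IsCharacter G χ) {g : G} (hg : orderOf g = 3)
    (hr : IsConj g g⁻¹) : ∃ v : ℤ, χ g = v := by
  classical
  set H := Subgroup.zpowers g with hH
  haveI := Fintype.ofFinite H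
  obtain ⟨m, hm⟩ := classInner_characters (isCharacter_restrict H hχ)
    (isCharacter_of_isIrr (isIrr_one (G := H)))
  rw [Cfsg.classInner] at hm
  simp only [map_one, mul_one] at hm
  obtain ⟨n, ρ, hρ⟩ := hχ
  have hcf : χ g⁻¹ = χ g := (classFunction_isConj
    (isClassFunction_of_isCharacter ⟨n, ρ, hρ⟩) hr).symm
  have hsum : ∑ y : H, χ y = ∑ k ∈ Finset.range 3, χ (g ^ k) := by
    rw [← hg, ← Fin.sum_univ_eq_sum_range (fun k => χ (g ^ k))]
    exact (Fintype.sum_equiv (finEquivZPowers (isOfFinOrder_of_finite g)) _ _ fun k => rfl).symm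
  have h1 : χ 1 = (n : ℂ) := by rw [← hρ, Representation.char_one, Module.finrank_fin_fun]
  have hg2 : g ^ 2 = g⁻¹ := eq_inv_of_mul_eq_one_left (by
    rw [← pow_succ]; exact orderOf_dvd_iff_pow_eq_one.1 (by rw [hg]))
  rw [show Nat.card H = 3 by rw [hH, Nat.card_zpowers, hg], hsum, Finset.sum_range_succ,
    Finset.sum_range_succ, Finset.sum_range_succ, Finset.sum_range_zero, zero_add, pow_zero, pow_one,
    hg2, hcf, h1, inv_mul_eq_iff_eq_mul₀ (by norm_num)] at hm
  have hq : χ g = (((3 * (m : ℚ) - n) / 2 : ℚ) : ℂ) := by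
    push_cast at hm ⊢
    linear_combination hm / 2
  have hi : IsIntegral ℤ (χ g) := hρ ▸ Characters.char_isIntegral ρ g
  rw [hq] at hi
  obtain ⟨v, hv⟩ := GaloisAverage.exists_int_of_isIntegral_ratCast hi
  exact ⟨v, hq.trans hv⟩

/-- One square in the column of an element. -/
theorem sum_sq_le (z : G) (s : Finset (IrrCharacter G)) :
    ∑ χ ∈ s, Complex.normSq ((χ : G → ℂ) z) ≤
      (Nat.card (Subgroup.centralizer ({z} : Set G)) : ℝ) := by
  have h := sum_irr_mul_conj_of_isConj (IsConj.refl z)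
  simp only [Complex.mul_conj] at h
  rw [← Complex.ofReal_sum] at h
  have h' : ∑ χ : IrrCharacter G, Complex.normSq ((χ : G → ℂ) z) =
      (Nat.card (Subgroup.centralizer ({z} : Set G)) : ℝ) := Complex.ofReal_injective (by rw [h]; simp)
  rw [← h']
  exact Finset.sum_le_univ_sum_of_nonneg fun χ => Complex.normSq_nonneg _

theorem normSq_int (v : ℤ) : Complex.normSq (v : ℂ) = (v : ℝ) * v := by
  rw [show (v : ℂ) = ((v : ℝ) : ℂ) by simp, Complex.normSq_ofReal]

theorem sq_le_centralizer {z : G} {χ : IrrCharacter G} {v : ℤ} (h : (χ : G → ℂ) z = v) :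
    v * v ≤ (Nat.card (Subgroup.centralizer ({z} : Set G)) : ℤ) := by
  have h1 := sum_sq_le z {χ}
  rw [Finset.sum_singleton, h, normSq_int] at h1
  exact_mod_cast h1

variable [IsSimpleGroup G] (hG : Nat.card G = 244823040) (hD : LocalData G)
  [Fact (Nat.Prime 23)] [Fact (Nat.Prime 11)] [Fact (Nat.Prime 7)] [Fact (Nat.Prime 5)]
  (L23 : Local 23 G) (L11 : Local 11 G) {L7 : Local 7 G} {L5 : Local 5 G}
  (B7 : SevenBlocks L7) (B5 : FiveBlocks L5)
include hG hD L23 L11 B7 B5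

theorem centralizer_dvd {z : G} (hz : orderOf z = 3) :
    Nat.card (Subgroup.centralizer ({z} : Set G)) ∣ 1024 * 945 := by
  set c := Nat.card (Subgroup.centralizer ({z} : Set G)) with hc
  have h : c ∣ 23 * (11 * (1024 * 945)) := by
    rw [hc]
    exact (Subgroup.card_subgroup_dvd_card _).trans (by rw [hG])
  have c23 : Nat.Coprime c 23 :=
    ((show Nat.Prime 23 by norm_num).coprime_iff_not_dvd.2
      (not_dvd_centralizer L23 (hD.twenty_three L23).2 (by norm_num) hz)).symm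
  have c11 : Nat.Coprime c 11 :=
    ((show Nat.Prime 11 by norm_num).coprime_iff_not_dvd.2
      (not_dvd_centralizer L11 (hD.eleven L11).2 (by norm_num) hz)).symm
  exact c11.dvd_of_dvd_mul_left (c23.dvd_of_dvd_mul_left h)

theorem class_bound {z : G} (hz : orderOf z = 3) :
    244823040 ≤ Nat.card (Subgroup.centralizer ({z} : Set G)) * 712448 := by
  have h := card_class_mul z
  rw [hG] at h
  rw [← hD.count_three, ← h, mul_comm]
  refine Nat.mul_le_mul le_rfl (Nat.card_le_card_of_injective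
    (fun x => (⟨x.1, ?_⟩ : {g : G // orderOf g = 3})) fun a b e =>
      Subtype.ext (congrArg (fun y : {g : G // orderOf g = 3} => y.1) e))
  obtain ⟨c, hc⟩ := isConj_iff.1 x.2
  exact ((MulAut.conj c).orderOf_eq x.1).symm.trans (by rw [MulAut.conj_apply, hc, hz])

/-- The conditions on a real element of order three. -/
theorem three_conditions {z : G} (hz : orderOf z = 3) (hr : IsConj z z⁻¹)
    {χ : IrrCharacter G} (hχ : deg χ = 45) {t : ℤ} (ht : (χ : G → ℂ) z = t) :
    (4 + 8 * t ^ 2 + (t ^ 2 + t) ^ 2 + 4 * (t ^ 2 - 1) ^ 2 + 2 * (t ^ 2 - t) ^ 2 ≤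
        (4 * Nat.card (Subgroup.centralizer ({z} : Set G)) : ℤ)) ∧
      0 ≤ fourF t ∧
      ((Nat.card (Subgroup.centralizer ({z} : Set G)) : ℤ) ^ 2 ∣ 9 * fourF t) := by
  classical
  haveI := Fintype.ofFinite L7.K
  set c := Nat.card (Subgroup.centralizer ({z} : Set G)) with hc
  obtain ⟨⟨ψ, hψ, hψv⟩, ⟨ω, hω, hωv⟩⟩ := forty_five_products hG hD L23 L11 B7 B5 hχ
  obtain ⟨hE, -⟩ := mem_S hG hD L23 L11 B7 B5 hχ
  have h7 : ¬ 7 ∣ orderOf z := by rw [hz]; norm_num
  have hinv : (χ : G → ℂ) z⁻¹ = t :=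
    (classFunction_isConj (isClassFunction_of_isIrr χ.2) hr).symm.trans ht
  have hzz : z * z = z⁻¹ := eq_inv_of_mul_eq_one_left (by
    rw [← pow_two, ← pow_succ]; exact orderOf_dvd_iff_pow_eq_one.1 (by rw [hz]))
  have hb : (ψ : G → ℂ) z = ((t ^ 2 - 1 : ℤ) : ℂ) := by
    have h := hψv z
    simp only [thBar, ht, map_intCast] at h
    push_cast
    linear_combination -h
  have hw : (ω : G → ℂ) z = ((t ^ 2 - t : ℤ) : ℂ) / 2 := by
    have h := hωv z
    simp only [thAlt, ht, hzz, hinv] at h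
    push_cast
    linear_combination -h
  -- the principal family at seven
  obtain ⟨one, A, B, hC, hone, hA, hB⟩ : ∃ one A B : IrrCharacter G,
      B7.W0.C = {one, A, B} ∧ deg one = 1 ∧ deg A = 1035 ∧ deg B = 2024 := by
    have get : ∀ d ∈ ([1, 1035, 2024] : List ℕ), ∃ φ ∈ B7.W0.C, deg φ = d := fun d hd => by
      have h : d ∈ B7.W0.C.val.map deg := by rw [B7.C0]; exact hd
      obtain ⟨φ, h1, h2⟩ := Multiset.mem_map.1 h
      exact ⟨φ, h1, h2⟩
    obtain ⟨one, h1, d1⟩ := get 1 (by simp)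
    obtain ⟨A, h2, d2⟩ := get 1035 (by simp)
    obtain ⟨B, h3, d3⟩ := get 2024 (by simp)
    refine ⟨one, A, B, (Finset.eq_of_subset_of_card_le ?_ ?_).symm, d1, d2, d3⟩
    · simp [Finset.insert_subset_iff, h1, h2, h3]
    · have hcard : B7.W0.C.card = 3 := by
        rw [Finset.card_def, ← Multiset.card_map deg, B7.C0]; rfl
      rw [hcard, Finset.card_insert_of_notMem, Finset.card_pair]
      · exact fun e => by rw [e, d3] at d2; omega
      · simp only [Finset.mem_insert, Finset.mem_singleton]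
        rintro (e | e) <;> rw [e] at d1 <;> omega
  have hBψ : B = ψ := eq_of_deg hG hD (by decide +kernel) hB hψ
  have h1v : (one : G → ℂ) z = 1 := congrFun (eq_one_of_deg hG hone) z
  have hmemC : one ∈ B7.W0.C ∧ A ∈ B7.W0.C ∧ B ∈ B7.W0.C := by rw [hC]; simp
  have sC : ∀ φ ∈ B7.W0.C, osv L7 (O0 L7) φ = 6 * rsgn 7 1 (deg φ) := fun φ h => by
    rw [(B7.W0.res_C (ophi_one L7) (by norm_num) h).1]; norm_num
  have he7 : L7.eO (O0 L7) = 3 := by
    have h := orbCard_mul_eO L7 (O0 L7)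
    rw [orbCard_O0, (hD.seven L7).1, one_mul] at h
    exact h
  have hωE : ω ∈ B7.W0.E :=
    E_of_deg hG hD B7.W0 B7.y0 (by rw [B7.E0]; decide +kernel) hω
  have sE : ∀ φ ∈ B7.W0.E, osv L7 (O0 L7) φ = -3 := fun φ h => by
    rw [B7.W0.sv_E φ h, he7,
      ← (B7.W0.res_E (r := 4) (ophi_one L7) (by norm_num) (by rw [he7]) h).1,
      B7.y0]
    decide
  have vE : ∀ φ ∈ B7.W0.E, (φ : G → ℂ) z = ((t ^ 2 - t : ℤ) : ℂ) / 2 := fun φ h =>
    (B7.W0.reg_E φ h ω hωE z h7).trans hw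
  have hoA : osv L7 (O0 L7) A = -6 := by rw [sC A hmemC.2.1, hA]; decide
  have hoB : osv L7 (O0 L7) B = 6 := by rw [sC B hmemC.2.2, hB]; decide
  have ho1 : osv L7 (O0 L7) one = 6 := by rw [sC one hmemC.1, hone]; decide
  have hne1A : one ∉ ({A, B} : Finset (IrrCharacter G)) := by
    simp only [Finset.mem_insert, Finset.mem_singleton]
    rintro (e | e) <;> rw [e] at hone <;> omega
  have hneAB : A ≠ B := fun e => by rw [e] at hA; omega
  have hsumob : ∀ f : IrrCharacter G → ℂ, ∑ φ ∈ ob L7 (O0 L7), f φ =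
      f one + (f A + f B) + ∑ φ ∈ B7.W0.E, f φ := fun f => by
    rw [B7.W0.ob_eq, Finset.sum_disjUnion, hC, Finset.sum_insert hne1A, Finset.sum_pair hneAB]
  have ha : (A : G → ℂ) z = ((t ^ 2 + t : ℤ) : ℂ) / 2 := by
    have h := relation L7 (O0 L7) h7
    rw [hsumob, ho1, hoA, hoB, h1v, hBψ, hb,
      Finset.sum_congr rfl (g := fun _ => (-3 : ℂ) * (((t ^ 2 - t : ℤ) : ℂ) / 2)) fun φ hφ => by
        rw [sE φ hφ, vE φ hφ]; push_cast; ring, Finset.sum_const, B7.E0, nsmul_eq_mul] at h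
    push_cast at h ⊢
    linear_combination -h / 6
  have half : ∀ v : ℤ, Complex.normSq ((v : ℂ) / 2) = (v : ℝ) * v / 4 := fun v => by
    rw [map_div₀, normSq_int]
    norm_num
  refine ⟨?_, ?_⟩
  · have h45 : ∀ φ ∈ B7.WS.E, (φ : G → ℂ) z = t := fun φ h =>
      (B7.WS.reg_E φ h χ hE z h7).trans ht
    have hd1 : Disjoint B7.W0.C B7.W0.E := B7.W0.disj
    have hd2 : Disjoint (B7.W0.C ∪ B7.W0.E) B7.WS.E := by
      refine Finset.disjoint_left.2 fun φ h h' => B7.ne_S ?_
      refine ob_disjoint L7 B7.S (B7.WS.mem_E h') (O' := O0 L7) ?_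
      rcases Finset.mem_union.1 h with h | h
      · exact B7.W0.mem_C h
      · exact B7.W0.mem_E h
    have h := sum_sq_le z ((B7.W0.C ∪ B7.W0.E) ∪ B7.WS.E)
    rw [Finset.sum_union hd2, Finset.sum_union hd1, hC, Finset.sum_insert hne1A,
      Finset.sum_pair hneAB, Finset.sum_congr rfl fun φ hφ => by rw [vE φ hφ, half],
      Finset.sum_congr (s₁ := B7.WS.E) rfl fun φ hφ => by rw [h45 φ hφ, normSq_int],
      Finset.sum_const, Finset.sum_const, B7.E0, B7.ES, h1v, ha, hBψ, hb, half, normSq_int,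
      Complex.normSq_one, nsmul_eq_mul, nsmul_eq_mul] at h
    have h' : ((4 + 8 * t ^ 2 + (t ^ 2 + t) ^ 2 + 4 * (t ^ 2 - 1) ^ 2 + 2 * (t ^ 2 - t) ^ 2 : ℤ) : ℝ) ≤
        ((4 * c : ℤ) : ℝ) := by
      push_cast at h ⊢
      nlinarith [h]
    exact_mod_cast h'
  -- the class sum
  set S : Finset G := (Finset.univ : Finset L7.K).biUnion
    fun k => (pNe L7).image fun u => u * (k : G) with hS
  have hinj : ∀ χ' : IrrCharacter G, ∑ s ∈ S, conj ((χ' : G → ℂ) s) =
      (Nat.card L7.K : ℂ) * (osv L7 (O0 L7) χ' : ℂ) := by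
    intro χ'
    rw [hS, Finset.sum_biUnion]
    · rw [Finset.sum_congr rfl (g := fun k : L7.K => ∑ u ∈ pNe L7, conj ((χ' : G → ℂ) (u * (k : G))))
        fun k _ => Finset.sum_image (f := fun x => conj ((χ' : G → ℂ) x)) (g := fun u => u * (k : G))
          fun x _ y _ e => mul_right_cancel e, Finset.sum_comm]
      have h := congrArg conj (secSum_irr L7 (O0 L7) χ')
      rw [map_mul, map_natCast, map_intCast, secSum, map_sum] at h
      rw [← h]
      refine Finset.sum_congr rfl fun u _ => ?_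
      rw [map_sum]
      refine Finset.sum_congr rfl fun k _ => ?_
      rw [out_O0, oneK_apply, map_one, mul_one]
    · intro k _ k' _ hne
      refine Finset.disjoint_left.2 fun x hx hx' => hne ?_
      simp only [Finset.mem_image] at hx hx'
      obtain ⟨u, hu, rfl⟩ := hx
      obtain ⟨u', hu', he'⟩ := hx'
      exact Subtype.ext (L7.ext_mul ((mem_pNe L7).1 hu').1 k'.2 ((mem_pNe L7).1 hu).1 k.2 he').2.symm
  have key := ClassPairs.card_pairs z z S
  obtain ⟨M, hM, hdvd⟩ : ∃ M : ℕ, (∑ a : G, ∑ b : G,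
      if a * z * a⁻¹ * (b * z * b⁻¹) ∈ S then (1 : ℂ) else 0) = (M : ℂ) ∧ c ^ 2 ∣ M := by
    set hh : G → ℕ := fun g => ∑ b : G, if g * (b * z * b⁻¹) ∈ S then 1 else 0 with hhdef
    have hd : ∀ g, c ∣ hh g := fun g =>
      dvd_sum_conj z (fun w => if g * w ∈ S then 1 else 0)
    obtain ⟨q, hq⟩ := dvd_sum_conj z (fun g => hh g / c)
    refine ⟨∑ a : G, hh (a * z * a⁻¹), ?_, ?_⟩
    · push_cast [hhdef]
      rfl
    · refine ⟨q, ?_⟩
      rw [Finset.sum_congr rfl (g := fun a => c * (hh (a * z * a⁻¹) / c)) fun a _ =>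
        (Nat.mul_div_cancel' (hd _)).symm, ← Finset.mul_sum, hq, ← hc]
      ring
  rw [hM, Finset.sum_congr rfl fun χ' _ => by rw [hinj χ'],
    ← Finset.sum_subset (Finset.subset_univ (ob L7 (O0 L7))) (fun χ' _ hχ' => by
      rw [osv_eq_zero L7 _ hχ', Int.cast_zero, mul_zero, zero_mul]), hsumob,
    Finset.sum_congr (s₁ := B7.W0.E) rfl (g := fun _ => (Nat.card L7.K : ℂ) * (-3 : ℂ) *
      (((t ^ 2 - t : ℤ) : ℂ) / 2 * (((t ^ 2 - t : ℤ) : ℂ) / 2) / 990)) fun φ hφ => by
        rw [sE φ hφ, vE φ hφ, ← Blocks.charDegree_cast,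
          show Cfsg.charDegree (φ : G → ℂ) = 990 from (B7.W0.deg_E φ hφ).trans B7.y0]
        norm_num,
    Finset.sum_const, B7.E0, nsmul_eq_mul, ho1, hoA, hoB, h1v, ha, hBψ, hb,
    show (one : G → ℂ) 1 = 1 from congrFun (eq_one_of_deg hG hone) 1,
    show (A : G → ℂ) 1 = 1035 by
      rw [← Blocks.charDegree_cast, show Cfsg.charDegree (A : G → ℂ) = 1035 from hA, Nat.cast_ofNat],
    show (ψ : G → ℂ) 1 = 2024 by
      rw [← Blocks.charDegree_cast, show Cfsg.charDegree (ψ : G → ℂ) = 2024 from hψ, Nat.cast_ofNat],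
    hG, (hD.seven L7).2.1] at key
  have hMF : (M : ℤ) = 9 * fourF t := by
    apply Int.cast_injective (α := ℂ)
    simp only [fourF]
    push_cast at key ⊢
    linear_combination key
  refine ⟨by omega, ?_⟩
  rw [← hMF]
  exact_mod_cast hdvd

theorem forty_five_exists : ∃ χ : IrrCharacter G, deg χ = 45 :=
  exists_deg hG hD (by decide +kernel)

/-- The centralizer order and the value from the local congruences. -/
theorem three_pins {z : G} (hz : orderOf z = 3) (hr : IsConj z z⁻¹)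
    {χ : IrrCharacter G} (hχ : deg χ = 45) {t : ℤ} (ht : (χ : G → ℂ) z = t) {m : ℕ}
    {p base : ℕ} {S : ℤ} {cGood : ℕ} {tGood : ℤ}
    (hcase : ∀ c t', c ∣ 1024 * 945 → t' ^ 2 ≤ 985 → threeOk p base S cGood tGood c t' = true)
    (hm : m % p = 1) (hb : 0 < base)
    (hc : Nat.card (Subgroup.centralizer ({z} : Set G)) = m * base)
    (hcong : (3 * p : ℤ) ∣ 45 + 2 * t + S) :
    Nat.card (Subgroup.centralizer ({z} : Set G)) = cGood ∧ t = tGood := by
  obtain ⟨h1, h2, h3⟩ := three_conditions hG hD L23 L11 B7 B5 hz hr hχ ht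
  set c := Nat.card (Subgroup.centralizer ({z} : Set G)) with hcdef
  have hcd := centralizer_dvd hG hD L23 L11 B7 B5 hz
  rw [← hcdef] at hcd
  have hcle : (c : ℤ) ≤ 967680 := by
    have := Nat.le_of_dvd (by norm_num) hcd
    omega
  have ht2 : t ^ 2 ≤ 985 := by nlinarith [sq_nonneg (t ^ 2 + t), sq_nonneg (t ^ 2 - t)]
  have h := hcase c t hcd ht2
  simp only [threeOk, Bool.or_eq_true, bne_iff_ne, decide_eq_true_eq, Bool.and_eq_true,
    beq_iff_eq] at h
  have hbound := class_bound hG hD L23 L11 B7 B5 hz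
  rw [← hcdef] at hbound
  rcases h with ((((((h | h) | h) | h) | h) | h) | h) | h
  · exact absurd (by rw [hc, Nat.mul_mod_left]) h
  · exact absurd (by rw [hc, Nat.mul_div_cancel _ hb, hm]) h
  · omega
  · exact absurd (Int.emod_eq_zero_of_dvd hcong) h
  · omega
  · omega
  · exact absurd (Int.emod_eq_zero_of_dvd h3) h
  · exact h

theorem fixed_cube {φ : IrrCharacter L7.K}
    (hφ : ∀ k : L7.K, (φ : L7.K → ℂ) (k * k) = 1) {k : L7.K} (hk : orderOf k = 3) :
    (φ : L7.K → ℂ) k = 1 := by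
  have h4 : k = k * k * (k * k) := by
    rw [show k * k * (k * k) = k ^ 3 * k by simp [pow_succ, mul_assoc], ← hk, pow_orderOf_eq_one,
      one_mul]
  rw [h4]
  exact hφ _

/-- The two classes of elements of order three. -/
theorem three_classes : ∃ (z₅ : L5.K) (z₇ : L7.K), orderOf z₅ = 3 ∧ orderOf z₇ = 3 ∧
    IsConj (z₅ : G) (z₅ : G)⁻¹ ∧ IsConj (z₇ : G) (z₇ : G)⁻¹ ∧
    Nat.card (Subgroup.centralizer ({(z₅ : G)} : Set G)) = 1080 ∧
    Nat.card (Subgroup.centralizer ({(z₇ : G)} : Set G)) = 504 ∧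
    ∀ g : G, orderOf g = 3 → IsConj g z₅ ∨ IsConj g z₇ := by
  classical
  haveI := Fintype.ofFinite L7.K
  haveI := L7.finite_lam
  letI := Fintype.ofFinite L7.Lam
  obtain ⟨he5, hK5, -, h35⟩ := hD.five L5
  obtain ⟨he7, hK7, hnc⟩ := hD.seven L7
  obtain ⟨z₅, hz5, hr5, m5, hm5, hc5⟩ := five_three L5 B5.ne_A B5.phi_A B5.eO_A he5 hK5 h35
  obtain ⟨z₇, hz7, hr7, m7, hm7, hc7⟩ := seven_three L7 he7 hK7 hnc
  have o5 : orderOf (z₅ : G) = 3 := by rw [Subgroup.orderOf_coe, hz5]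
  have o7 : orderOf (z₇ : G) = 3 := by rw [Subgroup.orderOf_coe, hz7]
  obtain ⟨χ, hχ⟩ := forty_five_exists hG hD L23 L11 B7 B5
  obtain ⟨t5, ht5⟩ := exists_int_three (isCharacter_of_isIrr χ.2) o5 hr5
  obtain ⟨t7, ht7⟩ := exists_int_three (isCharacter_of_isIrr χ.2) o7 hr7
  have ht5' : (χ : G → ℂ) (z₅ : G)⁻¹ = t5 :=
    (classFunction_isConj (isClassFunction_of_isIrr χ.2) hr5).symm.trans ht5
  have ht7' : (χ : G → ℂ) (z₇ : G)⁻¹ = t7 :=
    (classFunction_isConj (isClassFunction_of_isIrr χ.2) hr7).symm.trans ht7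
  have hdvd : 5 ∣ Cfsg.charDegree (χ : G → ℂ) := by
    rw [show Cfsg.charDegree (χ : G → ℂ) = 45 from hχ]; norm_num
  have h5 : (3 * 5 : ℤ) ∣ 45 + 2 * t5 + 0 := by
    have h := three_congr L5 hz5 (A := 0) (B := 0) ht5 ht5'
      (by rw [Int.cast_zero]; exact Finset.sum_eq_zero fun u hu =>
        (congrArg (χ : G → ℂ) (mul_one u).symm).trans (value_zero L5 hdvd hu (Subgroup.one_mem _)))
      (by rw [Int.cast_zero]; exact Finset.sum_eq_zero fun u hu => value_zero L5 hdvd hu z₅.2)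
      (by rw [Int.cast_zero]; exact Finset.sum_eq_zero fun u hu =>
        value_zero L5 hdvd hu (Subgroup.inv_mem _ z₅.2))
    rw [show Cfsg.charDegree (χ : G → ℂ) = 45 from hχ] at h
    simpa using h
  have h7 : (3 * 7 : ℤ) ∣ 45 + 2 * t7 + -9 := by
    obtain ⟨hE, ha⟩ := mem_S hG hD L23 L11 B7 B5 hχ
    have hs := sign_S hG hD L23 L11 B7 B5
    have h1 : L7.orbCard B7.S = 1 := by
      have := orbCard_mul_eO L7 B7.S
      rw [B7.eO_S, he7] at this
      omega
    have hd : ((Quotient.out B7.S : IrrCharacter L7.K) : L7.K → ℂ) 1 = 1 := by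
      have h := B7.phi_S
      rw [ophi, h1, one_mul] at h
      rw [← Blocks.charDegree_cast, h, Nat.cast_one]
    have hob : χ ∈ ob L7 B7.S := B7.WS.mem_E hE
    have hA : ∑ u ∈ pNe L7, (χ : G → ℂ) u = ((-3 : ℤ) : ℂ) := by
      rw [sum_pNe_ob L7 hob, B7.phi_S, B7.WS.sv_E χ hE, B7.eO_S, ha]
      norm_num
    have hB : ∀ k : L7.K, orderOf k = 3 → ∑ u ∈ pNe L7, (χ : G → ℂ) (u * k) = ((-3 : ℤ) : ℂ) := by
      intro k hk
      rw [← hA]
      refine Finset.sum_congr rfl fun u hu => ?_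
      rw [value_mul L7 h1 hd hob hu k,
        fixed_cube hG hD L23 L11 B7 B5 (fun k => (hs k).1) hk, one_mul]
    have hB' := hB z₇⁻¹ (by rw [orderOf_inv, hz7])
    rw [InvMemClass.coe_inv] at hB'
    have h := three_congr L7 hz7 ht7 ht7' hA (hB z₇ hz7) hB'
    rw [show Cfsg.charDegree (χ : G → ℂ) = 45 from hχ] at h
    simpa [add_assoc] using h
  obtain ⟨c5, -⟩ := three_pins hG hD L23 L11 B7 B5 o5 hr5 hχ ht5
    (fun c t' hc ht => (eval_three hc ht).1) hm5 (by norm_num) hc5 h5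
  obtain ⟨c7, -⟩ := three_pins hG hD L23 L11 B7 B5 o7 hr7 hχ ht7
    (fun c t' hc ht => (eval_three hc ht).2) hm7 (by norm_num) hc7 h7
  refine ⟨z₅, z₇, hz5, hz7, hr5, hr7, c5, c7, ?_⟩
  have s5 := card_class_mul (z₅ : G)
  have s7 := card_class_mul (z₇ : G)
  rw [c5, hG] at s5
  rw [c7, hG] at s7
  have hne : ¬ IsConj (z₅ : G) (z₇ : G) := fun h => by
    have heq : Nat.card {g : G // IsConj g (z₅ : G)} = Nat.card {g : G // IsConj g (z₇ : G)} :=
      Nat.card_congr (Equiv.subtypeEquivRight fun g => ⟨fun h' => h'.trans h, fun h' => h'.trans h.symm⟩)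
    omega
  set T := Finset.univ.filter fun g : G => orderOf g = 3 with hT
  have hord : ∀ {g x : G}, IsConj g x → orderOf g = orderOf x := fun {g x} h => by
    obtain ⟨c, rfl⟩ := isConj_iff.1 h
    exact ((MulAut.conj c).orderOf_eq g).symm
  have hsub : Finset.univ.filter (fun g : G => IsConj g (z₅ : G) ∨ IsConj g (z₇ : G)) = T := by
    refine Finset.eq_of_subset_of_card_le (fun g hg => ?_) ?_
    · rcases (Finset.mem_filter.1 hg).2 with h | h
      · exact Finset.mem_filter.2 ⟨Finset.mem_univ _, (hord h).trans o5⟩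
      · exact Finset.mem_filter.2 ⟨Finset.mem_univ _, (hord h).trans o7⟩
    · have hT' : T.card = 712448 := by
        rw [hT, ← hD.count_three, Nat.card_eq_fintype_card, Fintype.card_subtype]
      rw [Nat.card_eq_fintype_card, Fintype.card_subtype] at s5 s7
      rw [hT', Finset.filter_or, Finset.card_union_of_disjoint (Finset.disjoint_filter.2
        fun g _ h h' => hne (h.symm.trans h'))]
      omega
  intro g hg
  have := (SetLike.ext_iff.1 hsub g).2 (Finset.mem_filter.2 ⟨Finset.mem_univ _, hg⟩)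
  exact (Finset.mem_filter.1 this).2

end CfsgLib.MTwentyFourUnique
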