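import Cfsg.Agent.MTwentyFourUnique.TraceLemma
import Cfsg.Agent.MTwentyThreeUnique.NormalForm

/-!
A representation of degree 23 in characteristic two in which an element of order 23 is regular: it
has a constituent of degree 11 over the field with two elements, unless the trace is symmetrized.
-/

set_option autoImplicit false
set_option linter.style.haveILetI false
set_option linter.unusedSectionVars false
set_option maxHeartbeats 800000

namespace CfsgLib.MTwentyFourUnique

open MonoidAlgebra CfsgLib.MTwentyThreeUnique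

universe u v

/-- The indices. -/
abbrev I23 : Type := Option (Fin 11 ⊕ Fin 11)

/-- The exponents, with zero. -/
def expoOpt : I23 → ℕ := fun p => p.elim 0 expo

/-- The index of the inverse eigenvalue. -/
def negIdx : I23 → I23 := fun p => p.map fun s => s.elim Sum.inr Sum.inl

theorem expoOpt_lt : ∀ p, expoOpt p < 23 := by decide +kernel

theorem expoOpt_inj : Function.Injective expoOpt := by decide +kernel

theorem expoOpt_neg : ∀ p, (expoOpt p + expoOpt (negIdx p)) % 23 = 0 := by decide +kernel

theorem negIdx_negIdx : ∀ p, negIdx (negIdx p) = p := by decide +kernel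

variable {G : Type u} [Group G] {k : Type v} [Field k] [CharP k 2]

theorem exists_eigenvector23 (A : Matrix I23 I23 k) (h23 : A ^ 23 = 1)
    (htr : ∀ j, 0 < j → j < 23 → (A ^ j).trace = 0) {ω : k} (hω1 : ω ^ 23 = 1) :
    ∃ v : I23 → k, v ≠ 0 ∧ A.mulVec v = ω • v := by
  classical
  set E : Matrix I23 I23 k := ∑ j ∈ Finset.range 23, ω ^ (22 * j) • A ^ j with hE
  have htrE : E.trace = 1 := by
    rw [hE, Matrix.trace_sum, ← Finset.add_sum_erase _ _ (Finset.mem_range.2 (by norm_num : 0 < 23)),
      Finset.sum_eq_zero fun j hj => by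
        obtain ⟨h0, hj⟩ := Finset.mem_erase.1 hj
        rw [Matrix.trace_smul, htr j (Nat.pos_of_ne_zero h0) (Finset.mem_range.1 hj), smul_zero]]
    have h23' : ((23 : ℕ) : k) = 1 := by
      rw [show (23 : ℕ) = 2 * 11 + 1 by norm_num, Nat.cast_add, Nat.cast_mul]
      simp [CharTwo.two_eq_zero]
    simpa [show Fintype.card I23 = 23 by simp [I23]] using h23'
  have hAE : A * E = ω • E := by
    rw [hE, Finset.mul_sum, Finset.smul_sum]
    have hs : ∀ j, A * (ω ^ (22 * j) • A ^ j) = ω • (ω ^ (22 * (j + 1)) • A ^ (j + 1)) := fun j => by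
      rw [Matrix.mul_smul, ← pow_succ', smul_smul, mul_comm ω, ← pow_succ,
        show 22 * (j + 1) + 1 = 22 * j + 23 by ring, pow_add ω, hω1, mul_one]
    rw [Finset.sum_congr rfl fun j _ => hs j, ← Finset.smul_sum, ← Finset.smul_sum]
    congr 1
    rw [Finset.sum_range_succ _ 22]
    conv_rhs => rw [Finset.sum_range_succ' _ 22]
    congr 1
    rw [show 22 + 1 = 23 by norm_num, h23, mul_comm 22 23, pow_mul, hω1, one_pow]
    simp
  obtain ⟨p, q, hpq⟩ : ∃ p q, E p q ≠ 0 := by
    by_contra! h
    have : E = 0 := Matrix.ext h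
    rw [this, Matrix.trace_zero] at htrE
    exact zero_ne_one htrE
  refine ⟨fun r => E r q, fun h => hpq (congrFun h p), funext fun r => ?_⟩
  exact congrFun (congrFun hAE r) q

/-- The normal form. -/
theorem exists_normal_form23 (σ : G →* Matrix I23 I23 k) {ζ : k}
    (hζ : IsPrimitiveRoot ζ 23) {a β : G} (ha : a ^ 23 = 1) (hβ : β ^ 11 = 1)
    (hab : β⁻¹ * a * β = a ^ 2) (htr : ∀ j, 0 < j → j < 23 → (σ (a ^ j)).trace = 0) :
    ∃ P : Matrix I23 I23 k, IsUnit P.det ∧
      P⁻¹ * σ a * P = Matrix.diagonal (fun p => ζ ^ expoOpt p) ∧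
      (∀ x q, (P⁻¹ * σ β * P) x (some q) = if x = some (shiftSum q) then 1 else 0) ∧
      ∀ x, x ≠ none → (P⁻¹ * σ β * P) x none = 0 := by
  classical
  set A := σ a with hA
  set B := σ β with hB
  have hA23 : A ^ 23 = 1 := by rw [hA, ← map_pow, ha, map_one]
  have hB11 : B ^ 11 = 1 := by rw [hB, ← map_pow, hβ, map_one]
  have htrA : ∀ j, 0 < j → j < 23 → (A ^ j).trace = 0 := fun j h1 h2 => by
    rw [hA, ← map_pow]; exact htr j h1 h2
  have hAB : A * B = B * A ^ 2 := by
    rw [hA, hB, ← map_pow, ← map_mul, ← map_mul, ← hab]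
    congr 1
    group
  obtain ⟨v0, hv0, hAv0⟩ := exists_eigenvector23 A hA23 htrA hζ.pow_eq_one
  obtain ⟨w0, hw0, hAw0⟩ := exists_eigenvector23 A hA23 htrA
    (hζ.pow_of_coprime 22 (by norm_num)).pow_eq_one
  obtain ⟨z0, hz0, hAz0⟩ := exists_eigenvector23 A hA23 htrA (ω := (1 : k)) (one_pow _)
  let vs : Fin 11 ⊕ Fin 11 → (I23 → k) :=
    Sum.elim (fun i => (B ^ i.val).mulVec v0) (fun i => (B ^ i.val).mulVec w0)
  let vec : I23 → (I23 → k) := fun p => p.elim z0 vs
  have hshift : ∀ p, B.mulVec (vs p) = vs (shiftSum p) := by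
    rintro (i | i) <;>
    · show B.mulVec ((B ^ i.val).mulVec _) = (B ^ (i + 1 : Fin 11).val).mulVec _
      rw [Matrix.mulVec_mulVec, ← pow_succ', succ_mod_eleven, ← pow_eq_pow_mod _ hB11]
  have hstep : ∀ (v : I23 → k) (e : k), A.mulVec v = e • v →
      A.mulVec (B.mulVec v) = e ^ 2 • B.mulVec v := fun v e h => by
    rw [Matrix.mulVec_mulVec, hAB, ← Matrix.mulVec_mulVec, sq A, ← Matrix.mulVec_mulVec, h,
      Matrix.mulVec_smul, h, smul_smul, Matrix.mulVec_smul, sq]
  have hind : ∀ (m : ℕ) (v : I23 → k) (e : k), A.mulVec v = e • v →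
      A.mulVec ((B ^ m).mulVec v) = e ^ 2 ^ m • (B ^ m).mulVec v := by
    intro m
    induction m with
    | zero => intro v e h; simpa using h
    | succ m ih =>
      intro v e h
      rw [pow_succ', ← Matrix.mulVec_mulVec, hstep _ _ (ih v e h), ← pow_mul, pow_succ]
  have heig : ∀ p, A.mulVec (vec p) = ζ ^ expoOpt p • vec p := by
    rintro (_ | i | i)
    · show A.mulVec z0 = ζ ^ 0 • z0
      rw [pow_zero]; exact hAz0
    · show A.mulVec ((B ^ i.val).mulVec v0) = ζ ^ (2 ^ i.val % 23) • (B ^ i.val).mulVec v0
      rw [hind _ _ _ hAv0, ← pow_eq_pow_mod _ hζ.pow_eq_one]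
    · show A.mulVec ((B ^ i.val).mulVec w0) = ζ ^ (22 * 2 ^ i.val % 23) • (B ^ i.val).mulVec w0
      rw [hind _ _ _ hAw0, ← pow_eq_pow_mod _ hζ.pow_eq_one, ← pow_mul]
  have hne : ∀ p, vec p ≠ 0 := by
    have hinv : ∀ (i : ℕ) (v : I23 → k), i ≤ 11 → v ≠ 0 → (B ^ i).mulVec v ≠ 0 :=
      fun i v hi hv h => hv (by
        have := congrArg ((B ^ (11 - i)).mulVec) h
        rwa [Matrix.mulVec_mulVec, ← pow_add, Nat.sub_add_cancel hi, hB11, Matrix.one_mulVec,
          Matrix.mulVec_zero] at this)
    rintro (_ | i | i)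
    · exact hz0
    · exact hinv _ _ i.2.le hv0
    · exact hinv _ _ i.2.le hw0
  let P : Matrix I23 I23 k := Matrix.of fun q p => vec p q
  have hdinj : Function.Injective fun p => ζ ^ expoOpt p :=
    fun p q h => expoOpt_inj (hζ.pow_inj (expoOpt_lt _) (expoOpt_lt _) h)
  have hP : IsUnit P := by
    rw [← Matrix.linearIndependent_cols_iff_isUnit]
    refine Module.End.eigenvectors_linearIndependent' (Matrix.toLin' A) (fun p => ζ ^ expoOpt p)
      hdinj _ fun p => ⟨?_, hne p⟩
    rw [Module.End.mem_genEigenspace_one, Matrix.toLin'_apply]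
    exact heig p
  have hPd := (Matrix.isUnit_iff_isUnit_det P).1 hP
  have hdiag : P⁻¹ * A * P = Matrix.diagonal (fun p => ζ ^ expoOpt p) := by
    have h : A * P = P * Matrix.diagonal (fun p => ζ ^ expoOpt p) := by
      ext q p
      rw [Matrix.mul_diagonal]
      exact (congrFun (heig p) q).trans (mul_comm _ _)
    rw [Matrix.mul_assoc, h, ← Matrix.mul_assoc, Matrix.nonsing_inv_mul _ hPd, Matrix.one_mul]
  refine ⟨P, hPd, hdiag, fun x q => ?_, fun x hx => ?_⟩
  · have h : ∀ y, (B * P) y (some q) = P y (some (shiftSum q)) := fun y => congrFun (hshift q) y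
    rw [Matrix.mul_assoc, Matrix.mul_apply, Finset.sum_congr rfl fun y _ => by rw [h y],
      ← Matrix.mul_apply, Matrix.nonsing_inv_mul _ hPd, Matrix.one_apply]
  · set M := P⁻¹ * B * P with hM
    have hconj : ∀ X Y : Matrix I23 I23 k, P⁻¹ * X * P * (P⁻¹ * Y * P) = P⁻¹ * (X * Y) * P := fun X Y => by
      rw [show P⁻¹ * X * P * (P⁻¹ * Y * P) = P⁻¹ * X * (P * P⁻¹) * (Y * P) by
        simp only [Matrix.mul_assoc], Matrix.mul_nonsing_inv _ hPd, Matrix.mul_one]
      simp only [Matrix.mul_assoc]
    have h : (P⁻¹ * A * P) * M = M * ((P⁻¹ * A * P) * (P⁻¹ * A * P)) := by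
      rw [hM, hconj, hconj, hconj, hAB, sq]
    rw [hdiag, Matrix.diagonal_mul_diagonal] at h
    have h' := congrFun (congrFun h x) none
    rw [Matrix.diagonal_mul, Matrix.mul_diagonal, show expoOpt (none : I23) = 0 from rfl, pow_zero,
      one_mul, mul_one] at h'
    by_contra hne'
    have h1 : ζ ^ expoOpt x = 1 := mul_left_eq_self₀.1 h' |>.resolve_right hne'
    exact hx (hdinj (h1.trans (pow_zero ζ).symm))

/-- A sum over the indices. -/
theorem sum_I23 {M : Type*} [AddCommMonoid M] (f : I23 → M) :
    ∑ p, f p = f none + ((∑ i, f (some (Sum.inl i))) + ∑ i, f (some (Sum.inr i))) := by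
  rw [Fintype.sum_option, Fintype.sum_sum_type]

/-- From the normal form to the small representation. -/
theorem exists_rho_of_three [Finite G] (hhom : ∀ φ : G →* k, φ = 1)
    (σ : G →* Matrix I23 I23 k) {ζ : k} (hζ : IsPrimitiveRoot ζ 23) {a β : G}
    (ha : σ a = Matrix.diagonal fun p => ζ ^ expoOpt p)
    (hβs : ∀ x q, σ β x (some q) = if x = some (shiftSum q) then 1 else 0)
    (hβn : ∀ x, x ≠ none → σ β x none = 0)
    (hinv : ∀ g, (σ g⁻¹).trace = (σ g).trace) (f : G → k) (hf : ∀ g h, f (h * g * h⁻¹) = f g)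
    (h01 : ∀ g, f g = 0 ∨ f g = 1) {N : ℕ} (hN0 : 0 < N) (hN : ∀ g, f (g ^ 2 ^ N) = f g)
    (ht : ∀ g, (σ g).trace = f g + f g⁻¹ + 1)
    (hsq : ∀ g, (σ g).trace ^ 2 = (σ g).trace) :
    ∃ rho : G →* GL (Fin 11) (ZMod 2), rho a ≠ 1 := by
  classical
  set R := (ext' σ).range with hR
  set d : I23 → k := fun p => ζ ^ expoOpt p with hd
  have hdinj : Function.Injective d :=
    fun p q h => expoOpt_inj (hζ.pow_inj (expoOpt_lt _) (expoOpt_lt _) h)
  have hdiag := single_diag_mem R hdinj (ha ▸ ext'_mem σ a)
  have hpick : ∀ (M : Matrix I23 I23 k), M ∈ R → ∀ p q, M p q ≠ 0 → Matrix.single p q (1 : k) ∈ R := by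
    intro M hM p q hpq
    have h := Subalgebra.smul_mem R (mul_mem (mul_mem (hdiag p) hM) (hdiag q)) (M p q)⁻¹
    rwa [Matrix.single_mul_mul_single, one_mul, mul_one, Matrix.smul_single, smul_eq_mul,
      inv_mul_cancel₀ hpq] at h
  let pr : I23 → I23 → Prop := fun p q => Matrix.single p q (1 : k) ∈ R
  have trans : ∀ {p q r}, pr p q → pr q r → pr p r := fun {p q r} h h' => by
    have := mul_mem h h'
    rwa [Matrix.single_mul_single_same, mul_one] at this
  have hpick' : ∀ g p q, σ g p q ≠ 0 → pr p q := fun g => hpick _ (ext'_mem σ g)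
  have hstep : ∀ q, pr (some (shiftSum q)) (some q) := fun q =>
    hpick' β _ _ (by rw [hβs, if_pos rfl]; exact one_ne_zero)
  have hiter : ∀ (m : ℕ) q, pr (some (shiftSum^[m] q)) (some q) := by
    intro m
    induction m with
    | zero => intro q; exact hdiag _
    | succ m ih => intro q; rw [Function.iterate_succ_apply']; exact trans (hstep _) (ih q)
  have hl : ∀ x y : Fin 11, pr (some (Sum.inl x)) (some (Sum.inl y)) := fun x y => by
    have h := hiter (x - y).val (Sum.inl y)
    rwa [(shiftSum_iterate _ _).1, add_sub_cancel] at h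
  have hr : ∀ x y : Fin 11, pr (some (Sum.inr x)) (some (Sum.inr y)) := fun x y => by
    have h := hiter (x - y).val (Sum.inr y)
    rwa [(shiftSum_iterate _ _).2, add_sub_cancel] at h
  -- the trace is invariant under inversion
  have htbar : ∀ x, (ext' σ (bar x)).trace = (ext' σ x).trace := by
    intro x
    induction x using MonoidAlgebra.induction_linear with
    | zero => simp
    | add u v hu hv => simp only [map_add, Matrix.trace_add, hu, hv]
    | single g c =>
      rw [bar_single, show single g⁻¹ c = c • (single g⁻¹ (1 : k) : MonoidAlgebra k G) by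
        rw [smul_single, smul_eq_mul, mul_one], show single g c = c • (single g (1 : k) : MonoidAlgebra k G) by
        rw [smul_single, smul_eq_mul, mul_one], map_smul, map_smul, Matrix.trace_smul, Matrix.trace_smul,
        ext'_single, ext'_single, hinv]
  -- the idempotents of the eigenvalues
  let eP : I23 → MonoidAlgebra k G := fun p => Polynomial.aeval (single a (1 : k)) (Lagrange.basis Finset.univ d p)
  have hdneg : ∀ p, d (negIdx p) * d p = 1 := fun p => by
    simp only [hd]
    rw [← pow_add, pow_eq_pow_mod _ hζ.pow_eq_one, add_comm, expoOpt_neg, pow_zero]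
  have hval : ∀ (c : I23 → k) (s : I23 → I23), (∀ q, c q = d (s q)) → ∀ p,
      Polynomial.aeval (Matrix.diagonal c) (Lagrange.basis Finset.univ d p) =
        Matrix.diagonal fun q => if s q = p then (1 : k) else 0 := by
    intro c s hs p
    rw [show Matrix.diagonal c = Matrix.diagonalAlgHom k c from rfl, Polynomial.aeval_algHom_apply,
      Matrix.diagonalAlgHom_apply]
    congr 1
    funext q
    rw [Polynomial.aeval_fn_apply, Polynomial.coe_aeval_eq_eval, hs]
    split_ifs with h
    · rw [h]; exact Lagrange.eval_basis_self hdinj.injOn (Finset.mem_univ p)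
    · exact Lagrange.eval_basis_of_ne (Ne.symm h) (Finset.mem_univ _)
  have heP : ∀ p, ext' σ (eP p) = Matrix.single p p 1 := by
    intro p
    rw [← Polynomial.aeval_algHom_apply, ext'_single, ha, hval d id (fun q => rfl) p]
    ext i j
    by_cases hij : i = j
    · subst hij; simp [Matrix.single_apply, eq_comm]
    · rw [Matrix.diagonal_apply_ne _ hij, Matrix.single_apply,
        if_neg fun h => hij (h.1.symm.trans h.2)]
  have hbarP : ∀ P : Polynomial k, bar (Polynomial.aeval (single a (1 : k)) P) =
      Polynomial.aeval (single a⁻¹ (1 : k) : MonoidAlgebra k G) P := by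
    intro P
    induction P using Polynomial.induction_on' with
    | add u v hu hv => rw [map_add, map_add, hu, hv, map_add]
    | monomial m c =>
      rw [Polynomial.aeval_monomial, Polynomial.aeval_monomial, ← Algebra.smul_def, ← Algebra.smul_def,
        map_smul, single_pow, single_pow, bar_single, inv_pow]
  have hePbar : ∀ p, ext' σ (bar (eP p)) = Matrix.single (negIdx p) (negIdx p) 1 := by
    intro p
    have hainv : σ a⁻¹ = Matrix.diagonal fun q => d (negIdx q) := by
      have h1 : σ a⁻¹ * σ a = 1 := by rw [← map_mul, inv_mul_cancel, map_one]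
      have h2 : σ a * (Matrix.diagonal fun q => d (negIdx q)) = 1 := by
        rw [ha, Matrix.diagonal_mul_diagonal, ← Matrix.diagonal_one]
        exact congrArg _ (funext fun q => (mul_comm _ _).trans (hdneg q))
      calc σ a⁻¹ = σ a⁻¹ * (σ a * Matrix.diagonal fun q => d (negIdx q)) := by rw [h2, mul_one]
        _ = _ := by rw [← mul_assoc, h1, one_mul]
    rw [hbarP, ← Polynomial.aeval_algHom_apply, ext'_single, hainv, hval _ negIdx (fun q => rfl) p]
    ext i j
    by_cases hij : i = j
    · subst hij
      rw [Matrix.diagonal_apply_eq, Matrix.single_apply]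
      refine if_congr ⟨fun h => ?_, fun h => ?_⟩ rfl rfl
      · rw [← h, negIdx_negIdx]; exact ⟨rfl, rfl⟩
      · rw [← h.1, negIdx_negIdx]
    · rw [Matrix.diagonal_apply_ne _ hij, Matrix.single_apply,
        if_neg fun h => hij (h.1.symm.trans h.2)]
  -- joined to zero on one side, then on both
  have hswap : ∀ p, pr none p → pr p none → pr none (negIdx p) ∧ pr (negIdx p) none := by
    intro p h1 h2
    obtain ⟨x, hx⟩ := h1
    obtain ⟨y, hy⟩ := h2
    replace hx : ext' σ x = Matrix.single none p 1 := hx
    replace hy : ext' σ y = Matrix.single p none 1 := hy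
    have h := htbar (eP none * x * eP p * (eP p * y * eP none))
    simp only [bar_mul, map_mul, heP, hePbar, hx, hy, show negIdx (none : I23) = none from rfl] at h
    have hne : ext' σ (bar y) none (negIdx p) * ext' σ (bar x) (negIdx p) none ≠ 0 := by
      intro h0
      simp only [← Matrix.mul_assoc, Matrix.single_mul_single_same, mul_one, Matrix.trace_single_eq_same] at h
      rw [Matrix.trace] at h
      simp [Matrix.mul_apply, Matrix.single_apply, h0, Matrix.diag] at h
      generalize negIdx p = q at h h0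
      rcases q with _ | q | q <;> simp [h0] at h
    exact ⟨hpick _ ⟨bar y, rfl⟩ _ _ (left_ne_zero_of_mul hne),
      hpick _ ⟨bar x, rfl⟩ _ _ (right_ne_zero_of_mul hne)⟩
  have hnone : ∀ p : Fin 11 ⊕ Fin 11, ¬ (pr none (some p) ∧ pr (some p) none) := by
    rintro p ⟨h1, h2⟩
    obtain ⟨h3, h4⟩ := hswap _ h1 h2
    have hall : ∀ q, pr none (some q) ∧ pr (some q) none := by
      rcases p with i | i <;> rintro (j | j)
      exacts [⟨trans h1 (hl i j), trans (hl j i) h2⟩, ⟨trans h3 (hr i j), trans (hr j i) h4⟩,
        ⟨trans h3 (hl i j), trans (hl j i) h4⟩, ⟨trans h1 (hr i j), trans (hr j i) h2⟩]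
    refine trace_not_symmetrized_add (ext' σ) ((AlgHom.range_eq_top _).1
      (eq_top_of_singles R ?_)) f hf h01 hN0 hN 1 (fun g => by rw [ext'_single, ht]) (a := a) ?_
    · rintro (_ | x) (_ | y)
      exacts [hdiag _, (hall y).1, (hall x).2, trans (hall x).2 (hall y).1]
    · rw [ext'_single, ha]
      intro h
      have h' := congrFun (congrFun h (some (Sum.inl 0))) (some (Sum.inl 0))
      rw [Matrix.diagonal_apply_eq, Matrix.one_apply_eq] at h'
      exact absurd (hdinj (h'.trans (pow_zero ζ).symm : d (some (Sum.inl 0)) = d none)) (by simp)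
  -- the corner at zero is trivial
  have hoo : ∀ g, σ g none none = 1 := by
    let φ : G →* k :=
      { toFun := fun g => σ g none none
        map_one' := by rw [map_one, Matrix.one_apply_eq]
        map_mul' := fun g h => by
          rw [map_mul, Matrix.mul_apply, Fintype.sum_option, add_eq_left]
          refine Finset.sum_eq_zero fun p _ => ?_
          by_contra hne
          exact hnone p ⟨hpick' g _ _ (left_ne_zero_of_mul hne), hpick' h _ _ (right_ne_zero_of_mul hne)⟩ }
    intro g
    exact DFunLike.congr_fun (hhom φ) g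
  by_cases hLR : pr (some (Sum.inl 0)) (some (Sum.inr 0)) ∧ pr (some (Sum.inr 0)) (some (Sum.inl 0))
  · exfalso
    have hall : ∀ p q : Fin 11 ⊕ Fin 11, pr (some p) (some q) := by
      rintro (i | i) (j | j)
      exacts [hl i j, trans (hl i 0) (trans hLR.1 (hr 0 j)), trans (hr i 0) (trans hLR.2 (hl 0 j)), hr i j]
    let σs : G →* Matrix (Fin 11 ⊕ Fin 11) (Fin 11 ⊕ Fin 11) k :=
      { toFun := fun g => (σ g).submatrix some some
        map_one' := by rw [map_one, Matrix.submatrix_one _ (Option.some_injective _)]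
        map_mul' := fun g h => by
          ext p q
          rw [Matrix.submatrix_apply, map_mul, Matrix.mul_apply, Fintype.sum_option, Matrix.mul_apply]
          simp only [Matrix.submatrix_apply]
          rw [add_eq_right]
          by_contra hne
          exact hnone p ⟨trans (hpick' h _ _ (right_ne_zero_of_mul hne)) (hall q p),
            hpick' g _ _ (left_ne_zero_of_mul hne)⟩ }
    have hext : ∀ x, ext' σs x = (ext' σ x).submatrix some some := by
      intro x
      induction x using MonoidAlgebra.induction_linear with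
      | zero => simp
      | add u v hu hv => rw [map_add, map_add, hu, hv]; rfl
      | single g c =>
        rw [show single g c = c • (single g (1 : k) : MonoidAlgebra k G) by
          rw [smul_single, smul_eq_mul, mul_one], map_smul, map_smul, ext'_single, ext'_single]
        rfl
    refine trace_not_symmetrized (ext' σs) ((AlgHom.range_eq_top _).1 (eq_top_of_singles _ ?_)) f hf h01
      hN0 hN fun g => ?_
    · intro p q
      obtain ⟨x, hx⟩ := hall p q
      refine ⟨x, (hext x).trans ?_⟩
      rw [show ext' σ x = Matrix.single (some p) (some q) (1 : k) from hx]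
      ext i j
      simp [Matrix.single_apply]
    · have h := ht g
      rw [Matrix.trace, Fintype.sum_option, Matrix.diag_apply, hoo] at h
      rw [ext'_single]
      show ∑ p, σ g (some p) (some p) = _
      simp only [Matrix.diag_apply] at h
      linear_combination h
  have hblk : ∀ (g h : G) (p q r : Fin 11 ⊕ Fin 11), pr (some q) (some p) →
      (¬ pr (some p) (some r) ∨ ¬ pr (some r) (some p)) → pr (some r) (some r) →
      σ g (some p) (some r) * σ h (some r) (some q) = 0 := by
    intro g h p q r hqp hor _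
    by_contra hne
    have h1 := hpick' g _ _ (left_ne_zero_of_mul hne)
    have h2 := trans (hpick' h _ _ (right_ne_zero_of_mul hne)) hqp
    rcases hor with h' | h' <;> [exact h' h1; exact h' h2]
  have hzero : ∀ (g h : G) (p q : Fin 11 ⊕ Fin 11), pr (some q) (some p) →
      σ g (some p) none * σ h none (some q) = 0 := by
    intro g h p q hqp
    by_contra hne
    exact hnone p ⟨trans (hpick' h _ _ (right_ne_zero_of_mul hne)) hqp,
      hpick' g _ _ (left_ne_zero_of_mul hne)⟩
  have hcross : ∀ i j : Fin 11, ¬ (pr (some (Sum.inl i)) (some (Sum.inr j)) ∧ pr (some (Sum.inr j)) (some (Sum.inl i))) :=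
    fun i j h => hLR ⟨trans (hl 0 i) (trans h.1 (hr j 0)), trans (hr 0 j) (trans h.2 (hl i 0))⟩
  let τ : G →* Matrix (Fin 11) (Fin 11) k :=
    { toFun := fun g => (σ g).submatrix (some ∘ Sum.inl) (some ∘ Sum.inl)
      map_one' := by rw [map_one, Matrix.submatrix_one _ ((Option.some_injective _).comp Sum.inl_injective)]
      map_mul' := fun g h => by
        ext p q
        rw [Matrix.submatrix_apply, map_mul, Matrix.mul_apply, sum_I23, Matrix.mul_apply]
        simp only [Matrix.submatrix_apply, Function.comp_apply]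
        rw [hzero g h _ _ (hl q p), zero_add, add_eq_left]
        refine Finset.sum_eq_zero fun r _ => hblk g h _ _ _ (hl q p) ?_ (hdiag _)
        exact not_and_or.1 (hcross p r) }
  let τ' : G →* Matrix (Fin 11) (Fin 11) k :=
    { toFun := fun g => (σ g).submatrix (some ∘ Sum.inr) (some ∘ Sum.inr)
      map_one' := by rw [map_one, Matrix.submatrix_one _ ((Option.some_injective _).comp Sum.inr_injective)]
      map_mul' := fun g h => by
        ext p q
        rw [Matrix.submatrix_apply, map_mul, Matrix.mul_apply, sum_I23, Matrix.mul_apply]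
        simp only [Matrix.submatrix_apply, Function.comp_apply]
        rw [hzero g h _ _ (hr q p), zero_add, add_eq_right]
        refine Finset.sum_eq_zero fun r _ => hblk g h _ _ _ (hr q p) ?_ (hdiag _)
        exact (not_and_or.1 (hcross r p)).symm }
  refine descent τ τ' hζ (a := a) (β := β) ?_ ?_ ?_ fun g => ?_
  · show (σ a).submatrix _ _ = _
    rw [ha, Matrix.submatrix_diagonal _ _ ((Option.some_injective _).comp Sum.inl_injective)]
    rfl
  · ext i j
    show σ β (some (Sum.inl i)) (some (Sum.inl j)) = _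
    rw [hβs, permMat, Matrix.of_apply]
    simp [shiftSum]
  · show (σ a).submatrix _ _ = _
    rw [ha, Matrix.submatrix_diagonal _ _ ((Option.some_injective _).comp Sum.inr_injective)]
    rfl
  · have h : (σ g).trace = 1 + ((τ g).trace + (τ' g).trace) := by
      rw [Matrix.trace, sum_I23, Matrix.diag_apply, hoo]
      rfl
    have h2 := hsq g
    rw [h, CharTwo.add_sq, one_pow] at h2
    linear_combination h2

end CfsgLib.MTwentyFourUnique
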