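import Cfsg.Agent.MTwentyThreeUnique.TraceLemma

/-!
In characteristic two the trace of an absolutely irreducible non-trivial representation is not the
sum of a class function with values 0 and 1 (constant along a fixed power map), its composite with
inversion, and a constant.
-/

set_option autoImplicit false
set_option linter.style.haveILetI false
set_option linter.unusedSectionVars false

namespace CfsgLib.MTwentyFourUnique

open MonoidAlgebra CfsgLib.MTwentyThreeUnique

universe u v w

variable {G : Type u} [Group G] {k : Type v} [Field k] [CharP k 2] {n : Type w} [Fintype n] [DecidableEq n]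

/-- The key statement, with a constant added. -/
theorem trace_not_symmetrized_add [Finite G] [Nonempty n]
    (ρ : MonoidAlgebra k G →ₐ[k] Matrix n n k) (hsurj : Function.Surjective ρ) (f : G → k)
    (hf : ∀ g h, f (h * g * h⁻¹) = f g) (h01 : ∀ g, f g = 0 ∨ f g = 1) {N : ℕ} (hN0 : 0 < N)
    (hN : ∀ g, f (g ^ 2 ^ N) = f g)
    (c₁ : k) (ht : ∀ g, (ρ (single g 1)).trace = f g + f g⁻¹ + c₁) {a : G}
    (ha : ρ (single a 1) ≠ 1) : False := by
  classical
  haveI := Fintype.ofFinite G
  set U := functional f with hU
  set t : MonoidAlgebra k G →ₗ[k] k := (Matrix.traceLinearMap n k k).comp ρ.toLinearMap with ht'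
  have htap : ∀ x, t x = (ρ x).trace := fun x => rfl
  set ε : MonoidAlgebra k G →ₐ[k] k := MonoidAlgebra.lift k k G 1 with hε
  have hεsingle : ∀ g c, ε (single g c) = c := fun g c => by simp [hε]
  have hεbar : ∀ x, ε (bar x) = ε x := by
    intro x
    induction x using MonoidAlgebra.induction_linear with
    | zero => simp
    | add a b ha hb => rw [map_add, map_add, ha, hb, map_add]
    | single g c => rw [bar_single, hεsingle, hεsingle]
  have hsplit : ∀ x, t x = U x + U (bar x) + c₁ * ε x := by
    intro x
    induction x using MonoidAlgebra.induction_linear with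
    | zero => simp
    | add a b ha hb => rw [map_add, ha, hb, map_add, map_add, map_add, map_add, mul_add]; abel
    | single g c =>
      rw [bar_single, hU, functional_single, functional_single, hεsingle, mul_comm c₁, ← mul_add,
        ← mul_add, ← ht g,
        show single g c = c • (single g (1 : k) : MonoidAlgebra k G) by
          rw [smul_single, smul_eq_mul, mul_one], map_smul, htap, smul_eq_mul]
  have htbar : ∀ x, t (bar x) = t x := fun x => by
    rw [hsplit, hsplit, bar_bar, hεbar, add_comm (U (bar x))]
  -- the kernel is stable under inversion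
  have hnd : ∀ M : Matrix n n k, (∀ P, (M * P).trace = 0) → M = 0 := by
    intro M hM
    ext i j
    have := hM (Matrix.single j i 1)
    simpa [Matrix.trace_mul_single] using this
  have hker : ∀ x, ρ x = 0 → ρ (bar x) = 0 := by
    intro x hx
    refine hnd _ fun P => ?_
    obtain ⟨y, rfl⟩ := hsurj P
    rw [← map_mul, ← htap, ← htbar, bar_mul, bar_bar, htap, map_mul, hx, Matrix.mul_zero,
      Matrix.trace_zero]
  let K : Submodule k (MonoidAlgebra k G) := LinearMap.ker ρ.toLinearMap
  have hK : ∀ x, x ∈ K ↔ ρ x = 0 := fun x => LinearMap.mem_ker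
  -- the orthogonal of the kernel
  let φ : MonoidAlgebra k G →ₗ[k] Module.Dual k K :=
    { toFun := fun x => (U.comp (LinearMap.mulLeft k x)).comp K.subtype
      map_add' := fun x y => by ext z; simp [add_mul]
      map_smul' := fun c x => by ext z; simp }
  have hφ : ∀ x, x ∈ LinearMap.ker φ ↔ ∀ z, ρ z = 0 → U (x * z) = 0 := fun x => by
    rw [LinearMap.mem_ker]
    refine ⟨fun h z hz => ?_, fun h => LinearMap.ext fun z => h z ((hK z).1 z.2)⟩
    exact LinearMap.congr_fun h ⟨z, (hK z).2 hz⟩
  -- where the kernel meets its orthogonal the functional degenerates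
  have hdeg : ∀ x, x ∈ LinearMap.ker φ → ρ x = 0 → ∀ y, U (x * y) = 0 := by
    intro x hx hx0 y
    have h1 : U ((x * y) ^ 2 ^ N) = 0 := by
      obtain ⟨m, hm⟩ := Nat.exists_eq_add_of_le (show 2 ≤ 2 ^ N from
        Nat.le_self_pow (Nat.pos_iff_ne_zero.1 hN0) 2)
      rw [hm, pow_add, sq, mul_assoc, mul_assoc]
      refine (hφ x).1 hx _ ?_
      rw [map_mul, map_mul, map_mul, hx0]
      simp
    rw [hU, functional_pow N hf h01] at h1
    rw [funext hN] at h1
    exact eq_zero_of_pow_eq_zero h1
  obtain ⟨z, hz, hz1⟩ : ∃ z ∈ LinearMap.ker φ, ρ z = 1 := by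
    by_cases hne : ∃ x ∈ LinearMap.ker φ, ρ x ≠ 0
    · obtain ⟨x, hx, hx0⟩ := hne
      obtain ⟨i, j, hij⟩ : ∃ i j, ρ x i j ≠ 0 := by
        by_contra! h
        exact hx0 (Matrix.ext h)
      -- the image of the orthogonal is a two-sided ideal
      have hleft : ∀ a, ∀ y ∈ LinearMap.ker φ, a * y ∈ LinearMap.ker φ := fun a y hy => by
        refine (hφ _).2 fun w hw => ?_
        rw [hU, mul_assoc, functional_comm hf, mul_assoc]
        exact (hφ y).1 hy _ (by rw [map_mul, hw, zero_mul])
      have hright : ∀ a, ∀ y ∈ LinearMap.ker φ, y * a ∈ LinearMap.ker φ := fun a y hy => by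
        refine (hφ _).2 fun w hw => ?_
        rw [mul_assoc]
        exact (hφ y).1 hy _ (by rw [map_mul, hw, mul_zero])
      choose pre hpre using fun M : Matrix n n k => hsurj M
      refine ⟨∑ l : n, pre (Matrix.single l i (ρ x i j)⁻¹) * x * pre (Matrix.single j l 1),
        Submodule.sum_mem _ fun l _ => hright _ _ (hleft _ _ hx), ?_⟩
      rw [map_sum]
      simp only [map_mul, hpre, Matrix.single_mul_mul_single, mul_one, inv_mul_cancel₀ hij]
      ext p q
      by_cases hpq : p = q
      · subst hpq; simp [Matrix.sum_apply, Matrix.single_apply]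
      · rw [Matrix.sum_apply, Matrix.one_apply_ne hpq]
        refine Finset.sum_eq_zero fun l _ => ?_
        rw [Matrix.single_apply, if_neg fun h => hpq (h.1.symm.trans h.2)]
    · exfalso
      push Not at hne
      have hsub : LinearMap.range φ ≤
          (((LinearMap.ker φ).comap K.subtype).dualAnnihilator : Submodule k (Module.Dual k K)) := by
        rintro _ ⟨x, rfl⟩
        rw [Submodule.mem_dualAnnihilator]
        intro w hw
        show U (x * w) = 0
        rw [hU, functional_comm hf]
        exact hdeg _ hw ((hK _).1 w.2) x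
      haveI : Module.Finite k (MonoidAlgebra k G) := Module.Finite.of_basis (MonoidAlgebra.basis G k)
      have h1 := Submodule.finrank_mono hsub
      have h2 := LinearMap.finrank_range_add_finrank_ker φ
      have h3 := Subspace.finrank_add_finrank_dualAnnihilator_eq ((LinearMap.ker φ).comap K.subtype)
      have h4 : Module.finrank k ((LinearMap.ker φ).comap K.subtype) =
          Module.finrank k (LinearMap.ker φ) := by
        refine LinearEquiv.finrank_eq (Submodule.comapSubtypeEquivOfLe ?_)
        exact fun x hx => (hK x).2 (hne x hx)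
      have h5 : K = ⊤ := Submodule.eq_top_of_finrank_eq (le_antisymm (Submodule.finrank_le K) (by omega))
      have h6 : ρ (1 : MonoidAlgebra k G) = 0 := (hK 1).1 (h5 ▸ Submodule.mem_top)
      rw [map_one] at h6
      exact one_ne_zero h6
  -- an element acting as the identity and killed by the augmentation
  obtain ⟨w₁, hw₁, hw1ε⟩ : ∃ w, ρ w = 1 ∧ ε w = 0 := by
    set y := single a (1 : k) - 1 with hy
    have hyne : ρ y ≠ 0 := by rw [hy, map_sub, map_one, sub_ne_zero]; exact ha
    have hyε : ε y = 0 := by rw [hy, map_sub, map_one, hεsingle, sub_self]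
    obtain ⟨i, j, hij⟩ : ∃ i j, ρ y i j ≠ 0 := by
      by_contra! h
      exact hyne (Matrix.ext h)
    choose pre hpre using fun M : Matrix n n k => hsurj M
    refine ⟨∑ l : n, pre (Matrix.single l i (ρ y i j)⁻¹) * y * pre (Matrix.single j l 1), ?_, ?_⟩
    · rw [map_sum]
      simp only [map_mul, hpre, Matrix.single_mul_mul_single, mul_one, inv_mul_cancel₀ hij]
      ext p q
      by_cases hpq : p = q
      · subst hpq; simp [Matrix.sum_apply, Matrix.single_apply]
      · rw [Matrix.sum_apply, Matrix.one_apply_ne hpq]
        refine Finset.sum_eq_zero fun l _ => ?_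
        rw [Matrix.single_apply, if_neg fun h => hpq (h.1.symm.trans h.2)]
    · rw [map_sum]
      refine Finset.sum_eq_zero fun l _ => ?_
      rw [map_mul, map_mul, hyε, mul_zero, zero_mul]
  obtain ⟨z, hz, hz1, hzε⟩ : ∃ z' ∈ LinearMap.ker φ, ρ z' = 1 ∧ ε z' = 0 := by
    refine ⟨z * w₁, (hφ _).2 fun v hv => ?_, by rw [map_mul, hz1, hw₁, mul_one],
      by rw [map_mul, hw1ε, mul_zero]⟩
    rw [mul_assoc]
    exact (hφ z).1 hz _ (by rw [map_mul, hv, mul_zero])
  -- the functional transported to the matrix algebra
  choose pre hpre using fun M : Matrix n n k => hsurj M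
  have hker0 : ∀ x, ρ x = 0 → U (z * x) = 0 := (hφ z).1 hz
  let ψ : Matrix n n k →ₗ[k] k :=
    { toFun := fun M => U (z * pre M)
      map_add' := fun M P => by
        rw [← map_add, ← mul_add]
        refine sub_eq_zero.1 ?_
        rw [← map_sub, ← mul_sub]
        exact hker0 _ (by rw [map_sub, map_add, hpre, hpre, hpre, sub_self])
      map_smul' := fun c M => by
        rw [RingHom.id_apply, ← map_smul, ← mul_smul_comm]
        refine sub_eq_zero.1 ?_
        rw [← map_sub, ← mul_sub]
        exact hker0 _ (by rw [map_sub, map_smul, hpre, hpre, sub_self]) }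
  have hψρ : ∀ x, ψ (ρ x) = U (z * x) := fun x => by
    show U (z * pre (ρ x)) = _
    refine sub_eq_zero.1 ?_
    rw [← map_sub, ← mul_sub]
    exact hker0 _ (by rw [map_sub, hpre, sub_self])
  have hcentral : ∀ a b, U (z * (a * b)) = U (z * (b * a)) := by
    intro a b
    have hd : ρ (z * b - b * z) = 0 := by rw [map_sub, map_mul, map_mul, hz1, one_mul, mul_one, sub_self]
    have hdmem : z * b - b * z ∈ LinearMap.ker φ := by
      refine (hφ _).2 fun w hw => ?_
      rw [sub_mul, map_sub, mul_assoc, (hφ z).1 hz _ (by rw [map_mul, hw, mul_zero]), zero_sub,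
        neg_eq_zero, mul_assoc, hU, functional_comm hf, mul_assoc]
      exact (hφ z).1 hz _ (by rw [map_mul, hw, zero_mul])
    have h := hdeg _ hdmem hd a
    rw [sub_mul, map_sub, sub_eq_zero, mul_assoc, mul_assoc] at h
    rw [h, hU, functional_comm hf b (z * a), mul_assoc]
  obtain ⟨i0⟩ := (inferInstance : Nonempty n)
  set c := ψ (Matrix.single i0 i0 1) with hc
  have hψcomm : ∀ M P, ψ (M * P) = ψ (P * M) := fun M P => by
    rw [← hpre M, ← hpre P, ← map_mul, ← map_mul, hψρ, hψρ, hcentral]
  have hψtr : ∀ M, ψ M = c * M.trace := by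
    intro M
    have hentry : ∀ i j, ψ (Matrix.single i j (M i j)) = if i = j then c * M i j else 0 := by
      intro i j
      rw [show Matrix.single i j (M i j) = M i j • (Matrix.single i j (1 : k)) by
        rw [Matrix.smul_single, smul_eq_mul, mul_one], map_smul, smul_eq_mul]
      by_cases h : i = j
      · subst h
        rw [if_pos rfl, mul_comm]
        congr 1
        rw [hc, show Matrix.single i i (1 : k) = Matrix.single i i0 1 * Matrix.single i0 i 1 by simp,
          hψcomm]
        simp
      · rw [if_neg h, show Matrix.single i j (1 : k) = Matrix.single i i 1 * Matrix.single i j 1 by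
          simp, hψcomm, Matrix.single_mul_single_of_ne _ _ _ _ (Ne.symm h), map_zero, mul_zero]
    conv_lhs => rw [Matrix.matrix_eq_sum_single M]
    rw [map_sum, Matrix.trace, Finset.mul_sum]
    refine Finset.sum_congr rfl fun i _ => ?_
    rw [map_sum, Finset.sum_congr rfl fun j _ => hentry i j]
    simp
  -- evaluation at a lift of a rank one idempotent
  set x := pre (Matrix.single i0 i0 (1 : k)) with hx
  have hx1 : t x = 1 := by rw [htap, hx, hpre]; simp
  have hbz : ρ (bar z) = 1 := by
    have : ρ (bar z - 1) = 0 := by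
      have h1 : bar (z - 1) = bar z - 1 := by
        rw [map_sub]
        congr 1
        rw [one_def, bar_single, inv_one]
      rw [← h1]
      exact hker _ (by rw [map_sub, hz1, map_one, sub_self])
    rwa [map_sub, map_one, sub_eq_zero] at this
  have hbzmem : bar z ∈ LinearMap.ker φ := by
    refine (hφ _).2 fun w hw => ?_
    have h1 : ρ (bar w) = 0 := hker w hw
    have h2 : U (z * bar w) = 0 := hker0 _ h1
    have h3 : t (bar z * w) = 0 := by rw [htap, map_mul, hw, Matrix.mul_zero, Matrix.trace_zero]
    rw [hsplit, bar_mul, bar_bar, hU, functional_comm hf (bar w), ← hU, h2, add_zero, map_mul ε, hεbar,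
      hzε, zero_mul, mul_zero, add_zero] at h3
    exact h3
  have hA : U (z * x) = c * 1 := by
    rw [← hψρ, hψtr, ← htap, hx1]
  have hB : U (bar (z * x)) = c * 1 := by
    have hd : U ((bar z - z) * bar x) = 0 := hdeg _ (Submodule.sub_mem _ hbzmem hz)
      (by rw [map_sub, hbz, hz1, sub_self]) _
    rw [sub_mul, map_sub, sub_eq_zero] at hd
    rw [bar_mul, hU, functional_comm hf, ← hU, hd, ← hψρ, hψtr, ← htap, htbar, hx1]
  have h := hsplit (z * x)
  rw [hA, hB, CharTwo.add_self_eq_zero, map_mul ε, hzε, zero_mul, mul_zero, add_zero, htap, map_mul, hz1, one_mul, ← htap, hx1] at h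
  exact one_ne_zero h

end CfsgLib.MTwentyFourUnique
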