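import Cfsg.Agent.MTwentyFourUnique.Orbs
import Cfsg.Agent.BrauerOrderP.Orbit
import Cfsg.Agent.MTwentyThreeUnique.ColumnFive

/-!
The values on a Sylow subgroup of prime order in terms of the orbit summaries, and the classes of its
elements.
-/

set_option autoImplicit false
set_option linter.style.haveILetI false
set_option linter.unusedSectionVars false
set_option maxHeartbeats 400000

open Cfsg CfsgLib.Characters CfsgLib.DefectOne CfsgLib.BrauerOrderP
open CfsgLib.MTwentyThreeUnique (pNe mem_pNe card_pNe)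
open scoped ComplexConjugate

namespace CfsgLib.MTwentyFourUnique

universe u

variable {G : Type u} [Group G] [Fintype G] {p : ℕ} [Fact p.Prime] (L : Local p G)

theorem sum_pNe_eq {M : Type*} [AddCommMonoid M] [Fintype (L.P : Subgroup G)]
    [DecidableEq (L.P : Subgroup G)] (f : G → M) :
    ∑ u ∈ pNe L, f u = ∑ v ∈ (Finset.univ : Finset (L.P : Subgroup G)).erase 1, f v :=
  Finset.sum_bij' (fun u hu => ⟨u, ((mem_pNe L).1 hu).1⟩) (fun v _ => (v : G))
    (fun u hu => Finset.mem_erase.2 ⟨fun e => ((mem_pNe L).1 hu).2 (congrArg Subtype.val e),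
      Finset.mem_univ _⟩)
    (fun v hv => (mem_pNe L).2 ⟨v.2, fun e => (Finset.mem_erase.1 hv).1 (Subtype.ext e)⟩)
    (fun u hu => rfl) (fun v hv => rfl) (fun u hu => rfl)

/-- The sum over the non-trivial sections against the chosen character of an orbit. -/
theorem proj [Fintype L.K] (O : L.Orb) (χ : IrrCharacter G) :
    ∑ u ∈ pNe L, ∑ k : L.K, (χ : G → ℂ) (u * k) *
        conj (((Quotient.out O : IrrCharacter L.K) : L.K → ℂ) k) =
      (Nat.card L.K : ℂ) * (osv L O χ : ℂ) := by
  classical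
  haveI := L.isMulCommutative
  haveI := L.finite_lam
  letI := Fintype.ofFinite L.Lam
  letI := Fintype.ofFinite L.PK
  haveI := Fintype.ofFinite (L.P : Subgroup G)
  haveI : Finite (↥(L.P : Subgroup G) →* ℂˣ) := BlocksFrobenius.finite_dual
  haveI := Fintype.ofFinite (↥(L.P : Subgroup G) →* ℂˣ)
  set φ : IrrCharacter L.K := Quotient.out O with hφ
  have hp0 : (p : ℂ) ≠ 0 := Nat.cast_ne_zero.2 (Fact.out : p.Prime).ne_zero
  have hkey : ∀ v : ↥(L.P : Subgroup G), ∑ l : L.Lam, (1 - conj (l.1 v : ℂ)) =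
      if v = 1 then 0 else (p : ℂ) := by
    intro v
    have h0 : ∑ l : L.Lam, (1 - conj (l.1 v : ℂ)) =
        ∑ l : (L.P : Subgroup G) →* ℂˣ, (1 - conj (l v : ℂ)) := by
      rw [← Finset.sum_subtype (Finset.univ.filter fun l : (L.P : Subgroup G) →* ℂˣ => l ≠ 1)
        (fun l => by simp) (fun l : (L.P : Subgroup G) →* ℂˣ => 1 - conj (l v : ℂ)),
        Finset.sum_filter]
      refine Finset.sum_congr rfl fun l _ => ?_
      by_cases hl : l = 1
      · simp [hl]
      · simp [hl]
    rw [h0, Finset.sum_sub_distrib, Finset.sum_const, Finset.card_univ, ← Nat.card_eq_fintype_card,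
      BlocksFrobenius.card_dual, L.card_P, nsmul_one, ← map_sum, BlocksFrobenius.sum_dual_apply]
    split_ifs with h
    · rw [L.card_P, map_natCast, sub_self]
    · rw [map_zero, sub_zero]
  have h1 : ∑ l : L.Lam, L.cvec χ (l, φ) = ((p * Nat.card L.K : ℕ) : ℂ)⁻¹ *
      ∑ v : ↥(L.P : Subgroup G), ∑ k : L.K, (if v = 1 then (0 : ℂ) else p) *
        ((χ : G → ℂ) (L.emb (v, k)) * conj ((φ : L.K → ℂ) k)) := by
    simp only [L.cvec_eq, Cfsg.classInner, L.sum_PK, L.card_PK, ← Finset.mul_sum]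
    congr 1
    rw [Finset.sum_comm]
    refine Finset.sum_congr rfl fun v _ => ?_
    rw [Finset.sum_comm]
    rw [Finset.mul_sum]
    refine Finset.sum_congr rfl fun k _ => ?_
    simp only [Local.res, Local.psi, map_mul, map_sub, map_one]
    rw [← hkey, Finset.sum_mul]
    exact Finset.sum_congr rfl fun l _ => by ring
  rw [← Finset.add_sum_erase _ _ (Finset.mem_univ (1 : ↥(L.P : Subgroup G))),
    Finset.sum_congr rfl (g := fun v : ↥(L.P : Subgroup G) => (p : ℂ) *
      ∑ k : L.K, (χ : G → ℂ) ((v : G) * k) * conj ((φ : L.K → ℂ) k)) fun v hv => ?_] at h1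
  · simp only [if_true, zero_mul, Finset.sum_const_zero, zero_add, ← Finset.mul_sum,
      ← sum_pNe_eq L fun w => ∑ k : L.K, (χ : G → ℂ) (w * k) * conj ((φ : L.K → ℂ) k)] at h1
    rw [osv_eq, Int.cast_sum, Finset.sum_congr rfl fun l _ => L.cint_colLam O χ l, ← hφ, h1]
    push_cast
    field_simp [(Nat.cast_ne_zero.2 (Nat.card_pos (α := L.K)).ne' : (Nat.card L.K : ℂ) ≠ 0)]
  · simp only [if_neg (Finset.ne_of_mem_erase hv), Finset.mul_sum, Local.emb_apply]

/-- The sum of the values on the non-trivial elements of the Sylow subgroup. -/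
theorem sum_pNe_ob {O : L.Orb} {χ : IrrCharacter G} (h : χ ∈ ob L O) :
    ∑ u ∈ pNe L, (χ : G → ℂ) u = (ophi L O : ℂ) * (osv L O χ : ℂ) := by
  classical
  haveI := L.finite_lam
  letI := Fintype.ofFinite L.Lam
  haveI := Fintype.ofFinite (L.P : Subgroup G)
  haveI := Fintype.ofFinite L.K
  have hd := L.degree_sum χ
  rw [← Finset.add_sum_erase (Finset.univ : Finset (L.P : Subgroup G))
    (fun u : (L.P : Subgroup G) => (χ : G → ℂ) u) (Finset.mem_univ 1),
    ← sum_pNe_eq L, OneMemClass.coe_one, add_right_inj] at hd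
  rw [← hd]
  obtain ⟨q, hq⟩ := (mem_ob L O).1 h
  set φ0 : IrrCharacter L.K := Quotient.out O
  have h0 : L.orb φ0 = O := Quotient.out_eq O
  have hterm : ∀ φ : IrrCharacter L.K, (φ : L.K → ℂ) 1 * ∑ l : L.Lam, L.cvec χ (l, φ) =
      if L.orb φ = O then (φ0 : L.K → ℂ) 1 * ∑ l : L.Lam, (L.cint χ (L.colLam O l).1 : ℂ) else 0 := by
    intro φ
    split_ifs with h'
    · obtain ⟨n, hn⟩ := L.orb_eq_iff.1 (h0.trans h'.symm)
      subst hn
      have h1 : (L.phiBy n φ0 : L.K → ℂ) 1 = (φ0 : L.K → ℂ) 1 :=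
        congrArg (φ0 : L.K → ℂ) (map_one (L.autK n))
      rw [h1]
      congr 1
      refine (Fintype.sum_equiv
        { toFun := fun l => L.lamBy n l
          invFun := fun l => L.lamBy n⁻¹ l
          left_inv := fun l => by
            show L.lamBy n⁻¹ (L.lamBy n l) = l
            rw [← L.lamBy_mul, mul_inv_cancel, L.lamBy_one]
          right_inv := fun l => by
            show L.lamBy n (L.lamBy n⁻¹ l) = l
            rw [← L.lamBy_mul, inv_mul_cancel, L.lamBy_one] } _ _ fun l => ?_).symm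
      rw [L.cint_colLam, ← L.cvec_pairBy χ n]
      rfl
    · refine mul_eq_zero_of_right _ (Finset.sum_eq_zero fun l _ => ?_)
      rw [← L.cint_col]
      by_contra hne
      exact h' ((L.counting.2.2.2 χ (L.col (l, φ)) _ (fun e => hne (by rw [e, Int.cast_zero])) hq).trans q.2)
  simp only [hterm, Finset.sum_ite, Finset.sum_const_zero, add_zero, Finset.sum_const, nsmul_eq_mul]
  rw [← Fintype.card_subtype, ← Nat.card_eq_fintype_card, ← Blocks.charDegree_cast φ0, ← Int.cast_sum,
    ← osv_eq, ophi, Local.orbCard, Nat.cast_mul, mul_assoc]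

theorem sum_pNe_zero {χ : IrrCharacter G} (h : p ∣ Cfsg.charDegree (χ : G → ℂ)) :
    ∑ u ∈ pNe L, (χ : G → ℂ) u = 0 := by
  classical
  haveI := L.finite_lam
  letI := Fintype.ofFinite L.Lam
  haveI := Fintype.ofFinite (L.P : Subgroup G)
  haveI := Fintype.ofFinite L.K
  have hd := L.degree_sum χ
  rw [← Finset.add_sum_erase (Finset.univ : Finset (L.P : Subgroup G))
    (fun u : (L.P : Subgroup G) => (χ : G → ℂ) u) (Finset.mem_univ 1),
    ← sum_pNe_eq L, OneMemClass.coe_one, add_right_inj] at hd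
  rw [← hd]
  refine Finset.sum_eq_zero fun φ _ => mul_eq_zero_of_right _ (Finset.sum_eq_zero fun l _ => ?_)
  rw [← L.cint_col]
  by_contra hne
  exact (L.counting.2.1 χ).2 ⟨_, fun e => hne (by rw [e, Int.cast_zero])⟩ h

/-- A class meets the non-trivial elements in `e` elements. -/
theorem card_conj_pNe {u : G} (hu : u ∈ pNe L)
    [DecidablePred (IsConj u)] : ((pNe L).filter (IsConj u)).card = e L := by
  classical
  obtain ⟨hu', hu1⟩ := (mem_pNe L).1 hu
  set C := Subgroup.centralizer ({u} : Set G) with hC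
  have hCN : C ≤ L.N := by
    rw [hC, L.centralizer_singleton hu' hu1]
    exact Subgroup.centralizer_le_normalizer _
  have hidx : (C.subgroupOf L.N).index = e L := by
    have h1 := Subgroup.index_mul_card (C.subgroupOf L.N)
    rw [Nat.card_congr (Subgroup.subgroupOfEquivOfLe hCN).toEquiv, hC,
      L.centralizer_singleton hu' hu1, L.card_centralizer, ← card_N L] at h1
    rw [hC, L.centralizer_singleton hu' hu1]
    exact Nat.eq_of_mul_eq_mul_right (mul_pos (Fact.out : p.Prime).pos (Nat.card_pos (α := L.K))) h1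
  haveI := Fintype.ofFinite (L.N ⧸ C.subgroupOf L.N)
  let φ : L.N ⧸ C.subgroupOf L.N → G := Quotient.lift (fun n : L.N => (n : G) * u * (n : G)⁻¹)
    fun a b h => by
      have hm : a⁻¹ * b ∈ C.subgroupOf L.N := QuotientGroup.leftRel_apply.1 h
      rw [Subgroup.mem_subgroupOf, hC, Subgroup.mem_centralizer_singleton_iff] at hm
      simp only [Subgroup.coe_mul, InvMemClass.coe_inv] at hm
      have h2 : (b : G) * u * (b : G)⁻¹ = (a : G) * ((a : G)⁻¹ * b * u) * (b : G)⁻¹ := by group
      rw [h2, hm]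
      group
  have hinj : Function.Injective φ := by
    intro x y
    induction x using Quotient.inductionOn with
    | _ a =>
      induction y using Quotient.inductionOn with
      | _ b =>
        intro h
        refine Quotient.sound (QuotientGroup.leftRel_apply.2 ?_)
        rw [Subgroup.mem_subgroupOf, hC, Subgroup.mem_centralizer_singleton_iff]
        simp only [Subgroup.coe_mul, InvMemClass.coe_inv]
        have h' : (a : G) * u * (a : G)⁻¹ = b * u * (b : G)⁻¹ := h
        calc (a : G)⁻¹ * b * u = (a : G)⁻¹ * ((b : G) * u * (b : G)⁻¹) * b := by group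
          _ = (a : G)⁻¹ * ((a : G) * u * (a : G)⁻¹) * b := by rw [h']
          _ = u * ((a : G)⁻¹ * b) := by group
  have himg : Finset.univ.image φ = (pNe L).filter (IsConj u) := by
    ext x
    rw [Finset.mem_image, Finset.mem_filter]
    constructor
    · rintro ⟨q, -, rfl⟩
      induction q using Quotient.inductionOn with
      | _ n => exact ⟨(mem_pNe L).2 ⟨L.conj_mem_P n.2 hu', fun h => hu1 (conj_eq_one_iff.1 h)⟩,
          isConj_iff.2 ⟨n, rfl⟩⟩
    · rintro ⟨hx, hc⟩
      obtain ⟨g, rfl⟩ := isConj_iff.1 hc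
      exact ⟨QuotientGroup.mk ⟨g, L.mem_N_of_conj hu' hu1 ((mem_pNe L).1 hx).1⟩, Finset.mem_univ _, rfl⟩
  rw [← himg, Finset.card_image_of_injective _ hinj, Finset.card_univ, ← Nat.card_eq_fintype_card,
    ← Subgroup.index_eq_card, hidx]

/-- When all non-trivial elements are conjugate the sum of values is a multiple of one value. -/
theorem sum_pNe_full (he : e L = p - 1) {u : G} (hu : u ∈ pNe L) (χ : IrrCharacter G) :
    ∑ w ∈ pNe L, (χ : G → ℂ) w = (e L : ℂ) * (χ : G → ℂ) u := by
  classical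
  have hall : (pNe L).filter (IsConj u) = pNe L := Finset.eq_of_subset_of_card_le
    (Finset.filter_subset _ _) (by rw [card_conj_pNe L hu, card_pNe L, he])
  rw [Finset.sum_congr rfl (g := fun _ => (χ : G → ℂ) u) fun w hw => ?_, Finset.sum_const,
    card_pNe L, ← he, nsmul_eq_mul]
  obtain ⟨c, rfl⟩ := isConj_iff.1 (Finset.mem_filter.1 (by rwa [← hall] at hw)).2
  exact isClassFunction_of_isIrr χ.2 _ _

/-- For an odd inertial index no element is conjugate to its inverse. -/
theorem not_isConj_inv (he : e L % 2 = 1) (hp : p ≠ 2) {u : G} (hu : u ∈ pNe L) : ¬ IsConj u u⁻¹ := by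
  classical
  intro hc
  obtain ⟨hu', hu1⟩ := (mem_pNe L).1 hu
  have hsum : ∑ _w ∈ (pNe L).filter (IsConj u), (1 : ZMod 2) = 0 := by
    refine Finset.sum_involution (fun w _ => w⁻¹) (fun w _ => by decide) (fun w hw _ h => ?_)
      (fun w hw => ?_) fun w _ => inv_inv w
    · obtain ⟨hw', hw1⟩ := (mem_pNe L).1 (Finset.mem_filter.1 hw).1
      have h2 : w ^ 2 = 1 := by rw [pow_two]; nth_rewrite 1 [← h]; exact inv_mul_cancel w
      have h3 := orderOf_dvd_of_pow_eq_one h2
      rw [L.orderOf_of_mem hw' hw1] at h3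
      exact hp ((Nat.prime_dvd_prime_iff_eq (Fact.out : p.Prime) Nat.prime_two).1 h3)
    · obtain ⟨hw, hcw⟩ := Finset.mem_filter.1 hw
      obtain ⟨hw', hw1⟩ := (mem_pNe L).1 hw
      refine Finset.mem_filter.2 ⟨(mem_pNe L).2 ⟨Subgroup.inv_mem _ hw', inv_ne_one.2 hw1⟩, ?_⟩
      obtain ⟨c, rfl⟩ := isConj_iff.1 hcw
      exact hc.trans (isConj_iff.2 ⟨c, by group⟩)
  rw [Finset.sum_const, card_conj_pNe L hu, nsmul_eq_mul, mul_one,
    ZMod.natCast_eq_zero_iff_even] at hsum
  rw [Nat.even_iff] at hsum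
  omega

/-- The inertial index half of `p - 1`: two classes, of inverse elements. -/
theorem sum_pNe_half (he : 2 * e L = p - 1) (ho : e L % 2 = 1) {u : G} (hu : u ∈ pNe L)
    (χ : IrrCharacter G) :
    ∑ w ∈ pNe L, (χ : G → ℂ) w = (e L : ℂ) * ((χ : G → ℂ) u + (χ : G → ℂ) u⁻¹) := by
  classical
  have hp : p ≠ 2 := fun h => by subst h; have := e_pos L; omega
  obtain ⟨hu', hu1⟩ := (mem_pNe L).1 hu
  have hi : u⁻¹ ∈ pNe L := (mem_pNe L).2 ⟨Subgroup.inv_mem _ hu', inv_ne_one.2 hu1⟩
  have hdis : Disjoint ((pNe L).filter (IsConj u)) ((pNe L).filter (IsConj u⁻¹)) :=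
    Finset.disjoint_left.2 fun w h h' =>
      not_isConj_inv L ho hp hu ((Finset.mem_filter.1 h).2.trans (Finset.mem_filter.1 h').2.symm)
  have hall : ((pNe L).filter (IsConj u)).disjUnion _ hdis = pNe L :=
    Finset.eq_of_subset_of_card_le (fun w hw => by
      rcases Finset.mem_disjUnion.1 hw with h | h <;> exact (Finset.mem_filter.1 h).1)
      (by rw [Finset.card_disjUnion, card_conj_pNe L hu, card_conj_pNe L hi, card_pNe L]; omega)
  conv_lhs => rw [← hall]
  rw [Finset.sum_disjUnion]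
  have hc : ∀ v ∈ pNe L, ∑ w ∈ (pNe L).filter (IsConj v), (χ : G → ℂ) w = (e L : ℂ) * (χ : G → ℂ) v := by
    intro v hv
    rw [Finset.sum_congr rfl (g := fun _ => (χ : G → ℂ) v) fun w hw => ?_, Finset.sum_const,
      card_conj_pNe L hv, nsmul_eq_mul]
    obtain ⟨c, rfl⟩ := isConj_iff.1 (Finset.mem_filter.1 hw).2
    exact isClassFunction_of_isIrr χ.2 _ _
  rw [hc u hu, hc _ hi, mul_add]

end CfsgLib.MTwentyFourUnique
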